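/-
Two factors of dimension four: the elements fixing an anisotropic line of pure tensors pointwise are factor
elements.
-/
import Cfsg.Agent.Lib.Geo.OrthWreath.Even.Test
import Cfsg.Agent.Lib.Geo.OrthTensorFour.Group

set_option autoImplicit false
set_option linter.unusedSectionVars false

namespace CfsgLib.Geo.OrthWreath

open CfsgLib.Classical CfsgLib.Classical.Quad Module
open CfsgLib.Geo.MixTensor (SymForm)
open CfsgLib.Geo.OrthTensor (exists_iso_partner)
open LinearMap (BilinForm)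

variable {F : Type*} [Field F] [Finite F] {f : BilinForm F (Ud F 4)} {hf : SymForm f}

/-- Vectors orthogonal to an isotropic vector, a partner and an anisotropic vector orthogonal to both. -/
theorem exists_frame_four (hf : SymForm f) {d z c : Ud F 4} (hd0 : d ≠ 0) (hd : f d d = 0) (hdz : f d z = 0)
    (hz : f z z ≠ 0) (hc : f c c ≠ 0) (hcd : f c d = 0) (hcz : f c z = 0) :
    ∃ e, f d e = 1 ∧ f e e = 0 ∧ f z e = 0 ∧ f c e = 0 ∧ ∀ q, f c q = 0 → ∃ r s n : F, q = r • d + s • z + n • e := by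
  have hzc : f z c = 0 := by rw [hf.symm]; exact hcz
  have hdc : f d c = 0 := by rw [hf.symm]; exact hcd
  have hzd : f z d = 0 := by rw [hf.symm]; exact hdz
  obtain ⟨e₀, -, hde₀⟩ := exists_iso_partner hf hd hd0
  set e₁ := e₀ - (f c e₀ / f c c) • c - (f z e₀ / f z z) • z with he₁
  have h1 : f d e₁ = 1 := by simp [he₁, hdc, hdz, hde₀]
  have h2 : f c e₁ = 0 := by simp [he₁, hcz, div_mul_cancel₀ _ hc]
  have h3 : f z e₁ = 0 := by simp [he₁, hzc, div_mul_cancel₀ _ hz]
  have h2' := hf.two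
  set e := e₁ - (f e₁ e₁ / 2) • d with he
  have k1 : f d e = 1 := by simp [he, hd, h1]
  have k2 : f c e = 0 := by simp [he, hcd, h2]
  have k3 : f z e = 0 := by simp [he, hzd, h3]
  have k4 : f e e = 0 := by
    have h4 : f e₁ d = 1 := by rw [hf.symm]; exact h1
    simp only [he, map_sub, map_smul, LinearMap.sub_apply, LinearMap.smul_apply, smul_eq_mul, hd,
      h4, h1, mul_zero, sub_zero, mul_one]
    field_simp
    ring
  refine ⟨e, k1, k4, k3, k2, fun q hq => ⟨f e q, f z q / f z z, f d q, ?_⟩⟩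
  -- the orthogonal basis
  have hv : Orth f ![c, z, d + e, d - e] := by
    have ked : f e d = 1 := by rw [hf.symm]; exact k1
    have kez : f e z = 0 := by rw [hf.symm]; exact k3
    have kec : f e c = 0 := by rw [hf.symm]; exact k2
    refine ⟨fun i => ?_, fun i j hij => ?_⟩
    · fin_cases i <;> simp [hc, hz, hd, k4, k1, ked] <;> norm_num [h2']
    · fin_cases i <;> fin_cases j <;>
        simp [hcz, hzc, hcd, hdc, hdz, hzd, k1, k2, k3, k4, ked, kez, kec, hd] at hij ⊢
  set q' := f e q • d + (f z q / f z z) • z + f d q • e with hq'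
  refine sub_eq_zero.1 (hf.nd.2 _ fun y => ?_)
  have hy : y ∈ Submodule.span F (Set.range ![c, z, d + e, d - e]) := by rw [hv.span_top]; trivial
  induction hy using Submodule.span_induction with
  | mem y hy =>
    obtain ⟨i, rfl⟩ := hy
    have ked : f e d = 1 := by rw [hf.symm]; exact k1
    have kez : f e z = 0 := by rw [hf.symm]; exact k3
    fin_cases i <;>
      simp [hq', hcz, hzc, hcd, hdc, hdz, hzd, k1, k2, k3, k4, ked, kez, hd, hq, div_mul_cancel₀ _ hz] <;> ring
  | zero => simp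
  | add a b _ _ ha hb => simp [ha, hb]
  | smul r a _ ha => simp [ha]

/-- An involution that acts on the orthogonal of a fixed vector as a scalar, if it commutes with a unipotent
element fixing the vector. -/
theorem scalar_of_comm_unipotent (hf : SymForm f) (thin : OrthTensorFour.Thin f) {p : ℕ} [Fact p.Prime] [CharP F p]
    {c : Ud F 4} (hc : f c c ≠ 0) {w v : OQ (qU f)} (hw : w ^ p = 1) (hw1 : w ≠ 1)
    (hwc : (w : Ud F 4 ≃ₗ[F] Ud F 4) c = c) (hv : v * v = 1) (hvc : (v : Ud F 4 ≃ₗ[F] Ud F 4) c = c)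
    (hcm : Commute w v) : ∃ l : F, ∀ q, f c q = 0 → (v : Ud F 4 ≃ₗ[F] Ud F 4) q = l • q := by
  have h2 := hf.two
  have hpow : ∀ n : ℕ, lm (w ^ n) = lm w ^ n := fun n => by
    induction n with
    | zero => rfl
    | succ n ih => rw [pow_succ, pow_succ, lm_mul, ih]
  rcases OrthTensorFour.one_or_sv hf thin (p := p) (A := lm w) (fun x y => map_f hf w x y)
    (by rw [← hpow, hw, lm_one]) with h | ⟨d, z, hd0, hd, hdz, hz, hA⟩
  · exact absurd (qU_ext hf fun q => LinearMap.congr_fun h q) hw1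
  have hA' : ∀ q, (w : Ud F 4 ≃ₗ[F] Ud F 4) q = (sU hf hd hdz : Ud F 4 ≃ₗ[F] Ud F 4) q := hA
  obtain ⟨hdc, hzc⟩ := (OrthTensorFour.sv_fix_iff hf hd hd0 hdz hz c).1 ((hA c).symm.trans hwc)
  have hcd : f c d = 0 := by rw [hf.symm]; exact hdc
  have hcz : f c z = 0 := by rw [hf.symm]; exact hzc
  obtain ⟨e, hde, hee, hze, hce, hspan⟩ := exists_frame_four hf hd0 hd hdz hz hc hcd hcz
  -- the fixed vectors of the unipotent element are preserved
  have key : ∀ q, f d q = 0 → f z q = 0 → f d ((v : Ud F 4 ≃ₗ[F] Ud F 4) q) = 0 ∧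
      f z ((v : Ud F 4 ≃ₗ[F] Ud F 4) q) = 0 := fun q h1 h2 => by
    refine (OrthTensorFour.sv_fix_iff hf hd hd0 hdz hz _).1 ?_
    have h3 := congrArg (fun u : OQ (qU f) => (u : Ud F 4 ≃ₗ[F] Ud F 4) q) hcm.eq
    simp only [Subgroup.coe_mul, LinearEquiv.mul_apply] at h3
    rw [hA' q, sU_fix hf hd hdz h1 h2] at h3
    exact (hA _).symm.trans h3
  have hzd : f z d = 0 := by rw [hf.symm]; exact hdz
  obtain ⟨hdv, hzv⟩ := key d hd hzd
  have hcv : ∀ q, f c q = 0 → f c ((v : Ud F 4 ≃ₗ[F] Ud F 4) q) = 0 := fun q hq => by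
    have h1 := map_f hf v c q
    rwa [hvc, hq] at h1
  obtain ⟨r, s, n, hvd⟩ := hspan _ (hcv d hcd)
  have hn : n = 0 := by
    have e1 := hdv
    rw [hvd] at e1
    simpa [hd, hdz, hde] using e1
  have hs : s = 0 := by
    have e1 := hzv
    rw [hvd, hn] at e1
    simpa [hzd, hz] using e1
  rw [hs, hn, zero_smul, zero_smul, add_zero, add_zero] at hvd
  have hvv : ∀ q, (v : Ud F 4 ≃ₗ[F] Ud F 4) ((v : Ud F 4 ≃ₗ[F] Ud F 4) q) = q := invol_apply hf hv
  have hrr : r * r = 1 := by
    have e1 := hvv d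
    rw [hvd, map_smul, hvd, smul_smul] at e1
    exact smul_left_injective F hd0 (e1.trans (one_smul F d).symm)
  have hr0 : r ≠ 0 := fun h => by simp [h] at hrr
  refine ⟨r, ?_⟩
  -- the second vector
  have hzv' : (v : Ud F 4 ≃ₗ[F] Ud F 4) z = r • z := by
    have h3 := congrArg (fun u : OQ (qU f) => (u : Ud F 4 ≃ₗ[F] Ud F 4) e) hcm.eq
    simp only [Subgroup.coe_mul, LinearEquiv.mul_apply] at h3
    rw [hA', hA', sU_apply, sU_apply] at h3
    have hdve : f d ((v : Ud F 4 ≃ₗ[F] Ud F 4) e) = r := by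
      have h4 := map_f hf v d e
      rw [hvd, map_smul, LinearMap.smul_apply, smul_eq_mul, hde] at h4
      linear_combination r * h4 - f d ((v : Ud F 4 ≃ₗ[F] Ud F 4) e) * hrr
    simp only [hdve, hde, hze, map_add, map_sub, map_smul, hvd, one_smul, zero_smul, sub_zero, mul_one] at h3
    set m := f z ((v : Ud F 4 ≃ₗ[F] Ud F 4) e)
    have e2 : (v : Ud F 4 ≃ₗ[F] Ud F 4) z = r • z - m • d := by linear_combination (norm := module) -h3
    have e3 := hvv z
    rw [e2, map_sub, map_smul, map_smul, e2, hvd] at e3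
    have e4 : (r * r - 1) • z = (2 * (r * m)) • d := by linear_combination (norm := module) e3
    rw [hrr, sub_self, zero_smul] at e4
    have hm : m = 0 := by
      have := (smul_eq_zero.1 e4.symm).resolve_right hd0
      simpa [h2, hr0] using this
    rw [e2, hm, zero_smul, sub_zero]
  have hve : (v : Ud F 4 ≃ₗ[F] Ud F 4) e = r • e := by
    obtain ⟨r', s', n', he'⟩ := hspan _ (hcv e hce)
    have h4 := map_f hf v d e
    have h5 := map_f hf v z e
    rw [hvd, he', hde] at h4
    rw [hzv', he', hze] at h5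
    simp [hd, hdz, hde, hzd, hz, hr0, hze] at h4 h5
    have hn' : n' = r := by linear_combination r * h4 - n' * hrr
    rw [h5, hn', zero_smul, add_zero] at he'
    have e3 := hvv e
    rw [he', map_add, map_smul, map_smul, hvd, he'] at e3
    have e4 : (r * r - 1) • e + (2 * (r * r')) • d = 0 := by linear_combination (norm := module) e3
    rw [hrr, sub_self, zero_smul, zero_add] at e4
    have hr' : r' = 0 := by
      have := (smul_eq_zero.1 e4).resolve_right hd0
      simpa [h2, hr0] using this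
    rw [he', hr', zero_smul, zero_add]
  intro q hq
  obtain ⟨a, b, n', rfl⟩ := hspan q hq
  simp only [map_add, map_smul, hvd, hzv', hve, smul_smul, smul_add]
  simp only [mul_comm]

/-- An involution fixing a vector that is not a scalar on its orthogonal. -/
def GoodInv (f : BilinForm F (Ud F 4)) (c : Ud F 4) (u : OQ (qU f)) : Prop :=
  u * u = 1 ∧ (u : Ud F 4 ≃ₗ[F] Ud F 4) c = c ∧
    ∀ l : F, ¬ ∀ q, f c q = 0 → (u : Ud F 4 ≃ₗ[F] Ud F 4) q = l • q

namespace EvenCtx

variable {X : Subgroup (OQ (qT f (1 + 1)))} (C : EvenCtx hf X)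
include C

/-- A normalised group without standard elements of order `p` is standard. -/
theorem std_of_free {p : ℕ} [Fact p.Prime] [CharP F p] (K : Subgroup (OQ (qT f (1 + 1)))) (hK : K ≤ X) (l : Fin 2)
    (hn : ∀ (d z : Ud F 4) (hd : f d d = 0) (hdz : f d z = 0),
      slot hf l (sU hf hd hdz) ∈ Subgroup.normalizer (K : Set (OQ (qT f (1 + 1)))))
    (h : ∀ x ∈ K, IsStd x → x ^ p = 1 → x = 1) : ∀ x ∈ K, IsStd x := by
  obtain ⟨d, z₁, z₂, hd0, hd, hdz₁, hdz₂, haniso⟩ := exists_plane_any hf (le_refl 4) C.toCore.thin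
  set S : Submodule F (Ud F 4) := Submodule.span F {z₁, z₂}
  have hS : ∀ y ∈ S, f d y = 0 := fun y hy => by
    obtain ⟨s, r, rfl⟩ := Submodule.mem_span_pair.1 hy
    simp [hdz₁, hdz₂]
  have hS' : ∀ y ∈ S, y ≠ 0 → f y y ≠ 0 := fun y hy hy0 => by
    obtain ⟨s, r, rfl⟩ := Submodule.mem_span_pair.1 hy
    refine haniso s r ?_
    by_contra! hc'
    exact hy0 (by rw [hc'.1, hc'.2]; simp)
  have hnd : ¬ p ∣ Nat.card K := C.toCore.not_dvd (p := p) C.centr_sigma' K hK hd0 hd hdz₁
    (by simpa using haniso 1 0 (Or.inl one_ne_zero)) (hn d z₁ hd hdz₁) h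
  refine C.toCore.mem_of_space C.centr_sigma' K hK hnd hd0 hd S hS hS' ?_ (fun y hy => hn d y hd _)
  haveI := Fintype.ofFinite F
  have h2 : finrank F S = 2 := by
    rw [show S = Submodule.span F (Set.range ![z₁, z₂]) by simp [S, Set.pair_comm]]
    refine (finrank_span_eq_card (LinearIndependent.pair_iff.2 fun s r e => ?_)).trans (by simp)
    by_contra hne
    exact haniso s r (not_and_or.1 hne) (by rw [e]; simp)
  rw [Module.natCard_eq_pow_finrank (K := F), h2]
  refine Nat.pow_le_pow_left ?_ 2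
  obtain ⟨n, -, hq⟩ := FiniteField.card F p
  rw [Nat.card_eq_fintype_card, hq]
  exact Nat.le_self_pow n.2.ne' p

variable {p : ℕ} [Fact p.Prime] [CharP F p] {i : Fin 2} {c : Ud F 4} (hc : f c c ≠ 0)
include hc

omit [Finite F] C in
theorem fix_ne : c ≠ 0 := fun e => hc (by simp [e])

/-- The elements fixing a line which commute with a good involution of that factor. -/
theorem good_centr {u : OQ (qU f)} (hu : GoodInv f c u) {x : OQ (qT f (1 + 1))} (hx : x ∈ lfix hf X i c ⊥)
    (h : Commute x (slot hf i u)) : ∃ w, x = slot hf i w ∧ (w : Ud F 4 ≃ₗ[F] Ud F 4) c = c ∧ Commute w u ∧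
      (w ^ p = 1 → w = 1) := by
  set K := lfix hf X i c ⊥ ⊓ Subgroup.centralizer {slot hf i u}
  have hmem : ∀ {y}, y ∈ K ↔ y ∈ lfix hf X i c ⊥ ∧ Commute y (slot hf i u) := fun {y} => by
    rw [Subgroup.mem_inf, Subgroup.mem_centralizer_singleton_iff]; rfl
  have hslot : ∀ y, y ∈ lfix hf X i c ⊥ → Commute y (slot hf i u) → IsStd y →
      ∃ w, y = slot hf i w ∧ (w : Ud F 4 ≃ₗ[F] Ud F 4) c = c ∧ Commute w u ∧ (w ^ p = 1 → w = 1) := by
    intro y hy hyc hys
    obtain ⟨w, e, hwc⟩ := fix_line hf (by norm_num) hys (fix_ne hc) (mem_lfix_bot.1 hy).2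
    have hwu : Commute w u := slot_injective hf (by norm_num) i (by rw [map_mul, map_mul, ← e]; exact hyc.eq)
    refine ⟨w, e, hwc, hwu, fun hwp => ?_⟩
    by_contra hw1
    obtain ⟨l, hl⟩ := scalar_of_comm_unipotent hf (C.toCore.thin rfl) hc hwp hw1 hwc hu.1 hu.2.1 hwu
    exact hu.2.2 l hl
  refine hslot x hx h (C.std_of_free (p := p) K (fun y hy => hy.1.1) (i.succAbove 0) (fun d z hd hdz => ?_)
    (fun y hy hys hyp => ?_) x (hmem.2 ⟨hx, h⟩))
  · refine Subgroup.inf_normalizer_le_normalizer_inf ⟨C.toCore.slot_mem_normalizer_lfix 0 hd hdz, ?_⟩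
    refine Subgroup.mem_normalizer_iff.2 fun y => ?_
    have hq : Commute (slot hf (i.succAbove 0) (sU hf hd hdz)) (slot hf i u) := slot_comm hf (Fin.succAbove_ne i 0) _ _
    simp only [SetLike.mem_coe, Subgroup.mem_centralizer_singleton_iff]
    constructor
    · intro hy
      exact ((hq.mul_left hy).mul_left hq.inv_left).eq
    · intro hy
      have := (hq.inv_left.mul_left hy).mul_left hq
      simpa [mul_assoc] using this.eq
  · obtain ⟨hy1, hy2⟩ := hmem.1 hy
    obtain ⟨w, rfl, -, -, hwp⟩ := hslot y hy1 hy2 hys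
    rw [hwp (slot_injective hf (by norm_num) i (by rw [map_pow, hyp, map_one])), map_one]

/-- An element fixing a line which conjugates a good involution into the factor. -/
theorem good_conj {u u' : OQ (qU f)} (hu : GoodInv f c u) {g : OQ (qT f (1 + 1))} (hg : g ∈ lfix hf X i c ⊥)
    (h : g * slot hf i u * g⁻¹ = slot hf i u') : IsStd g := by
  obtain ⟨p, hp⟩ := CharP.exists F
  haveI : Fact p.Prime := ⟨CharP.char_is_prime F p⟩
  obtain ⟨d, z₁, z₂, hd0, hd, hdz₁, -, haniso⟩ := exists_plane_any hf (le_refl 4) C.toCore.thin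
  have hz : f z₁ z₁ ≠ 0 := by simpa using haniso 1 0 (Or.inl one_ne_zero)
  set q := slot hf (i.succAbove 0) (sU hf hd hdz₁)
  have hqu : ∀ v, Commute q (slot hf i v) := fun v => slot_comm hf (Fin.succAbove_ne i 0) _ _
  have hqg : q * g * q⁻¹ ∈ lfix hf X i c ⊥ :=
    (Subgroup.mem_normalizer_iff.1 (C.toCore.slot_mem_normalizer_lfix (i := i) 0 hd hdz₁) g).1 hg
  set k := g⁻¹ * (q * g * q⁻¹)
  have hk : k ∈ lfix hf X i c ⊥ := Subgroup.mul_mem _ (Subgroup.inv_mem _ hg) hqg
  have hgu : g⁻¹ * slot hf i u' = slot hf i u * g⁻¹ := by rw [← h]; group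
  have hkc : Commute k (slot hf i u) := by
    show k * slot hf i u = slot hf i u * k
    calc k * slot hf i u = g⁻¹ * (q * g * (q⁻¹ * slot hf i u)) := by simp only [k]; group
      _ = g⁻¹ * (q * g * (slot hf i u * q⁻¹)) := by rw [(hqu u).inv_left.eq]
      _ = g⁻¹ * (q * (g * slot hf i u * g⁻¹) * g * q⁻¹) := by group
      _ = g⁻¹ * (slot hf i u' * q * g * q⁻¹) := by rw [h, (hqu u').eq]
      _ = g⁻¹ * slot hf i u' * (q * g * q⁻¹) := by group
      _ = slot hf i u * k := by rw [hgu]; simp only [k]; group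
  obtain ⟨w, hw, -, -, hwp⟩ := C.good_centr (p := p) hc hu hk hkc
  have hq : g⁻¹ * q * g = slot hf i w * q := by rw [← hw]; simp only [k]; group
  have hqp : q ^ p = 1 := by
    rw [← map_pow, sU_pow, ← map_one (slot hf (i.succAbove 0)), ← sU_zero hf hd]
    congr 1
    exact qU_ext hf fun a => by simp [sU_apply]
  have hw1 : w = 1 := hwp (slot_injective hf (by norm_num) i (by
    have h1 : (g⁻¹ * q * g) ^ p = 1 := by
      rw [show g⁻¹ * q * g = g⁻¹ * q * g⁻¹⁻¹ by rw [inv_inv], conj_pow, hqp]; group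
    rw [hq, (hqu w).symm.mul_pow, hqp, mul_one] at h1
    rw [map_pow, map_one, h1]))
  rw [hw1, map_one, one_mul] at hq
  refine C.centr_sigma hg.1 hd0 hd hdz₁ hz (i := i.succAbove 0) (show g * q = q * g from ?_)
  calc g * q = g * (g⁻¹ * q * g) := by rw [hq]
    _ = q * g := by group

end EvenCtx

/-- A product of two reflections in orthogonal vectors of the orthogonal of a vector is good. -/
theorem goodInv_rr (hf : SymForm f) {c x y : Ud F 4} (hc : f c c ≠ 0) (hx : f x x ≠ 0) (hy : f y y ≠ 0)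
    (hcx : f c x = 0) (hcy : f c y = 0) (hxy : f x y = 0) : GoodInv f c (rfU hf hx * rfU hf hy) := by
  have hxc : f x c = 0 := by rw [hf.symm]; exact hcx
  have hyc : f y c = 0 := by rw [hf.symm]; exact hcy
  obtain ⟨a, ha, g⟩ := ((orth_two hf hx hy hxy).cons hf hc (fun i => by
    fin_cases i <;> simp [hxc, hyc])).exists_aniso hf (by norm_num)
  have hca : f c a = 0 := by simpa using g 0
  have hxa : f x a = 0 := by simpa using g 1
  have hya : f y a = 0 := by simpa using g 2
  refine ⟨(dd_rr hf hx hy hxy).1, ?_, fun l h => ?_⟩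
  · rw [Subgroup.coe_mul, LinearEquiv.mul_apply, rfU_perp hf hy (by rw [hf.symm]; exact hcy),
      rfU_perp hf hx (by rw [hf.symm]; exact hcx)]
  · have e1 := h a hca
    have e2 := h x hcx
    rw [Subgroup.coe_mul, LinearEquiv.mul_apply, rfU_perp hf hy hya, rfU_perp hf hx hxa] at e1
    rw [Subgroup.coe_mul, LinearEquiv.mul_apply, rfU_perp hf hy (by rw [hf.symm]; exact hxy), rfU_self hf hx] at e2
    have ha0 : a ≠ 0 := fun e => ha (by simp [e])
    have hl : l = 1 := (smul_left_injective F ha0 (e1.symm.trans (one_smul F a).symm) :)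
    rw [hl, one_smul] at e2
    refine hx ?_
    have e0 : (2 : F) • x = 0 := by rw [two_smul]; nth_rw 1 [← e2]; exact neg_add_cancel x
    rw [(smul_eq_zero.1 e0).resolve_left hf.two]; simp

/-- The inverted vectors of a product of two orthogonal reflections. -/
theorem rr_neg_mem (hf : SymForm f) {x y q : Ud F 4} (hx : f x x ≠ 0) (hy : f y y ≠ 0) (hxy : f x y = 0)
    (h : ((rfU hf hx * rfU hf hy : OQ (qU f)) : Ud F 4 ≃ₗ[F] Ud F 4) q = -q) :
    ∃ s r : F, q = s • x + r • y := by
  simp only [Subgroup.coe_mul, LinearEquiv.mul_apply, rfU_apply, MixTensor.refl_apply, map_sub, map_smul, hxy,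
    smul_eq_mul, mul_zero, sub_zero, zero_smul] at h
  refine ⟨f x q / f x x, f y q / f y y, smul_right_injective _ hf.two ?_⟩
  show (2 : F) • q = (2 : F) • _
  rw [smul_add, smul_smul, smul_smul, ← mul_div_assoc, ← mul_div_assoc, mul_div_right_comm, mul_div_right_comm (2 : F)]
  linear_combination (norm := module) h

namespace EvenCtx

variable {X : Subgroup (OQ (qT f (1 + 1)))} (C : EvenCtx hf X)
include C

/-- **The stabiliser of an anisotropic line is standard.** -/
theorem lfix_std_four {i : Fin 2} {c : Ud F 4} (hc : f c c ≠ 0) {g : OQ (qT f (1 + 1))}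
    (hg : g ∈ lfix hf X i c ⊥) : IsStd g := by
  classical
  obtain ⟨p, hp⟩ := CharP.exists F
  haveI : Fact p.Prime := ⟨CharP.char_is_prime F p⟩
  haveI := C.toCore.finiteX
  have h2 := hf.two
  obtain ⟨ν, hν⟩ := FiniteField.exists_nonsquare (F := F) (fun e => h2 (by
    haveI := ringChar.eq_iff.1 e
    exact CharTwo.two_eq_zero))
  have hν0 : ν ≠ 0 := fun e => hν (by rw [e]; exact IsSquare.zero)
  -- a pair with an isotropic vector and one without
  obtain ⟨x, hx1, gx⟩ := (orth_one (f := f) hc).exists_norm hf (by norm_num) (one_ne_zero (α := F))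
  have hx : f x x ≠ 0 := by rw [hx1]; exact one_ne_zero
  have hcx : f c x = 0 := by simpa using gx 0
  have ocx := orth_two hf hc hx hcx
  obtain ⟨y, hy1, gy⟩ := ocx.exists_norm hf (by norm_num) (neg_ne_zero.2 (one_ne_zero (α := F)))
  obtain ⟨y', hy1', gy'⟩ := ocx.exists_norm hf (by norm_num) (neg_ne_zero.2 hν0)
  have hy : f y y ≠ 0 := by rw [hy1]; exact neg_ne_zero.2 one_ne_zero
  have hy' : f y' y' ≠ 0 := by rw [hy1']; exact neg_ne_zero.2 hν0
  have hcy : f c y = 0 := by simpa using gy 0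
  have hxy : f x y = 0 := by simpa using gy 1
  have hcy' : f c y' = 0 := by simpa using gy' 0
  have hxy' : f x y' = 0 := by simpa using gy' 1
  set u₁ := rfU hf hx * rfU hf hy
  set u₂ := rfU hf hx * rfU hf hy'
  have hu₁ : GoodInv f c u₁ := goodInv_rr hf hc hx hy hcx hcy hxy
  have hu₂ : GoodInv f c u₂ := goodInv_rr hf hc hx hy' hcx hcy' hxy'
  have hd : ∀ {u : OQ (qU f)}, u * u = 1 → u ≠ 1 → orderOf (slot hf i u) = 2 := fun {u} hu hu1 =>
    Signalizer.orderOf_eq_two_of (fun e => hu1 (slot_injective hf (by norm_num) i (e.trans (map_one _).symm)))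
      (by rw [← map_mul, hu, map_one])
  have hne1 : ∀ {u : OQ (qU f)}, GoodInv f c u → u ≠ 1 := fun {u} hu e => hu.2.2 1 fun q _ => by rw [e, one_smul]; rfl
  -- no element of the stabiliser carries one to the other
  have hsep : ∀ h ∈ lfix hf X i c ⊥, h * slot hf i u₁ * h⁻¹ ≠ slot hf i u₂ := fun h hh e => by
    obtain ⟨w, hw, -⟩ := fix_line hf (by norm_num) (C.good_conj hc hu₁ hh e) (fun e => hc (by simp [e]))
      (mem_lfix_bot.1 hh).2
    have e' : w * u₁ * w⁻¹ = u₂ := slot_injective hf (by norm_num) i (by rw [map_mul, map_mul, map_inv, ← hw, e])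
    have h1 : (u₁ : Ud F 4 ≃ₗ[F] Ud F 4) (x + y) = -(x + y) := by
      simp only [u₁, Subgroup.coe_mul, LinearEquiv.mul_apply, map_add, rfU_self hf hy,
        rfU_perp hf hy (show f y x = 0 by rw [hf.symm]; exact hxy), map_neg, rfU_self hf hx, rfU_perp hf hx hxy]
      abel
    set v := (w : Ud F 4 ≃ₗ[F] Ud F 4) (x + y)
    have h2' : (u₂ : Ud F 4 ≃ₗ[F] Ud F 4) v = -v := by
      rw [← e', Subgroup.coe_mul, Subgroup.coe_mul, LinearEquiv.mul_apply, LinearEquiv.mul_apply, Subgroup.coe_inv]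
      rw [LinearEquiv.coe_inv, LinearEquiv.symm_apply_apply, h1, map_neg]
    obtain ⟨s, r, hv⟩ := rr_neg_mem hf hx hy' hxy' h2'
    have hyx : f y x = 0 := by rw [hf.symm]; exact hxy
    have hy'x : f y' x = 0 := by rw [hf.symm]; exact hxy'
    have h3 : f v v = 0 := by
      rw [map_f hf]
      simp [hx1, hy1, hxy, hyx]
    rw [hv] at h3
    simp [hx1, hy1', hxy', hy'x] at h3
    have hr : r = 0 := by
      by_contra hr
      exact hν ⟨s / r, by field_simp; linear_combination -h3⟩
    have hs : s = 0 := by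
      rw [hr] at h3
      simpa using h3
    have hv0 : v ≠ 0 := by
      intro h0
      rw [LinearEquiv.map_eq_zero_iff] at h0
      have := congrArg (f x) h0
      simp [hx1, hxy] at this
    exact hv0 (by rw [hv, hs, hr]; simp)
  set G := lfix hf X i c ⊥
  have hslot : ∀ {u : OQ (qU f)} {x₀ y₀ : Ud F 4} (hx₀ : f x₀ x₀ ≠ 0) (hy₀ : f y₀ y₀ ≠ 0),
      (rfU hf hx₀ * rfU hf hy₀ = u) → GoodInv f c u → slot hf i u ∈ G := fun {u x₀ y₀} hx₀ hy₀ e hu =>
    mem_lfix_bot.2 ⟨e ▸ C.slot_rr_X i hx₀ hy₀, fun a => by rw [slot_Tm_self, hu.2.1]⟩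
  have ht₁ : slot hf i u₁ ∈ G := hslot hx hy rfl hu₁
  have ht₂ : slot hf i u₂ ∈ G := hslot hx hy' rfl hu₂
  set s := g * slot hf i u₂ * g⁻¹
  have hsG : s ∈ G := G.mul_mem (G.mul_mem hg ht₂) (G.inv_mem hg)
  have hD : Subgroup.closure ({slot hf i u₁, s} : Set (OQ (qT f (1 + 1)))) ≤ G := by
    refine (Subgroup.closure_le _).2 ?_
    rintro d (rfl | rfl)
    · exact ht₁
    · exact hsG
  obtain ⟨z, hzD, hzo, hz1, hzs, d, hdD, hdz⟩ := exists_central (hd hu₁.1 (hne1 hu₁))
    (show orderOf s = 2 by rw [Signalizer.orderOf_conj]; exact hd hu₂.1 (hne1 hu₂)) fun d hd e =>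
      hsep (g⁻¹ * d) (G.mul_mem (G.inv_mem hg) (hD hd)) (by
        calc _ = g⁻¹ * (d * slot hf i u₁ * d⁻¹) * g := by group
          _ = slot hf i u₂ := by rw [e]; simp only [s]; group)
  obtain ⟨v, rfl, hvc, hvu, -⟩ := C.good_centr (p := p) hc hu₁ (hD hzD) hz1
  have hvv : v * v = 1 := slot_injective hf (by norm_num) i (by
    have h1 := pow_orderOf_eq_one (slot hf i v)
    rw [hzo, pow_two] at h1
    rw [map_mul, map_one, h1])
  by_cases hgood : GoodInv f c v
  · obtain ⟨u', hu', -, -, -⟩ := C.good_centr (p := p) hc hgood hsG hzs.symm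
    exact C.good_conj hc hu₂ hg hu'
  exfalso
  obtain ⟨l, hl⟩ : ∃ l : F, ∀ q, f c q = 0 → (v : Ud F 4 ≃ₗ[F] Ud F 4) q = l • q := by
    by_contra hne
    exact hgood ⟨hvv, hvc, fun l hl => hne ⟨l, hl⟩⟩
  have hl2 : l * l = 1 := by
    have e1 := invol_apply hf hvv x
    rw [hl x hcx, map_smul, hl x hcx, smul_smul] at e1
    exact smul_left_injective F (fun e => hx (by simp [e]) : x ≠ 0) (e1.trans (one_smul F x).symm)
  obtain ⟨a, ha, ga⟩ := (ocx.cons hf hy (fun j => by fin_cases j <;> simp [hcy, hxy])).exists_aniso hf (by norm_num)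
  have hya : f y a = 0 := by simpa using ga 0
  have hca : f c a = 0 := by simpa using ga 1
  have hxa : f x a = 0 := by simpa using ga 2
  have hacx : Orth f ![a, y, c, x] := ((ocx.cons hf hy (fun j => by fin_cases j <;> simp [hcy, hxy])).cons hf ha ga)
  rcases mul_self_eq_one_iff.1 hl2 with hl1 | hl1
  · refine Signalizer.involution_ne_one hzo ?_
    rw [show v = 1 from hacx.ext hf rfl fun j => by
      fin_cases j <;>
        simp only [Fin.isValue, Matrix.cons_val_zero, Matrix.cons_val_one, Matrix.cons_val, Matrix.head_cons,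
          Fin.zero_eta, Fin.mk_one, Fin.reduceFinMk, hl _ hca, hl _ hcy, hl _ hcx, hl1, one_smul, hvc] <;> rfl,
      map_one]
  · have huv : u₁ * v = rfU hf ha := hacx.ext hf rfl fun j => by
      have hxc : f x c = 0 := by rw [hf.symm]; exact hcx
      have hyc : f y c = 0 := by rw [hf.symm]; exact hcy
      have hyx : f y x = 0 := by rw [hf.symm]; exact hxy
      have hac : f a c = 0 := by rw [hf.symm]; exact hca
      have hax : f a x = 0 := by rw [hf.symm]; exact hxa
      have hay : f a y = 0 := by rw [hf.symm]; exact hya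
      fin_cases j <;>
        simp [u₁, hl _ hca, hl _ hcy, hl _ hcx, hl1, hvc, rfU_self, rfU_perp hf hx hxa, rfU_perp hf hy hya,
          rfU_perp hf hx hxy, rfU_perp hf hy hyx, rfU_perp hf hy hyc, rfU_perp hf hx hxc, rfU_perp hf ha hac,
          rfU_perp hf ha hax, rfU_perp hf ha hay]
    have key : ∀ {u : OQ (qU f)}, u * u = 1 → dd (lm u) = 0 → ∀ h, slot hf i u₁ * slot hf i v ≠ h * slot hf i u * h⁻¹ := by
      intro u hu hu0 h e
      rw [← map_mul, huv] at e
      have e1 := congrArg (fun g : OQ (qT f (1 + 1)) => dd (lm g)) e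
      simp only [dd_conj, dd_slot hf hu, hu0, dd_slot hf (rfU_sq hf ha), dd_rfU] at e1
      norm_num at e1
    rcases hdz with e | e
    · exact key hu₁.1 (by rw [(dd_rr hf hx hy hxy).2]; norm_num) d e
    · exact key hu₂.1 (by rw [(dd_rr hf hx hy' hxy').2]; norm_num) (d * g) (e.trans (by simp only [s]; group))

/-- **An element fixing an anisotropic line pointwise acts on that factor.** -/
theorem fix_slot_four : FixSlot hf X := by
  intro i c hc x hx h
  exact fix_line hf (by norm_num) (C.lfix_std_four hc (mem_lfix_bot.2 ⟨hx, h⟩)) (fun e => hc (by simp [e])) h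

end EvenCtx

end CfsgLib.Geo.OrthWreath
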