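/-
Two factors of dimension four: a standard conjugate of a Siegel element of one factor belongs to one factor.
-/
import Cfsg.Agent.Lib.Geo.OrthWreath.Four.Fix

set_option autoImplicit false
set_option linter.unusedSectionVars false

namespace CfsgLib.Geo.OrthWreath

open CfsgLib.Classical CfsgLib.Classical.Quad Module
open CfsgLib.Geo.MixTensor (SymForm)
open CfsgLib.Geo.TensorWreath (pvec)
open CfsgLib.Geo.OrthTensor (exists_iso_partner)
open LinearMap (BilinForm)

variable {F : Type*} [Field F] [Finite F] {f : BilinForm F (Ud F 4)} {hf : SymForm f}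

/-- A standard element of order `p` is a product of factor elements of order dividing `p`. -/
theorem std_normal_p (hf : SymForm f) {p : ℕ} [Fact p.Prime] [CharP F p] {y : OQ (qT f (1 + 1))} (hy : IsStd y)
    (hyp : y ^ p = 1) :
    ∃ w : Fin 2 → OQ (qU f), y = slot hf 0 (w 0) * slot hf 1 (w 1) ∧ ∀ l, w l ^ p = 1 := by
  classical
  have hodd : Odd p := (Fact.out : p.Prime).odd_of_ne_two fun h => hf.two (by
    subst h
    exact CharTwo.two_eq_zero)
  obtain ⟨n, hn⟩ := hodd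
  -- a square root
  set z := y ^ (n + 1)
  have hz : IsStd z := by
    have : ∀ m : ℕ, IsStd (y ^ m) := fun m => by
      induction m with
      | zero => rw [pow_zero, ← map_one (slot hf (0 : Fin (1 + 1)))]; exact isStd_slot hf _ _
      | succ m ih => rw [pow_succ]; exact ih.mul hy
    exact this _
  have hzz : z * z = y := by
    rw [← pow_add, show n + 1 + (n + 1) = p + 1 by omega, pow_succ, hyp, one_mul]
  have hzp : z ^ p = 1 := by rw [← pow_mul, mul_comm, pow_mul, hyp, one_pow]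
  obtain ⟨π, gs, m, e, hm0, hm1, hsim⟩ := hz.acts hf (by norm_num)
  have hπ : π = 1 := by
    have h2 : ∀ σ : Equiv.Perm (Fin (1 + 1)), σ * σ = 1 := by decide
    have hj : ∀ j : ℕ, ∀ (l : Fin (1 + 1)) (u : OQ (qU f)), ∃ v, z ^ j * slot hf l u * (z ^ j)⁻¹ = slot hf ((π ^ j) l) v := by
      intro j
      induction j with
      | zero => exact fun l u => ⟨u, by simp⟩
      | succ j ih =>
        intro l u
        obtain ⟨v, hv⟩ := ih l u
        obtain ⟨v', -, hv'⟩ := conj_slot_sim hf e hm0 hsim ((π ^ j) l) v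
        refine ⟨v', ?_⟩
        rw [pow_succ' π, Equiv.Perm.mul_apply, ← hv', ← hv, pow_succ' z]
        group
    obtain ⟨c, hc, -⟩ := (orth_nil (f := f)).exists_aniso hf (by norm_num)
    obtain ⟨v, hv⟩ := hj p 0 (rfU hf hc)
    rw [hzp, inv_one, one_mul, mul_one, hn, pow_succ, pow_mul, pow_two, h2, one_pow, one_mul] at hv
    by_contra hne
    have h0 : π 0 ≠ 0 := fun h0 => hne (Equiv.ext fun l => by
      fin_cases l
      · exact h0
      · rcases Fin.exists_fin_two.1 ⟨π 1, rfl⟩ with h1 | h1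
        · exact absurd (π.injective (h0.trans h1.symm)) (by decide)
        · exact h1)
    obtain ⟨s, hs⟩ := slot_eq_slot hf (by norm_num) h0.symm hv
    obtain ⟨a, ha, ga⟩ := (orth_one (f := f) hc).exists_aniso hf (by norm_num)
    have e1 := hs c
    have e2 := hs a
    rw [rfU_self hf hc] at e1
    rw [rfU_perp hf hc (by simpa using ga 0)] at e2
    have hc0 : c ≠ 0 := fun h => hc (by simp [h])
    have ha0 : a ≠ 0 := fun h => ha (by simp [h])
    have k1 : s = -1 := smul_left_injective F hc0 (e1.symm.trans (neg_one_smul F c).symm)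
    have k2 : s = 1 := smul_left_injective F ha0 (e2.symm.trans (one_smul F a).symm)
    exact hf.two (by linear_combination k1 - k2)
  subst hπ
  -- isometries
  have hA : ∀ l a b, f (((m l)⁻¹ • ((gs l : Ud F 4 →ₗ[F] Ud F 4) ∘ₗ (gs l : Ud F 4 →ₗ[F] Ud F 4))) a)
      (((m l)⁻¹ • ((gs l : Ud F 4 →ₗ[F] Ud F 4) ∘ₗ (gs l : Ud F 4 →ₗ[F] Ud F 4))) b) = f a b := fun l a b => by
    have := hm0 l
    simp only [LinearMap.smul_apply, LinearMap.comp_apply, LinearEquiv.coe_coe, map_smul, smul_eq_mul, hsim]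
    field_simp
  set w : Fin 2 → OQ (qU f) := fun l => mkU hf (hA l) with hw
  have hyw : y = slot hf 0 (w 0) * slot hf 1 (w 1) := el_ext fun ξ => by
    rw [← hzz, Subgroup.coe_mul, Subgroup.coe_mul, LinearEquiv.mul_apply, LinearEquiv.mul_apply, slot_pvec, slot_pvec]
    have e' : ∀ η, (z : Vt F 4 (1 + 1) ≃ₗ[F] Vt F 4 (1 + 1)) (pvec η) = pvec fun l => gs l (η l) := fun η => by
      have := e η
      simp only [inv_one, Equiv.Perm.one_apply] at this
      exact this
    rw [e', e']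
    have e2 := pvec_smul_all (fun l => gs l (gs l (ξ l))) (fun l => (m l)⁻¹)
    rw [Finset.prod_inv_distrib, hm1, inv_one, one_smul] at e2
    refine e2.symm.trans (congrArg pvec (funext fun l => ?_))
    fin_cases l
    · simp [hw, mkU_apply]
    · simp [hw, mkU_apply]
  have h01 : Commute (slot hf (0 : Fin (1 + 1)) (w 0)) (slot hf 1 (w 1)) := slot_comm hf (by decide) _ _
  rw [hyw, h01.mul_pow, ← map_pow, ← map_pow, mul_eq_one_iff_eq_inv, ← map_inv] at hyp
  obtain ⟨c, hc⟩ := slot_eq_slot hf (by norm_num) (by decide : (0 : Fin (1 + 1)) ≠ 1) hyp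
  obtain ⟨a, ha⟩ := exists_aniso_vec hf (k := 4) (by norm_num)
  have hcc : c * c = 1 := by
    have h1 := map_f hf (w 0 ^ p) a a
    rw [hc, map_smul, map_smul, LinearMap.smul_apply, smul_eq_mul, smul_eq_mul, ← mul_assoc] at h1
    exact mul_right_cancel₀ ha (h1.trans (one_mul _).symm)
  -- change both signs
  let N : OQ (qU f) := mkU hf (A := c • (1 : Module.End F (Ud F 4))) fun a b => by
    simp [← mul_assoc, hcc]
  have hNa : ∀ q, (N : Ud F 4 ≃ₗ[F] Ud F 4) q = c • q := fun q => rfl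
  have hN : ∀ u : OQ (qU f), Commute N u := fun u => qU_ext hf fun q => by
    simp only [Subgroup.coe_mul, LinearEquiv.mul_apply, hNa, map_smul]
  have hNN : N * N = 1 := qU_ext hf fun q => by
    rw [Subgroup.coe_mul, LinearEquiv.mul_apply, hNa, hNa, smul_smul, hcc, one_smul]; rfl
  have hNp : N ^ p = N := by rw [hn, pow_succ, pow_mul, pow_two, hNN, one_pow, one_mul]
  have hNs : ∀ l : Fin (1 + 1), ∀ v, (slot hf l N : Vt F 4 (1 + 1) ≃ₗ[F] Vt F 4 (1 + 1)) v = c • v := fun l v => by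
    rw [← LinearEquiv.coe_coe, slot_coe, show ((N : Ud F 4 ≃ₗ[F] Ud F 4) : Ud F 4 →ₗ[F] Ud F 4) = c • 1 from
      LinearMap.ext hNa, map_smul, map_one]
    rfl
  have hw0 : w 0 ^ p = N := qU_ext hf fun q => by rw [hc, hNa]
  have hw1 : w 1 ^ p = N := by
    refine inv_injective (slot_injective hf (by norm_num) (1 : Fin (1 + 1)) ?_)
    rw [← hyp, hw0, inv_eq_of_mul_eq_one_right hNN]
    exact Subtype.ext (LinearEquiv.ext fun v => (hNs 0 v).trans (hNs 1 v).symm)
  refine ⟨fun l => w l * N, ?_, fun l => ?_⟩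
  · rw [hyw, map_mul, map_mul, mul_assoc (slot hf 0 (w 0)), ← mul_assoc (slot hf 0 N),
      (slot_comm hf (by decide : (0 : Fin (1 + 1)) ≠ 1) N (w 1)).eq, mul_assoc (slot hf 1 (w 1))]
    have : slot hf (0 : Fin (1 + 1)) N * slot hf 1 N = 1 := Subtype.ext (LinearEquiv.ext fun v => by
      rw [Subgroup.coe_mul, LinearEquiv.mul_apply, hNs, hNs, smul_smul, hcc, one_smul]; rfl)
    rw [this, mul_one]
  · rw [(hN (w l)).symm.mul_pow, hNp]
    rcases Fin.exists_fin_two.1 ⟨l, rfl⟩ with rfl | rfl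
    · rw [hw0, hNN]
    · rw [hw1, hNN]

/-- The pairings of a Siegel map with a frame. -/
theorem sU_frame (hf : SymForm f) {d z : Ud F 4} (hd0 : d ≠ 0) (hd : f d d = 0) (hdz : f d z = 0)
    (hz : f z z ≠ 0) :
    ∃ c e, f c c ≠ 0 ∧ f d e = 1 ∧ f e d = 1 ∧ f e e = 0 ∧ f z e = 0 ∧ f e z = 0 ∧ f c d = 0 ∧ f d c = 0 ∧
      f c z = 0 ∧ f z c = 0 ∧ f c e = 0 ∧ f e c = 0 := by
  obtain ⟨P, rfl, hPz⟩ := exists_frame_perp hf hd0 hd hdz hz
  have hzd : f z P.d = 0 := by rw [hf.symm]; exact hdz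
  have hzP : f z P.e = 0 := by rw [hf.symm]; exact hPz
  have hed : f P.e P.d = 1 := by rw [hf.symm]; exact P.de
  have hv : Orth f ![z, P.d + P.e, P.d - P.e] := by
    refine ⟨fun i => ?_, fun i j hij => ?_⟩
    · fin_cases i <;> simp [hz, hd, P.ee, P.de, hed] <;> norm_num [hf.two]
    · fin_cases i <;> fin_cases j <;> simp [hdz, hzd, hPz, hzP, P.de, hed, P.ee, hd] at hij ⊢
  obtain ⟨c, hc, g⟩ := hv.exists_aniso hf (by norm_num)
  have g0 : f z c = 0 := by simpa using g 0
  have g1 : f P.d c + f P.e c = 0 := by simpa using g 1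
  have g2 : f P.d c - f P.e c = 0 := by simpa using g 2
  have h2 := hf.two
  have gd : f P.d c = 0 := mul_left_cancel₀ h2 (by linear_combination g1 + g2)
  have ge : f P.e c = 0 := by linear_combination g1 - gd
  exact ⟨c, P.e, hc, P.de, hed, P.ee, hzP, hPz, by rw [hf.symm]; exact gd, gd, by rw [hf.symm]; exact g0, g0,
    by rw [hf.symm]; exact ge, ge⟩

/-- The squared difference of a pair of nontrivial Siegel elements has rank at least five. -/
theorem pair_square_rank (hf : SymForm f) {d z d' z' : Ud F 4} (hd0 : d ≠ 0) (hd : f d d = 0) (hdz : f d z = 0)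
    (hz : f z z ≠ 0) (hd0' : d' ≠ 0) (hd' : f d' d' = 0) (hdz' : f d' z' = 0) (hz' : f z' z' ≠ 0) :
    5 ≤ finrank F (LinearMap.range ((lm (slot hf (0 : Fin (1 + 1)) (sU hf hd hdz) *
      slot hf 1 (sU hf hd' hdz')) - 1) ^ 2)) := by
  classical
  have h2 := hf.two
  have hzd : f z d = 0 := by rw [hf.symm]; exact hdz
  have hzd' : f z' d' = 0 := by rw [hf.symm]; exact hdz'
  obtain ⟨c, e, hc, hde, hed, hee, hze, hez, hcd, hdc, hcz, hzc, hce, hec⟩ := sU_frame hf hd0 hd hdz hz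
  obtain ⟨c', e', hc', hde', hed', hee', hze', hez', hcd', hdc', hcz', hzc', hce', hec'⟩ :=
    sU_frame hf hd0' hd' hdz' hz'
  set L := (lm (slot hf (0 : Fin (1 + 1)) (sU hf hd hdz) * slot hf 1 (sU hf hd' hdz')) - 1) ^ 2
  let A := (sU hf hd hdz : Ud F 4 ≃ₗ[F] Ud F 4)
  let B := (sU hf hd' hdz' : Ud F 4 ≃ₗ[F] Ud F 4)
  have hy : ∀ η : Fin (1 + 1) → Ud F 4, lm (slot hf (0 : Fin (1 + 1)) (sU hf hd hdz) * slot hf 1 (sU hf hd' hdz'))
      (pvec η) = pvec ![A (η 0), B (η 1)] := fun η => by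
    show ((slot hf (0 : Fin (1 + 1)) (sU hf hd hdz) * slot hf 1 (sU hf hd' hdz') : OQ (qT f (1 + 1))) :
      Vt F 4 (1 + 1) ≃ₗ[F] Vt F 4 (1 + 1)) (pvec η) = _
    rw [Subgroup.coe_mul, LinearEquiv.mul_apply, slot_pvec, slot_pvec]
    refine congrArg pvec (funext fun l => ?_)
    fin_cases l <;> simp [A, B]
  have key : ∀ a b a' b' : Ud F 4, frm f (1 + 1) (L (pvec ![a, b])) (pvec ![a', b']) =
      f (A (A a)) a' * f (B (B b)) b' - 2 * (f (A a) a' * f (B b) b') + f a a' * f b b' := fun a b a' b' => by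
    have e1 : L (pvec ![a, b]) = pvec ![A (A a), B (B b)] - (2 : F) • pvec ![A a, B b] + pvec ![a, b] := by
      simp only [L, pow_two, Module.End.mul_apply, LinearMap.sub_apply, Module.End.one_apply, map_sub, hy,
        Matrix.cons_val_zero, Matrix.cons_val_one, Matrix.head_cons]
      module
    simp [e1, frm_pvec, Fin.prod_univ_two]
  let src : Fin 5 → Vt F 4 (1 + 1) :=
    ![pvec ![e, d'], pvec ![e, c'], pvec ![c, e'], pvec ![e, z'], pvec ![e, e']]
  have hli : LinearIndependent F fun j => L (src j) := by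
    rw [Fintype.linearIndependent_iff]
    intro g hg
    have hφ : ∀ a' b', ∑ j, g j * frm f (1 + 1) (L (src j)) (pvec ![a', b']) = 0 := fun a' b' => by
      have := congrArg (fun v => frm f (1 + 1) v (pvec ![a', b'])) hg
      simpa [map_sum, LinearMap.sum_apply] using this
    have h1 := hφ e e'
    have h2' := hφ e c'
    have h3 := hφ c e'
    have h4 := hφ z e'
    have h5 := hφ z z'
    simp [Fin.sum_univ_five, src, key, A, B, sU_apply, hd, hdz, hzd, hd', hdz', hzd', hde, hed, hee, hze, hez, hcd,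
      hdc, hcz, hzc, hce, hec, hde', hed', hee', hze', hez', hcd', hdc', hcz', hzc', hce', hec'] at h1 h2' h3 h4 h5
    ring_nf at h1 h2' h3 h4 h5
    simp [hz, hz', hc, hc', h2] at h1 h2' h3 h4 h5
    intro j
    fin_cases j <;> simp_all
  calc 5 = finrank F (Submodule.span F (Set.range fun j => L (src j))) := by
        rw [finrank_span_eq_card hli, Fintype.card_fin]
    _ ≤ _ := Submodule.finrank_mono (Submodule.span_le.2 (by rintro _ ⟨j, rfl⟩; exact ⟨_, rfl⟩))

namespace EvenCtx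

variable {X : Subgroup (OQ (qT f (1 + 1)))} (C : EvenCtx hf X)
include C

/-- **An element with a standard conjugate of a Siegel element of one factor is standard.** -/
theorem std_of_siegel_conj {g : OQ (qT f (1 + 1))} (hg : g ∈ X) {i : Fin 2} {d z : Ud F 4} (hd0 : d ≠ 0)
    (hd : f d d = 0) (hdz : f d z = 0) (hz : f z z ≠ 0)
    (hy : IsStd (g * slot hf i (sU hf hd hdz) * g⁻¹)) : IsStd g := by
  classical
  obtain ⟨p, hp⟩ := CharP.exists F
  haveI : Fact p.Prime := ⟨CharP.char_is_prime F p⟩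
  set σ := slot hf i (sU hf hd hdz)
  have hσp : σ ^ p = 1 := by
    rw [← map_pow, sU_pow, ← map_one (slot hf i), ← sU_zero hf hd]
    congr 1
    exact qU_ext hf fun a => by simp [sU_apply]
  obtain ⟨w, hyw, hwp⟩ := std_normal_p hf hy (p := p) (by rw [conj_pow, hσp, mul_one, mul_inv_cancel])
  have hpow : ∀ (u : OQ (qU f)) (n : ℕ), lm (u ^ n) = lm u ^ n := fun u n => by
    induction n with
    | zero => rfl
    | succ n ih => rw [pow_succ, pow_succ, lm_mul, ih]
  have hcase : ∀ l, w l = 1 ∨ ∃ (d' z' : Ud F 4) (_ : d' ≠ 0) (hd' : f d' d' = 0) (hdz' : f d' z' = 0),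
      f z' z' ≠ 0 ∧ w l = sU hf hd' hdz' := fun l => by
    rcases OrthTensorFour.one_or_sv hf (C.toCore.thin rfl) (p := p) (A := lm (w l)) (fun x y => map_f hf (w l) x y)
      (by rw [← hpow, hwp l, lm_one]) with h | ⟨d', z', hd0', hd', hdz', hz', hA⟩
    · exact Or.inl (qU_ext hf fun q => LinearMap.congr_fun h q)
    · exact Or.inr ⟨d', z', hd0', hd', hdz', hz', qU_ext hf hA⟩
  rcases hcase 0 with h0 | ⟨d₀, z₀, hd00, hd₀, hdz₀, hz₀, h0⟩
  · exact C.conj_std hg hd0 hd hdz hz (j := 1) (v := w 1) (by rw [hyw, h0, map_one, one_mul])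
  rcases hcase 1 with h1 | ⟨d₁, z₁, hd10, hd₁, hdz₁, hz₁, h1⟩
  · exact C.conj_std hg hd0 hd hdz hz (j := 0) (v := w 0) (by rw [hyw, h1, map_one, mul_one])
  exfalso
  have h5 := pair_square_rank hf hd00 hd₀ hdz₀ hz₀ hd10 hd₁ hdz₁ hz₁
  rw [← h0, ← h1, ← hyw] at h5
  set G : Module.End F (Vt F 4 (1 + 1)) := lm g
  have hG : G * lm (g⁻¹) = 1 := by rw [← lm_mul, mul_inv_cancel, lm_one]
  have hG' : lm (g⁻¹) * G = 1 := by rw [← lm_mul, inv_mul_cancel, lm_one]
  have hL : (lm (g * σ * g⁻¹) - 1) ^ 2 = G * (lm σ - 1) ^ 2 * lm (g⁻¹) := by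
    rw [lm_mul, lm_mul, show G * lm σ * lm (g⁻¹) - 1 = G * (lm σ - 1) * lm (g⁻¹) by
      rw [mul_sub, sub_mul, mul_one, hG], pow_two, pow_two]
    simp only [mul_assoc]
    rw [← mul_assoc (lm (g⁻¹)) G, hG', one_mul]
  have hσ : LinearMap.range ((lm σ - 1) ^ 2) ≤ LinearMap.range (Tm i d : Vt F 4 1 →ₗ[F] Vt F 4 (1 + 1)) := by
    have e : (lm σ - 1) ^ 2 = emb i ((lm (sU hf hd hdz) - 1) ^ 2) := by
      rw [map_pow, map_sub, map_one]
      exact congrArg (fun a => (a - 1) ^ 2) (slot_coe hf i _)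
    rw [← Submodule.ker_mkQ (LinearMap.range (Tm i d : Vt F 4 1 →ₗ[F] Vt F 4 (1 + 1))),
      LinearMap.range_le_ker_iff]
    refine pvec_ext fun ξ => ?_
    rw [← Fin.insertNth_self_removeNth i ξ, ← Tm_pvec, LinearMap.comp_apply, LinearMap.zero_apply, e, emb_Tm_self]
    rw [Submodule.mkQ_apply, Submodule.Quotient.mk_eq_zero]
    obtain ⟨r, hr⟩ : ∃ r : F, ((lm (sU hf hd hdz) - 1 : Module.End F (Ud F 4)) ^ 2) (ξ i) = r • d := by
      refine ⟨-(f d (ξ i) * f z z), ?_⟩
      have hzd : f z d = 0 := by rw [hf.symm]; exact hdz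
      have hsU : ∀ q, lm (sU hf hd hdz) q = q + f d q • z - f z q • d - (f z z / 2 * f d q) • d := sU_apply hf hd hdz
      simp only [pow_two, Module.End.mul_apply, LinearMap.sub_apply, Module.End.one_apply, hsU, map_add, map_sub,
        map_smul, smul_eq_mul, hd, hdz, hzd, mul_zero]
      module
    exact ⟨r • pvec (i.removeNth ξ), by rw [hr, map_smul, map_smul, LinearMap.smul_apply]⟩
  have h4 : finrank F (LinearMap.range ((lm σ - 1) ^ 2)) ≤ 4 :=
    (Submodule.finrank_mono hσ).trans ((LinearMap.finrank_range_le _).trans (by simp))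
  rw [hL] at h5
  have h6 : finrank F (LinearMap.range (G * (lm σ - 1) ^ 2 * lm (g⁻¹))) ≤
      finrank F ((LinearMap.range ((lm σ - 1) ^ 2)).map G) := Submodule.finrank_mono (by
    rintro _ ⟨v, rfl⟩
    exact ⟨_, ⟨lm (g⁻¹) v, rfl⟩, rfl⟩)
  have h7 := Submodule.finrank_map_le G (LinearMap.range ((lm σ - 1) ^ 2))
  exact absurd ((h5.trans h6).trans (h7.trans h4)) (by norm_num)

end EvenCtx

end CfsgLib.Geo.OrthWreath
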