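/-
Involutions with two planes of eigenvectors in an orthogonal space of dimension four without totally singular planes.
-/
import Cfsg.Agent.Lib.Geo.OrthWreath.Four.Unipotent
import Cfsg.Agent.Lib.Geo.OrthWreath.Even.Main

set_option autoImplicit false
set_option linter.unusedSectionVars false

namespace CfsgLib.Geo.OrthWreath

open CfsgLib.Classical CfsgLib.Classical.Quad Module
open CfsgLib.Geo.MixTensor (SymForm)
open LinearMap (BilinForm)

variable {F : Type*} [Field F] [Finite F] {f : BilinForm F (Ud F 4)}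

/-- An involution whose eigenspaces are two planes. -/
def IsPlane (v : OQ (qU f)) : Prop := v * v = 1 ∧ dd (lm v) = 0

/-- A plane involution inverting an isotropic vector. -/
def PlaneHyp (f : BilinForm F (Ud F 4)) (v : OQ (qU f)) : Prop :=
  IsPlane v ∧ ∃ d : Ud F 4, d ≠ 0 ∧ f d d = 0 ∧ (v : Ud F 4 ≃ₗ[F] Ud F 4) d = -d

theorem isPlane_rr (hf : SymForm f) {a b : Ud F 4} (ha : f a a ≠ 0) (hb : f b b ≠ 0) (hab : f a b = 0) :
    IsPlane (rfU hf ha * rfU hf hb) :=
  ⟨(dd_rr hf ha hb hab).1, by rw [(dd_rr hf ha hb hab).2]; norm_num⟩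

/-- A product of two nonsquares is a square. -/
theorem nsq_mul_nsq (hf : SymForm f) {a b : F} (ha : ¬ IsSquare a) (hb : ¬ IsSquare b) : IsSquare (a * b) := by
  have hc : ringChar F ≠ 2 := fun h => hf.two (by
    have : CharP F 2 := ringChar.eq_iff.1 h
    exact_mod_cast CharP.cast_eq_zero F 2)
  have := Fintype.ofFinite F
  have ha0 : a ≠ 0 := fun h => ha (h ▸ IsSquare.zero)
  have hb0 : b ≠ 0 := fun h => hb (h ▸ IsSquare.zero)
  rw [FiniteField.isSquare_iff hc (mul_ne_zero ha0 hb0), mul_pow,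
    (FiniteField.pow_dichotomy hc ha0).resolve_left fun h => ha ((FiniteField.isSquare_iff hc ha0).2 h),
    (FiniteField.pow_dichotomy hc hb0).resolve_left fun h => hb ((FiniteField.isSquare_iff hc hb0).2 h)]
  simp

/-- The orthogonal companions of an orthogonal pair. -/
theorem exists_quad (hf : SymForm f) {a b : Ud F 4} (ha : f a a ≠ 0) (hb : f b b ≠ 0) (hab : f a b = 0) :
    ∃ c e : Ud F 4, f c c ≠ 0 ∧ f e e ≠ 0 ∧ Orth f ![a, b, c, e] := by
  obtain ⟨c, hc, gc⟩ := (orth_two hf ha hb hab).exists_aniso hf (by norm_num)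
  have o3 := (orth_two hf ha hb hab).cons hf hc gc
  obtain ⟨e, he, ge⟩ := o3.exists_aniso hf (by norm_num)
  have e1 : f c e = 0 := by simpa using ge 0
  have e2 : f a e = 0 := by simpa using ge 1
  have e3 : f b e = 0 := by simpa using ge 2
  have c1 : f a c = 0 := by simpa using gc 0
  have c2 : f b c = 0 := by simpa using gc 1
  have s : ∀ {p q : Ud F 4}, f p q = 0 → f q p = 0 := fun {p q} h => by rw [hf.symm]; exact h
  refine ⟨c, e, hc, he, fun i => ?_, fun i j hij => ?_⟩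
  · fin_cases i <;> simp [ha, hb, hc, he]
  · fin_cases i <;> fin_cases j <;>
      simp [e1, e2, e3, c1, c2, hab, s e1, s e2, s e3, s c1, s c2, s hab] at hij ⊢

theorem quad_entries {a b c e : Ud F 4} (h : Orth f ![a, b, c, e]) :
    (f a a ≠ 0 ∧ f b b ≠ 0 ∧ f c c ≠ 0 ∧ f e e ≠ 0) ∧
      (f a b = 0 ∧ f a c = 0 ∧ f a e = 0 ∧ f b c = 0 ∧ f b e = 0 ∧ f c e = 0) ∧
      (f b a = 0 ∧ f c a = 0 ∧ f e a = 0 ∧ f c b = 0 ∧ f e b = 0 ∧ f e c = 0) :=
  ⟨⟨h.1 0, h.1 1, h.1 2, h.1 3⟩,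
    ⟨h.2 0 1 (by decide), h.2 0 2 (by decide), h.2 0 3 (by decide), h.2 1 2 (by decide), h.2 1 3 (by decide),
      h.2 2 3 (by decide)⟩,
    ⟨h.2 1 0 (by decide), h.2 2 0 (by decide), h.2 3 0 (by decide), h.2 2 1 (by decide), h.2 3 1 (by decide),
      h.2 3 2 (by decide)⟩⟩

/-- The expansion in an orthogonal basis. -/
theorem quad_decomp (hf : SymForm f) {a b c e : Ud F 4} (h : Orth f ![a, b, c, e]) (q : Ud F 4) :
    q = (f a q / f a a) • a + (f b q / f b b) • b + (f c q / f c c) • c + (f e q / f e e) • e := by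
  obtain ⟨⟨ha, hb, hc, he⟩, ⟨h1, h2, h3, h4, h5, h6⟩, ⟨g1, g2, g3, g4, g5, g6⟩⟩ := quad_entries h
  refine sub_eq_zero.1 (hf.nd.2 _ fun y => ?_)
  have hy : y ∈ Submodule.span F (Set.range ![a, b, c, e]) := by rw [h.span_top]; trivial
  induction hy using Submodule.span_induction with
  | mem y hy =>
    obtain ⟨i, rfl⟩ := hy
    fin_cases i <;>
      simp [h1, h2, h3, h4, h5, h6, g1, g2, g3, g4, g5, g6, div_mul_cancel₀ _ ha, div_mul_cancel₀ _ hb,
        div_mul_cancel₀ _ hc, div_mul_cancel₀ _ he]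
  | zero => simp
  | add p q _ _ hp hq => simp [hp, hq]
  | smul r p _ hp => simp [hp]

/-- **The discriminant is not a square.** -/
theorem disc_nsq (hf : SymForm f) (thin : OrthTensorFour.Thin f) {a b c e : Ud F 4} (h : Orth f ![a, b, c, e]) :
    ¬ IsSquare (f a a * f b b * (f c c * f e e)) := by
  rintro ⟨r, hr⟩
  obtain ⟨⟨ha, hb, hc, he⟩, ⟨h1, h2, h3, h4, h5, h6⟩, ⟨g1, g2, g3, g4, g5, g6⟩⟩ := quad_entries h
  obtain ⟨x, hx, gx⟩ := (orth_two hf hc he h6).exists_norm hf (by norm_num) (neg_ne_zero.2 hc)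
  have hcx : f c x = 0 := by simpa using gx 0
  have hex : f e x = 0 := by simpa using gx 1
  obtain ⟨s, u, rfl⟩ : ∃ s u : F, x = s • a + u • b :=
    ⟨f a x / f a a, f b x / f b b, by
      have := quad_decomp hf h x
      rw [hcx, hex, zero_div, zero_div, zero_smul, zero_smul, add_zero, add_zero] at this
      exact this⟩
  simp [h1, g1] at hx
  have hr0 : r ≠ 0 := fun h0 => by
    rw [h0, mul_zero] at hr
    exact mul_ne_zero (mul_ne_zero ha hb) (mul_ne_zero hc he) hr
  set w := (s • a + u • b) + c with hw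
  set w' := (r / (f a a * f b b * f c c)) • ((-(u * f b b)) • a + (s * f a a) • b) + e with hw'
  have hww : f w w = 0 := by
    simp [hw, h1, h2, g1, g2, h4, g4]
    linear_combination hx
  have hww' : f w w' = 0 := by
    simp [hw, hw', h1, g1, h3, h5, g2, g4, h6]
    ring
  have hvv : f ((-(u * f b b)) • a + (s * f a a) • b) ((-(u * f b b)) • a + (s * f a a) • b) =
      f a a * f b b * (-f c c) := by
    simp [h1, g1]
    linear_combination (f a a * f b b) * hx
  have hve : f ((-(u * f b b)) • a + (s * f a a) • b) e = 0 := by simp [h3, h5]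
  have hev : f e ((-(u * f b b)) • a + (s * f a a) • b) = 0 := by simp [g3, g5]
  have hw'w' : f w' w' = 0 := by
    rw [hw']
    generalize (-(u * f b b)) • a + (s * f a a) • b = v at hvv hve hev
    simp only [map_add, map_smul, LinearMap.add_apply, LinearMap.smul_apply, smul_eq_mul, hvv, hve, hev, mul_zero,
      add_zero, zero_add]
    field_simp
    linear_combination hr
  have hw0 : w ≠ 0 := fun h0 => by
    have := congrArg (f c) h0
    simp [hw, g2, g4, hc] at this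
  obtain ⟨m, hm⟩ := Submodule.mem_span_singleton.1 (thin w w' hww hw0 hww' hw'w')
  have := congrArg (f e) hm
  simp [hw, hw', g3, g5, g6] at this
  exact he this.symm

/-- **A plane involution or its negative inverts two orthogonal vectors of equal norm.** -/
theorem plane_balanced (hf : SymForm f) (thin : OrthTensorFour.Thin f) {v : OQ (qU f)} (hv : IsPlane v) :
    ∃ (c₁ c₂ : Ud F 4) (h₁ : f c₁ c₁ ≠ 0) (h₂ : f c₂ c₂ ≠ 0), f c₁ c₂ = 0 ∧ f c₂ c₂ = f c₁ c₁ ∧
      (v = rfU hf h₁ * rfU hf h₂ ∨ ∀ q, (v : Ud F 4 ≃ₗ[F] Ud F 4) q =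
        -((rfU hf h₁ * rfU hf h₂ : OQ (qU f)) : Ud F 4 ≃ₗ[F] Ud F 4) q) := by
  obtain ⟨a, b, ha, hb, hab, rfl⟩ := eq_rr_of_dd hf hv.1 (by rw [hv.2]; norm_num)
  obtain ⟨c, e, hc, he, h⟩ := exists_quad hf ha hb hab
  obtain ⟨-, ⟨h1, h2, h3, h4, h5, h6⟩, ⟨g1, g2, g3, g4, g5, g6⟩⟩ := quad_entries h
  have nd := disc_nsq hf thin h
  have scale : ∀ {x y : Ud F 4} (hx : f x x ≠ 0) (hy : f y y ≠ 0) {r : F}, f x x * f y y = r * r →
      ∃ (hy' : f ((r / f y y) • y) ((r / f y y) • y) ≠ 0),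
        f ((r / f y y) • y) ((r / f y y) • y) = f x x ∧ rfU hf hy' = rfU hf hy := by
    intro x y hx hy r hr
    have e1 : f ((r / f y y) • y) ((r / f y y) • y) = f x x := by
      simp only [map_smul, LinearMap.smul_apply, smul_eq_mul]
      field_simp
      linear_combination -hr
    have hr0 : r ≠ 0 := fun h0 => mul_ne_zero hx hy (by rw [hr, h0, mul_zero])
    refine ⟨by rw [e1]; exact hx, e1, qU_ext hf fun q => ?_⟩
    rw [rfU_apply, rfU_apply, MixTensor.refl_apply, MixTensor.refl_apply]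
    simp only [map_smul, LinearMap.smul_apply, smul_eq_mul, smul_smul]
    congr 2
    field_simp
  by_cases hsq : IsSquare (f a a * f b b)
  · obtain ⟨r, hr⟩ := hsq
    obtain ⟨hy', e1, e2⟩ := scale ha hb hr
    exact ⟨a, _, ha, hy', by simp [hab], e1, Or.inl (by rw [e2])⟩
  · obtain ⟨r, hr⟩ : IsSquare (f c c * f e e) := by
      by_contra hns
      exact nd (nsq_mul_nsq hf hsq hns)
    obtain ⟨hy', e1, e2⟩ := scale hc he hr
    refine ⟨c, _, hc, hy', by simp [h6], e1, Or.inr fun q => ?_⟩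
    rw [e2, quad_decomp hf h q]
    simp only [map_add, map_smul, Subgroup.coe_mul, LinearEquiv.mul_apply, rfU_self hf ha, rfU_self hf hb,
      rfU_self hf hc, rfU_self hf he, rfU_perp hf ha h1, rfU_perp hf ha h2, rfU_perp hf ha h3, rfU_perp hf hb g1,
      rfU_perp hf hb h4, rfU_perp hf hb h5, rfU_perp hf hc g2, rfU_perp hf hc g4, rfU_perp hf hc h6,
      rfU_perp hf he g3, rfU_perp hf he g5, rfU_perp hf he g6, map_neg]
    module

/-- **Of a plane involution and its negative, one inverts an isotropic vector.** -/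
theorem plane_hyp_or (hf : SymForm f) (thin : OrthTensorFour.Thin f) {v v' : OQ (qU f)} (hv : IsPlane v)
    (hv' : IsPlane v') (hneg : ∀ q, (v' : Ud F 4 ≃ₗ[F] Ud F 4) q = -(v : Ud F 4 ≃ₗ[F] Ud F 4) q) :
    PlaneHyp f v ∨ PlaneHyp f v' := by
  have hvp := hv
  obtain ⟨a, b, ha, hb, hab, rfl⟩ := eq_rr_of_dd hf hv.1 (by rw [hv.2]; norm_num)
  obtain ⟨c, e, hc, he, h⟩ := exists_quad hf ha hb hab
  obtain ⟨-, ⟨h1, h2, h3, h4, h5, h6⟩, ⟨g1, g2, g3, g4, g5, g6⟩⟩ := quad_entries h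
  have nd := disc_nsq hf thin h
  by_cases hsq : IsSquare (-(f a a * f b b))
  · obtain ⟨r, hr⟩ := hsq
    refine Or.inl ⟨hvp, r • a + f a a • b, fun h0 => ?_, ?_, ?_⟩
    · have := congrArg (f b) h0
      simp [g1, hb, ha] at this
    · simp [hab, g1]
      linear_combination f a a * hr.symm
    · simp only [map_add, map_smul, Subgroup.coe_mul, LinearEquiv.mul_apply, rfU_self hf ha, rfU_self hf hb,
        rfU_perp hf ha h1, rfU_perp hf hb g1, map_neg]
      module
  · obtain ⟨r, hr⟩ : IsSquare (-(f c c * f e e)) := by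
      by_contra hns
      exact nd (by simpa using nsq_mul_nsq hf hsq hns)
    refine Or.inr ⟨hv', r • c + f c c • e, fun h0 => ?_, ?_, ?_⟩
    · have := congrArg (f e) h0
      simp [g6, he, hc] at this
    · simp [h6, g6]
      linear_combination f c c * hr.symm
    · rw [hneg]
      simp only [map_add, map_smul, Subgroup.coe_mul, LinearEquiv.mul_apply, rfU_perp hf hb h4, rfU_perp hf ha h2,
        rfU_perp hf hb h5, rfU_perp hf ha h3]

/-- Two eigenspaces without three dimensions are planes. -/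
theorem plane_or_three (hf : SymForm f) {u : OQ (qU f)} (hu : u * u = 1) :
    IsPlane u ∨ ∃ e : F, e * e = 1 ∧ 3 ≤ finrank F (fixS (e • lm u)) := by
  have hsum := fixS_add hf.two (L := lm u) (by rw [← lm_mul, hu, lm_one])
  rw [finrank_fin_fun] at hsum
  by_cases h1 : 3 ≤ finrank F (fixS (lm u))
  · exact Or.inr ⟨1, one_mul 1, by rwa [one_smul]⟩
  by_cases h2 : 3 ≤ finrank F (fixS (-lm u))
  · exact Or.inr ⟨-1, by norm_num, (neg_one_smul F (lm u)).symm ▸ h2⟩
  exact Or.inl ⟨hu, by rw [dd]; omega⟩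

/-- The quarter turn of two orthogonal vectors of equal norm. -/
theorem quarter (hf : SymForm f) {a b : Ud F 4} (ha : f a a ≠ 0) (hb : f b b ≠ 0) (hab : f a b = 0)
    (heq : f b b = f a a) :
    ∃ (hd : f (a - b) (a - b) ≠ 0),
      ((rfU hf hd * rfU hf ha : OQ (qU f)) : Ud F 4 ≃ₗ[F] Ud F 4) a = -b ∧
      ((rfU hf hd * rfU hf ha : OQ (qU f)) : Ud F 4 ≃ₗ[F] Ud F 4) b = a ∧
      (∀ q, f a q = 0 → f b q = 0 → ((rfU hf hd * rfU hf ha : OQ (qU f)) : Ud F 4 ≃ₗ[F] Ud F 4) q = q) ∧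
      rfU hf hd * rfU hf ha * (rfU hf hd * rfU hf ha) = rfU hf ha * rfU hf hb := by
  have hba : f b a = 0 := by rw [hf.symm]; exact hab
  have h2 := hf.two
  have hd : f (a - b) (a - b) ≠ 0 := by
    simp [hab, hba, heq]
    exact fun e => mul_ne_zero h2 ha (by linear_combination e)
  have e1 : ((rfU hf hd * rfU hf ha : OQ (qU f)) : Ud F 4 ≃ₗ[F] Ud F 4) a = -b := by
    rw [Subgroup.coe_mul, LinearEquiv.mul_apply, rfU_self hf ha, map_neg, rfU_apply, MixTensor.refl_apply]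
    have hq : 2 / f (a - b) (a - b) * f (a - b) a = 1 := by
      rw [div_mul_eq_mul_div, div_eq_one_iff_eq hd]
      simp [hab, hba, heq]
      ring
    rw [hq]
    module
  have e2 : ((rfU hf hd * rfU hf ha : OQ (qU f)) : Ud F 4 ≃ₗ[F] Ud F 4) b = a := by
    rw [Subgroup.coe_mul, LinearEquiv.mul_apply, rfU_perp hf ha hab, rfU_apply, MixTensor.refl_apply]
    have hq : 2 / f (a - b) (a - b) * f (a - b) b = -1 := by
      rw [div_mul_eq_mul_div, div_eq_iff hd]
      simp [hab, hba, heq]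
      ring
    rw [hq]
    module
  have e3 : ∀ q, f a q = 0 → f b q = 0 → ((rfU hf hd * rfU hf ha : OQ (qU f)) : Ud F 4 ≃ₗ[F] Ud F 4) q = q :=
    fun q h1 h3 => by
      rw [Subgroup.coe_mul, LinearEquiv.mul_apply, rfU_perp hf ha h1, rfU_perp hf hd (by simp [h1, h3])]
  obtain ⟨c, e, hc, he, h⟩ := exists_quad hf ha hb hab
  obtain ⟨-, ⟨h1, h2', h3, h4, h5, h6⟩, ⟨g1, g2, g3, g4, g5, g6⟩⟩ := quad_entries h
  refine ⟨hd, e1, e2, e3, h.ext hf rfl fun j => ?_⟩
  revert e1 e2 e3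
  generalize rfU hf hd * rfU hf ha = ρ
  intro e1 e2 e3
  rw [Subgroup.coe_mul, LinearEquiv.mul_apply, Subgroup.coe_mul, LinearEquiv.mul_apply]
  fin_cases j
  · simp [e1, e2, rfU_perp hf hb g1, rfU_self hf ha]
  · simp [e1, e2, rfU_self hf hb, rfU_perp hf ha hab]
  · simp [e3 c h2' h4, rfU_perp hf hb h4, rfU_perp hf ha h2']
  · simp [e3 e h3 h5, rfU_perp hf hb h5, rfU_perp hf ha h3]

end CfsgLib.Geo.OrthWreath
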