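/-
Two factors of dimension four: an element with a standard conjugate of a plane involution of one factor is
standard, if those carrying such involutions into one factor are.
-/
import Cfsg.Agent.Lib.Geo.OrthWreath.Four.Planes

set_option autoImplicit false
set_option linter.unusedSectionVars false

namespace CfsgLib.Geo.OrthWreath

open CfsgLib.Classical CfsgLib.Classical.Quad Module
open CfsgLib.Geo.MixTensor (SymForm)
open CfsgLib.Geo.TensorWreath (pvec)
open LinearMap (BilinForm)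

variable {F : Type*} [Field F] [Finite F] {f : BilinForm F (Ud F 4)} {hf : SymForm f}

/-- The elements carrying a plane involution of one factor into one factor are standard. -/
def PlaneStd (hf : SymForm f) (X : Subgroup (OQ (qT f (1 + 1)))) : Prop :=
  ∀ {x : OQ (qT f (1 + 1))}, x ∈ X → ∀ {i j : Fin 2} {v v' : OQ (qU f)}, IsPlane v →
    x * slot hf i v * x⁻¹ = slot hf j v' → IsStd x

/-- The two factors. -/
theorem fin_two_cases (l : Fin (1 + 1)) : l = 0 ∨ l = 1 := Fin.exists_fin_two.1 ⟨l, rfl⟩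

theorem pv2_add_left (u u' p : Ud F 4) :
    pvec (F := F) (t := 1 + 1) ![u + u', p] = pvec ![u, p] + pvec ![u', p] := by
  funext c; simp [pvec, Fin.prod_univ_two]; ring

theorem pv2_add_right (u p p' : Ud F 4) :
    pvec (F := F) (t := 1 + 1) ![u, p + p'] = pvec ![u, p] + pvec ![u, p'] := by
  funext c; simp [pvec, Fin.prod_univ_two]; ring

theorem pv2_sub_left (u u' p : Ud F 4) :
    pvec (F := F) (t := 1 + 1) ![u - u', p] = pvec ![u, p] - pvec ![u', p] := by
  funext c; simp [pvec, Fin.prod_univ_two]; ring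

theorem pv2_sub_right (u p p' : Ud F 4) :
    pvec (F := F) (t := 1 + 1) ![u, p - p'] = pvec ![u, p] - pvec ![u, p'] := by
  funext c; simp [pvec, Fin.prod_univ_two]; ring

theorem pv2_eta (ξ : Fin (1 + 1) → Ud F 4) : pvec ξ = pvec ![ξ 0, ξ 1] :=
  congrArg pvec (funext fun l => by fin_cases l <;> rfl)

/-- A scalar of one factor. -/
noncomputable def scU (hf : SymForm f) {c : F} (hc : c * c = 1) : OQ (qU f) :=
  mkU hf (A := c • (1 : Module.End F (Ud F 4))) fun a b => by simp [← mul_assoc, hc]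

theorem scU_apply (hf : SymForm f) {c : F} (hc : c * c = 1) (q : Ud F 4) :
    (scU hf hc : Ud F 4 ≃ₗ[F] Ud F 4) q = c • q := rfl

theorem slot_scU (hf : SymForm f) {c : F} (hc : c * c = 1) (l : Fin (1 + 1)) (v : Vt F 4 (1 + 1)) :
    (slot hf l (scU hf hc) : Vt F 4 (1 + 1) ≃ₗ[F] Vt F 4 (1 + 1)) v = c • v := by
  rw [← LinearEquiv.coe_coe, slot_coe, show ((scU hf hc : Ud F 4 ≃ₗ[F] Ud F 4) : Ud F 4 →ₗ[F] Ud F 4) = c • 1 from
    LinearMap.ext (scU_apply hf hc), map_smul, map_one]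
  rfl

theorem slot_scU_eq (hf : SymForm f) {c : F} (hc : c * c = 1) (l l' : Fin (1 + 1)) :
    slot hf l (scU hf hc) = slot hf l' (scU hf hc) :=
  Subtype.ext (LinearEquiv.ext fun v => (slot_scU hf hc l v).trans (slot_scU hf hc l' v).symm)

theorem slot_scU_central (hf : SymForm f) {c : F} (hc : c * c = 1) (l : Fin (1 + 1)) (g : OQ (qT f (1 + 1))) :
    Commute g (slot hf l (scU hf hc)) :=
  Subtype.ext (LinearEquiv.ext fun v => by
    simp only [Subgroup.coe_mul, LinearEquiv.mul_apply, slot_scU, map_smul])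

/-- A quarter turn and its involution. -/
theorem plane_root (hf : SymForm f) (thin : OrthTensorFour.Thin f) {v : OQ (qU f)} (hv : IsPlane v) :
    ∃ (c₁ c₂ : Ud F 4) (h₁ : f c₁ c₁ ≠ 0) (_ : f c₂ c₂ ≠ 0) (hd : f (c₁ - c₂) (c₁ - c₂) ≠ 0) (ε : F) (hε : ε * ε = 1),
      f c₁ c₂ = 0 ∧ f c₂ c₂ = f c₁ c₁ ∧
      ((rfU hf hd * rfU hf h₁ : OQ (qU f)) : Ud F 4 ≃ₗ[F] Ud F 4) c₁ = -c₂ ∧
      ((rfU hf hd * rfU hf h₁ : OQ (qU f)) : Ud F 4 ≃ₗ[F] Ud F 4) c₂ = c₁ ∧
      (∀ q, f c₁ q = 0 → f c₂ q = 0 → ((rfU hf hd * rfU hf h₁ : OQ (qU f)) : Ud F 4 ≃ₗ[F] Ud F 4) q = q) ∧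
      v = scU hf hε * (rfU hf hd * rfU hf h₁ * (rfU hf hd * rfU hf h₁)) := by
  obtain ⟨c₁, c₂, h₁, h₂, h12, heq, hv'⟩ := plane_balanced hf thin hv
  obtain ⟨hd, e1, e2, e3, e4⟩ := quarter hf h₁ h₂ h12 heq
  rcases hv' with h | h
  · exact ⟨c₁, c₂, h₁, h₂, hd, 1, one_mul 1, h12, heq, e1, e2, e3, qU_ext hf fun q => by
      rw [e4]; simp only [Subgroup.coe_mul, LinearEquiv.mul_apply, scU_apply, one_smul, h]⟩
  · exact ⟨c₁, c₂, h₁, h₂, hd, -1, by norm_num, h12, heq, e1, e2, e3, qU_ext hf fun q => by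
      rw [e4]; simp only [Subgroup.coe_mul, LinearEquiv.mul_apply, scU_apply, neg_one_smul, h]⟩

/-- A standard involution with vanishing difference of dimensions: two involutions, or self-adjoint factors with
square a nonsquare. -/
theorem invol_cases (hf : SymForm f) (thin : OrthTensorFour.Thin f) {y : OQ (qT f (1 + 1))} (hy : IsStd y)
    (hyy : y * y = 1) (hd : dd (lm y) = 0) :
    (∃ u₀ u₁ : OQ (qU f), u₀ * u₀ = 1 ∧ u₁ * u₁ = 1 ∧ y = slot hf 0 u₀ * slot hf 1 u₁) ∨
      ∃ (gs : Fin (1 + 1) → Ud F 4 ≃ₗ[F] Ud F 4) (m : Fin (1 + 1) → F), Acts (lm y) 1 gs ∧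
        (∀ l, m l ≠ 0) ∧ (∀ l a b, f (gs l a) (gs l b) = m l * f a b) ∧
        ∀ l, ¬ IsSquare (m l) ∧ (∀ a, gs l (gs l a) = m l • a) ∧ ∀ a b, f (gs l a) b = f a (gs l b) := by
  classical
  have h2 := hf.two
  obtain ⟨π, gs, m, e, hm0, hm1, hsim⟩ := hy.acts hf (by norm_num)
  have hL : lm y * lm y = 1 := by rw [← lm_mul, hyy, lm_one]
  obtain ⟨hππ, s, hs1, hs⟩ := e.sq (by norm_num) hL
  have hπ : π = 1 := by
    by_contra hne
    have hmove : ∀ l, π⁻¹ l ≠ l := fun l hl => hne (inv_eq_one.1 (Equiv.ext fun m => by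
      rcases fin_two_cases l with rfl | rfl <;> rcases fin_two_cases m with rfl | rfl
      · exact hl
      · rcases fin_two_cases (π⁻¹ 1) with h | h
        · exact absurd (π⁻¹.injective (hl.trans h.symm)) (by decide)
        · exact h
      · rcases fin_two_cases (π⁻¹ 0) with h | h
        · exact h
        · exact absurd (π⁻¹.injective (hl.trans h.symm)) (by decide)
      · exact hl))
    have h1 := e.dd_moved h2 hL hππ hmove hs1 hs (by norm_num)
    rw [hd, Int.natAbs_zero, eq_comm, Finset.card_eq_zero] at h1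
    exact Finset.notMem_empty (fun _ : Fin (1 + 1) => (0 : Fin 4))
      (h1 ▸ Finset.mem_filter.2 ⟨Finset.mem_univ _, rfl⟩)
  subst hπ
  simp only [inv_one, Equiv.Perm.one_apply] at hs
  obtain ⟨z, hz⟩ := exists_aniso_vec hf (k := 4) (by norm_num)
  have hms : ∀ l, m l * m l = s l * s l := fun l => by
    have h1 := hsim l (gs l z) (gs l z)
    rw [hs, hsim l z z, map_smul, map_smul, LinearMap.smul_apply, smul_eq_mul, smul_eq_mul] at h1
    exact mul_right_cancel₀ hz (by linear_combination -h1)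
  have hs0 : ∀ l, s l ≠ 0 := fun l h => hm0 l (mul_self_eq_zero.1 (by rw [hms, h, mul_zero]))
  have hsm : ∀ l, s l = m l := by
    intro l
    rcases mul_self_eq_mul_self_iff.1 (hms l).symm with h | h
    · exact h
    exfalso
    have hskew : ∀ a b, f (gs l a) b = -f a (gs l b) := fun a b => by
      have h1 := hsim l a (gs l b)
      rw [hs, map_smul, smul_eq_mul, h, neg_mul] at h1
      exact mul_left_cancel₀ (hm0 l) (by linear_combination -h1)
    have hev : ∀ d, d ≠ 0 → f d d = 0 → ∃ r : F, r ≠ 0 ∧ gs l d = r • d := fun d hd0 hdd => by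
      have h1 := hskew d d
      have h0 : f (gs l d) d = f d (gs l d) := by rw [hf.symm]
      rw [h0] at h1
      have h3 : f d (gs l d) = 0 := (mul_eq_zero.1 (show (2 : F) * f d (gs l d) = 0 by linear_combination h1)).resolve_left h2
      obtain ⟨r, hr⟩ := Submodule.mem_span_singleton.1 (thin d (gs l d) hdd hd0 h3 (by rw [hsim, hdd, mul_zero]))
      exact ⟨r, fun h0 => hd0 ((gs l).map_eq_zero_iff.1 (by rw [← hr, h0, zero_smul])), hr.symm⟩
    obtain ⟨d, z₁, hd0, hdd, hdz, hzz, -, -⟩ := (orth_nil (f := f)).exists_iso hf (by norm_num)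
    obtain ⟨c, e', -, hde, hed, hee, hze, hez, -, -, -, -, -, -⟩ := sU_frame hf hd0 hdd hdz hzz
    set d₂ := e' + z₁ - (f z₁ z₁ / 2) • d
    have hzd : f z₁ d = 0 := by rw [hf.symm]; exact hdz
    have k1 : f d d₂ = 1 := by simp [d₂, hde, hdz, hdd]
    have k2 : f d₂ d₂ = 0 := by
      simp [d₂, hde, hed, hee, hze, hez, hdz, hzd, hdd]
      field_simp
      ring
    have k3 : f e' d₂ = -(f z₁ z₁ / 2) := by simp [d₂, hed, hee, hez]
    have he0 : e' ≠ 0 := fun h => by simp [h] at hde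
    have hd₂0 : d₂ ≠ 0 := fun h => by simp [h] at k1
    obtain ⟨r₁, hr₁, q₁⟩ := hev d hd0 hdd
    obtain ⟨r₂, -, q₂⟩ := hev e' he0 hee
    obtain ⟨r₃, -, q₃⟩ := hev d₂ hd₂0 k2
    have p1 : r₂ = -r₁ := by
      have := hskew d e'
      simp [q₁, q₂, hde] at this
      linear_combination this
    have p2 : r₃ = -r₁ := by
      have := hskew d d₂
      simp [q₁, q₃, k1] at this
      linear_combination this
    have p3 : r₃ = -r₂ := by
      have := hskew e' d₂
      simp [q₂, q₃, k3] at this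
      have hζ : f z₁ z₁ / 2 ≠ 0 := div_ne_zero hzz h2
      exact mul_right_cancel₀ hζ (by linear_combination -this)
    exact hr₁ ((mul_eq_zero.1 (show (2 : F) * r₁ = 0 by linear_combination p1 + p2 - p3)).resolve_left h2)
  have hadj : ∀ l a b, f (gs l a) b = f a (gs l b) := fun l a b => by
    have h1 := hsim l a (gs l b)
    rw [hs, map_smul, smul_eq_mul, hsm] at h1
    exact mul_left_cancel₀ (hm0 l) h1
  by_cases hsq : IsSquare (m 0)
  swap
  · refine Or.inr ⟨gs, m, e, hm0, hsim, fun l => ⟨fun hl => ?_, fun a => by rw [hs, hsm], hadj l⟩⟩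
    rcases fin_two_cases l with rfl | rfl
    · exact hsq hl
    · refine hsq ?_
      rw [Fin.prod_univ_two] at hm1
      rw [eq_inv_of_mul_eq_one_left hm1]
      exact hl.inv
  obtain ⟨r, hr⟩ := hsq
  have hr0 : r ≠ 0 := fun h => hm0 0 (by rw [hr, h, mul_zero])
  rw [Fin.prod_univ_two, hr] at hm1
  left
  let u₀ : OQ (qU f) := mkU hf (A := r⁻¹ • (gs 0 : Ud F 4 →ₗ[F] Ud F 4)) fun a b => by
    simp [hsim, hr]; field_simp
  let u₁ : OQ (qU f) := mkU hf (A := r • (gs 1 : Ud F 4 →ₗ[F] Ud F 4)) fun a b => by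
    simp [hsim]
    linear_combination f a b * hm1
  have e0 : ∀ q, (u₀ : Ud F 4 ≃ₗ[F] Ud F 4) q = r⁻¹ • gs 0 q := fun q => rfl
  have e1 : ∀ q, (u₁ : Ud F 4 ≃ₗ[F] Ud F 4) q = r • gs 1 q := fun q => rfl
  refine ⟨u₀, u₁, qU_ext hf fun q => ?_, qU_ext hf fun q => ?_, el_ext fun ξ => ?_⟩
  · simp only [Subgroup.coe_mul, LinearEquiv.mul_apply, e0, map_smul, hs, hsm, hr, smul_smul]
    rw [show r⁻¹ * (r⁻¹ * (r * r)) = 1 by field_simp, one_smul]; rfl
  · simp only [Subgroup.coe_mul, LinearEquiv.mul_apply, e1, map_smul, hs, hsm, smul_smul]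
    rw [show r * (r * m 1) = 1 by rw [← mul_assoc, hm1], one_smul]; rfl
  · have h1 := e ξ
    simp only [inv_one, Equiv.Perm.one_apply] at h1
    refine Eq.trans (show (y : Vt F 4 (1 + 1) ≃ₗ[F] Vt F 4 (1 + 1)) (pvec ξ) = _ from h1) ?_
    rw [Subgroup.coe_mul, LinearEquiv.mul_apply, slot_pvec, slot_pvec]
    have h3 := pvec_smul_all (fun l => gs l (ξ l)) (![r⁻¹, r] : Fin (1 + 1) → F)
    rw [Fin.prod_univ_two] at h3
    simp only [Matrix.cons_val_zero, Matrix.cons_val_one, inv_mul_cancel₀ hr0, one_smul] at h3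
    refine h3.symm.trans (congrArg pvec (funext fun l => ?_))
    fin_cases l <;> simp [e0, e1]

/-- The products of two factor elements. -/
theorem pair_mul (hf : SymForm f) (a b a' b' : OQ (qU f)) :
    slot hf (0 : Fin (1 + 1)) a * slot hf 1 b * (slot hf 0 a' * slot hf 1 b') =
      slot hf 0 (a * a') * slot hf 1 (b * b') := by
  rw [mul_assoc, ← mul_assoc (slot hf 1 b), ((slot_comm hf (by decide : (1 : Fin (1 + 1)) ≠ 0) b a')).eq, map_mul,
    map_mul]
  group

/-- The factor in a pair at a given place. -/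
theorem pair_at (hf : SymForm f) (u₀ u₁ : OQ (qU f)) (i : Fin (1 + 1)) :
    ∃ (j : Fin (1 + 1)) (u w : OQ (qU f)), j ≠ i ∧ ((u = u₀ ∧ w = u₁) ∨ (u = u₁ ∧ w = u₀)) ∧
      slot hf 0 u₀ * slot hf 1 u₁ = slot hf i u * slot hf j w := by
  rcases fin_two_cases i with rfl | rfl
  · exact ⟨1, u₀, u₁, by decide, Or.inl ⟨rfl, rfl⟩, rfl⟩
  · exact ⟨0, u₁, u₀, by decide, Or.inr ⟨rfl, rfl⟩, (slot_comm hf (by decide) _ _).eq⟩

namespace EvenCtx

variable {X : Subgroup (OQ (qT f (1 + 1)))} (C : EvenCtx hf X) (L1 : PlaneStd hf X)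
include C L1

omit L1 in
theorem slot_plane_mem {v : OQ (qU f)} (hv : IsPlane v) (l : Fin (1 + 1)) : slot hf l v ∈ X := by
  obtain ⟨a, b, ha, hb, -, rfl⟩ := eq_rr_of_dd hf hv.1 (by rw [hv.2]; norm_num)
  exact C.slot_rr_X l ha hb

omit C in
/-- The centraliser of a plane involution of one factor is standard. -/
theorem plane_centr {x : OQ (qT f (1 + 1))} (hx : x ∈ X) {i : Fin 2} {v : OQ (qU f)} (hv : IsPlane v)
    (h : Commute x (slot hf i v)) : IsStd x :=
  L1 hx hv (mul_inv_eq_of_eq_mul h.eq)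

/-- A pair with a three dimensional eigenspace. -/
theorem std_of_three {g : OQ (qT f (1 + 1))} (hg : g ∈ X) {i l j : Fin 2} (hlj : l ≠ j) {v u w : OQ (qU f)}
    (hv : IsPlane v) (hu : u * u = 1) {e : F} (he : e * e = 1) (h3 : 3 ≤ finrank F (fixS (e • lm u)))
    (h : g * slot hf i v * g⁻¹ = slot hf l u * slot hf j w) : IsStd g := by
  obtain ⟨d, z, hd, hdz, hd0, hzz, hfix⟩ := exists_eigen_siegel hf hu he h3
  set σ := sU hf hd hdz
  -- the Siegel element commutes with the involution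
  have hc : Commute σ u := by
    set A := (u : Ud F 4 ≃ₗ[F] Ud F 4)
    have hm : ∀ q, f d (q - e • A q) = 0 ∧ f z (q - e • A q) = 0 := fun q =>
      (OrthTensorFour.sv_fix_iff hf hd hd0 hdz hzz _).1 (hfix _ (by
        rw [map_sub, map_smul, invol_apply hf hu, smul_sub, smul_smul, neg_mul, he]; module))
    have hAd : ∀ q, f d (A q) = e * f d q ∧ f z (A q) = e * f z q := fun q => by
      obtain ⟨h4, h5⟩ := hm q
      simp only [map_sub, map_smul, smul_eq_mul] at h4 h5
      exact ⟨by linear_combination -e * h4 - f d (A q) * he, by linear_combination -e * h5 - f z (A q) * he⟩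
    have hfix' : ∀ x, (∀ q, f x (A q) = e * f x q) → A x = e • x := fun x hx => sub_eq_zero.1 (hf.nd.1 _ fun q => by
      have h4 := map_f hf u x (A q)
      rw [invol_apply hf hu] at h4
      rw [map_sub, map_smul, LinearMap.sub_apply, LinearMap.smul_apply, smul_eq_mul, h4, hx, sub_self])
    have hd' : A d = e • d := hfix' d fun q => (hAd q).1
    have hz' : A z = e • z := hfix' z fun q => (hAd q).2
    refine qU_ext hf fun q => ?_
    show (σ : Ud F 4 ≃ₗ[F] Ud F 4) (A q) = A ((σ : Ud F 4 ≃ₗ[F] Ud F 4) q)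
    rw [sU_apply, sU_apply, (hAd q).1, (hAd q).2, map_sub, map_sub, map_add, map_smul, map_smul, map_smul, hd', hz']
    module
  have hσX : slot hf l σ ∈ X := C.slot_sU_X l hd hdz
  have h2 : Commute (slot hf l σ) (g * slot hf i v * g⁻¹) := by
    rw [h]
    exact (hc.map (slot hf l)).mul_right (slot_comm hf hlj _ _)
  have h3' : Commute (g⁻¹ * slot hf l σ * g⁻¹⁻¹) (slot hf i v) := by
    show _ = _
    calc g⁻¹ * slot hf l σ * g⁻¹⁻¹ * slot hf i v = g⁻¹ * (slot hf l σ * (g * slot hf i v * g⁻¹)) * g := by group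
      _ = g⁻¹ * (g * slot hf i v * g⁻¹ * slot hf l σ) * g := by rw [h2.eq]
      _ = _ := by group
  have h4 := plane_centr L1 (X.mul_mem (X.mul_mem (X.inv_mem hg) hσX) (X.inv_mem (X.inv_mem hg))) hv h3'
  have h5 := C.toCore.isStd_inv (C.std_of_siegel_conj (X.inv_mem hg) hd0 hd hdz hzz h4)
  rwa [inv_inv] at h5

end EvenCtx

end CfsgLib.Geo.OrthWreath
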