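/-
Two factors of dimension four: an element with a standard conjugate of a plane involution of one factor is
standard.
-/
import Cfsg.Agent.Lib.Geo.OrthWreath.Four.Class

set_option autoImplicit false
set_option linter.unusedSectionVars false

namespace CfsgLib.Geo.OrthWreath

open CfsgLib.Classical CfsgLib.Classical.Quad Module
open CfsgLib.Geo.MixTensor (SymForm)
open CfsgLib.Geo.TensorWreath (pvec)
open LinearMap (BilinForm)

variable {F : Type*} [Field F] [Finite F] {f : BilinForm F (Ud F 4)} {hf : SymForm f}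

/-- A quarter turn of two orthogonal vectors of equal norm. -/
def Root (hf : SymForm f) (ρ : OQ (qU f)) : Prop :=
  (∃ (a b : Ud F 4) (ha : f a a ≠ 0) (hb : f b b ≠ 0), ρ = rfU hf ha * rfU hf hb) ∧
  ∃ c₁ c₂ : Ud F 4, f c₁ c₁ ≠ 0 ∧ f c₁ c₂ = 0 ∧ f c₂ c₂ = f c₁ c₁ ∧
    (ρ : Ud F 4 ≃ₗ[F] Ud F 4) c₁ = -c₂ ∧ (ρ : Ud F 4 ≃ₗ[F] Ud F 4) c₂ = c₁ ∧
    ∀ q, f c₁ q = 0 → f c₂ q = 0 → (ρ : Ud F 4 ≃ₗ[F] Ud F 4) q = q

theorem exists_root (hf : SymForm f) (thin : OrthTensorFour.Thin f) {v : OQ (qU f)} (hv : IsPlane v) :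
    ∃ (ρ : OQ (qU f)) (ε : F) (hε : ε * ε = 1), Root hf ρ ∧ v = scU hf hε * (ρ * ρ) := by
  obtain ⟨c₁, c₂, h₁, h₂, hd, ε, hε, h12, heq, e1, e2, e3, e⟩ := plane_root hf thin hv
  exact ⟨_, ε, hε, ⟨⟨_, _, hd, h₁, rfl⟩, c₁, c₂, h₁, h12, heq, e1, e2, e3⟩, e⟩

/-- The square of a quarter turn. -/
theorem root_sq (hf : SymForm f) {ρ : OQ (qU f)} (h : Root hf ρ) :
    ρ * ρ ≠ 1 ∧ (∀ c : F, ¬ ∀ q, ((ρ * ρ : OQ (qU f)) : Ud F 4 ≃ₗ[F] Ud F 4) q = c • q) ∧ IsPlane (ρ * ρ) := by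
  obtain ⟨-, c₁, c₂, h1, h12, heq, e1, e2, e3⟩ := h
  have h2 : f c₂ c₂ ≠ 0 := by rw [heq]; exact h1
  obtain ⟨c, e, hc, he, ho⟩ := exists_quad hf h1 h2 h12
  obtain ⟨-, ⟨k1, k2, k3, k4, k5, k6⟩, ⟨g1, g2, g3, g4, g5, g6⟩⟩ := quad_entries ho
  have hR : ρ * ρ = rfU hf h1 * rfU hf h2 := ho.ext hf rfl fun j => by
    rw [Subgroup.coe_mul, LinearEquiv.mul_apply, Subgroup.coe_mul, LinearEquiv.mul_apply]
    fin_cases j
    · simp [e1, e2, rfU_perp hf h2 g1, rfU_self hf h1]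
    · simp [e1, e2, rfU_self hf h2, rfU_perp hf h1 h12]
    · simp [e3 c k2 k4, rfU_perp hf h2 k4, rfU_perp hf h1 k2]
    · simp [e3 e k3 k5, rfU_perp hf h2 k5, rfU_perp hf h1 k3]
  have key : ∀ c : F, ¬ ∀ q, ((ρ * ρ : OQ (qU f)) : Ud F 4 ≃ₗ[F] Ud F 4) q = c • q := fun r hr => by
    have a1 := hr c₁
    have a2 := hr c
    simp [e1, e2] at a1
    simp [e3 c k2 k4] at a2
    have hc0 : c ≠ 0 := fun h => hc (by simp [h])
    have hc1 : c₁ ≠ 0 := fun h => h1 (by simp [h])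
    have q1 : r = -1 := smul_left_injective F hc1 (a1.symm.trans (neg_one_smul F c₁).symm)
    have q2 : r = 1 := smul_left_injective F hc0 (a2.symm.trans (one_smul F c).symm)
    exact hf.two (by linear_combination q1 - q2)
  exact ⟨fun hone => key 1 fun q => by rw [hone, one_smul]; rfl, key, hR ▸ isPlane_rr hf h1 h2 h12⟩

/-- A map commuting with the square of a quarter turn keeps its plane and the orthogonal of it. -/
theorem root_eigen (hf : SymForm f) {ρ : OQ (qU f)} {c₁ c₂ : Ud F 4} (h1 : f c₁ c₁ ≠ 0) (h12 : f c₁ c₂ = 0)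
    (heq : f c₂ c₂ = f c₁ c₁) (e1 : (ρ : Ud F 4 ≃ₗ[F] Ud F 4) c₁ = -c₂) (e2 : (ρ : Ud F 4 ≃ₗ[F] Ud F 4) c₂ = c₁)
    (e3 : ∀ q, f c₁ q = 0 → f c₂ q = 0 → (ρ : Ud F 4 ≃ₗ[F] Ud F 4) q = q) {A : Ud F 4 ≃ₗ[F] Ud F 4}
    (hA : ∀ q, (ρ : Ud F 4 ≃ₗ[F] Ud F 4) ((ρ : Ud F 4 ≃ₗ[F] Ud F 4) (A q)) =
      A ((ρ : Ud F 4 ≃ₗ[F] Ud F 4) ((ρ : Ud F 4 ≃ₗ[F] Ud F 4) q))) :
    (∃ p r : F, A c₁ = p • c₁ + r • c₂) ∧ (∃ u w : F, A c₂ = u • c₁ + w • c₂) ∧
      ∀ q, f c₁ q = 0 → f c₂ q = 0 → f c₁ (A q) = 0 ∧ f c₂ (A q) = 0 := by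
  have h2 : f c₂ c₂ ≠ 0 := by rw [heq]; exact h1
  obtain ⟨c, e, hc, he, ho⟩ := exists_quad hf h1 h2 h12
  obtain ⟨-, ⟨k1, k2, k3, k4, k5, k6⟩, ⟨g1, g2, g3, g4, g5, g6⟩⟩ := quad_entries ho
  set R := fun q => (ρ : Ud F 4 ≃ₗ[F] Ud F 4) ((ρ : Ud F 4 ≃ₗ[F] Ud F 4) q)
  have hRf : ∀ a b, f (R a) (R b) = f a b := fun a b => by simp only [R, map_f hf]
  have R1 : R c₁ = -c₁ := by simp [R, e1, e2]
  have R2 : R c₂ = -c₂ := by simp [R, e1, e2]
  have R3 : ∀ q, f c₁ q = 0 → f c₂ q = 0 → R q = q := fun q a b => by simp [R, e3 q a b]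
  have hneg : ∀ x, R x = -x → ∃ p r : F, x = p • c₁ + r • c₂ := fun x hx => by
    have z : ∀ m, R m = m → f m x = 0 := fun m hm => by
      have := hRf m x
      rw [hm, hx, map_neg] at this
      exact (mul_eq_zero.1 (show (2 : F) * f m x = 0 by linear_combination -this)).resolve_left hf.two
    refine ⟨f c₁ x / f c₁ c₁, f c₂ x / f c₂ c₂, ?_⟩
    have := quad_decomp hf ho x
    rw [z c (R3 c k2 k4), z e (R3 e k3 k5), zero_div, zero_div, zero_smul, zero_smul, add_zero, add_zero] at this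
    exact this
  refine ⟨hneg _ ((hA c₁).trans (by rw [show (ρ : Ud F 4 ≃ₗ[F] Ud F 4) ((ρ : Ud F 4 ≃ₗ[F] Ud F 4) c₁) = -c₁ from R1,
      map_neg])), hneg _ ((hA c₂).trans (by
      rw [show (ρ : Ud F 4 ≃ₗ[F] Ud F 4) ((ρ : Ud F 4 ≃ₗ[F] Ud F 4) c₂) = -c₂ from R2, map_neg])), fun q a b => ?_⟩
  have hfix : R (A q) = A q := (hA q).trans (congrArg A (R3 q a b))
  have z : ∀ m, R m = -m → f m (A q) = 0 := fun m hm => by
    have := hRf m (A q)
    rw [hm, hfix, map_neg, LinearMap.neg_apply] at this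
    exact (mul_eq_zero.1 (show (2 : F) * f m (A q) = 0 by linear_combination -this)).resolve_left hf.two
  exact ⟨z c₁ R1, z c₂ R2⟩

/-- Standard elements fixing the square of a quarter turn fix or invert it. -/
theorem root_conj (hf : SymForm f) {ρ : OQ (qU f)} (hρ : Root hf ρ) {h : OQ (qT f (1 + 1))} (hh : IsStd h)
    {i : Fin (1 + 1)} (hc : h * slot hf i (ρ * ρ) * h⁻¹ = slot hf i (ρ * ρ)) :
    h * slot hf i ρ * h⁻¹ = slot hf i ρ ∨ h * slot hf i ρ * h⁻¹ = (slot hf i ρ)⁻¹ := by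
  classical
  obtain ⟨-, hns, -⟩ := root_sq hf hρ
  obtain ⟨-, c₁, c₂, h1, h12, heq, e1, e2, e3⟩ := hρ
  obtain ⟨π, gs, m, e, hm0, -, hsim⟩ := hh.acts hf (by norm_num)
  obtain ⟨v, hv, ev⟩ := conj_slot_sim hf e hm0 hsim i (ρ * ρ)
  have hπ : π i = i := by
    by_contra hne
    obtain ⟨c, hc'⟩ := slot_eq_slot hf (by norm_num) (Ne.symm hne) (hc.symm.trans ev)
    exact hns c hc'
  rw [hπ] at ev hv
  obtain rfl : v = ρ * ρ := slot_injective hf (by norm_num) i (ev.symm.trans hc)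
  obtain ⟨v, hv', ev'⟩ := conj_slot_sim hf e hm0 hsim i ρ
  rw [hπ] at ev' hv'
  rw [ev']
  set A := gs i
  have hA : ∀ q, (ρ : Ud F 4 ≃ₗ[F] Ud F 4) ((ρ : Ud F 4 ≃ₗ[F] Ud F 4) (A q)) =
      A ((ρ : Ud F 4 ≃ₗ[F] Ud F 4) ((ρ : Ud F 4 ≃ₗ[F] Ud F 4) q)) := fun q => by
    simpa [Subgroup.coe_mul] using hv q
  obtain ⟨⟨p, r, hp⟩, ⟨u, w, hu⟩, hperp⟩ := root_eigen hf h1 h12 heq e1 e2 e3 hA
  have h21 : f c₂ c₁ = 0 := by rw [hf.symm]; exact h12
  -- the similitude equations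
  have q1 : p * p + r * r = m i := by
    have := hsim i c₁ c₁
    simp [A, hp, h12, h21, heq] at this
    exact mul_right_cancel₀ h1 (by linear_combination this)
  have q2 : u * u + w * w = m i := by
    have := hsim i c₂ c₂
    simp [A, hu, h12, h21, heq] at this
    exact mul_right_cancel₀ h1 (by linear_combination this)
  have q3 : p * u + r * w = 0 := by
    have := hsim i c₁ c₂
    simp [A, hp, hu, h12, h21, heq] at this
    exact mul_right_cancel₀ h1 (by rw [zero_mul]; linear_combination this)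
  have hm := hm0 i
  set s := (p * w - r * u) / m i
  have hw : w = s * p := by
    simp only [s]
    field_simp
    linear_combination -w * q1 + r * q3
  have hu' : u = -(s * r) := by
    simp only [s]
    field_simp
    linear_combination -u * q1 + p * q3
  have hss : s * s = 1 := by
    refine mul_right_cancel₀ hm ?_
    rw [hu', hw] at q2
    linear_combination q2 - s * s * q1
  have h2 : f c₂ c₂ ≠ 0 := by rw [heq]; exact h1
  obtain ⟨c, d, hc', hd', ho⟩ := exists_quad hf h1 h2 h12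
  obtain ⟨-, ⟨-, k2, k3, k4, k5, -⟩, -⟩ := quad_entries ho
  rcases mul_self_eq_one_iff.1 hss with hs | hs
  · left
    refine congrArg _ (qU_ext hf fun q => ?_)
    obtain ⟨a, rfl⟩ := A.surjective q
    rw [hv']
    refine (LinearMap.congr_fun (LinearMap.ext_on_range ho.span_top (f := lm ρ ∘ₗ (A : Ud F 4 →ₗ[F] Ud F 4))
      (g := (A : Ud F 4 →ₗ[F] Ud F 4) ∘ₗ lm ρ) fun j => ?_) a).symm
    show (ρ : Ud F 4 ≃ₗ[F] Ud F 4) (A _) = A ((ρ : Ud F 4 ≃ₗ[F] Ud F 4) _)
    fin_cases j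
    · simp [hp, e1, e2, hu, hu', hw, hs] <;> module
    · simp [hp, e1, e2, hu, hu', hw, hs] <;> module
    · simp [e3 c k2 k4, e3 _ (hperp c k2 k4).1 (hperp c k2 k4).2]
    · simp [e3 d k3 k5, e3 _ (hperp d k3 k5).1 (hperp d k3 k5).2]
  · right
    have hρv : ρ * v = 1 := qU_ext hf fun q => by
      obtain ⟨a, rfl⟩ := A.surjective q
      rw [Subgroup.coe_mul, LinearEquiv.mul_apply, hv']
      refine LinearMap.congr_fun (LinearMap.ext_on_range ho.span_top
        (f := lm ρ ∘ₗ (A : Ud F 4 →ₗ[F] Ud F 4) ∘ₗ lm ρ) (g := (A : Ud F 4 →ₗ[F] Ud F 4)) fun j => ?_) a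
      show (ρ : Ud F 4 ≃ₗ[F] Ud F 4) (A ((ρ : Ud F 4 ≃ₗ[F] Ud F 4) _)) = A _
      fin_cases j
      · simp [hp, e1, e2, hu, hu', hw, hs] <;> module
      · simp [hp, e1, e2, hu, hu', hw, hs] <;> module
      · simp [e3 c k2 k4, e3 _ (hperp c k2 k4).1 (hperp c k2 k4).2]
      · simp [e3 d k3 k5, e3 _ (hperp d k3 k5).1 (hperp d k3 k5).2]
    rw [← map_inv, inv_eq_of_mul_eq_one_right hρv]

/-- A self-adjoint map commuting with a quarter turn is a scalar on its plane. -/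
theorem root_adjoint (hf : SymForm f) {ρ : OQ (qU f)} {c₁ c₂ : Ud F 4} (h1 : f c₁ c₁ ≠ 0) (h12 : f c₁ c₂ = 0)
    (heq : f c₂ c₂ = f c₁ c₁) (e1 : (ρ : Ud F 4 ≃ₗ[F] Ud F 4) c₁ = -c₂) (e2 : (ρ : Ud F 4 ≃ₗ[F] Ud F 4) c₂ = c₁)
    (e3 : ∀ q, f c₁ q = 0 → f c₂ q = 0 → (ρ : Ud F 4 ≃ₗ[F] Ud F 4) q = q) {A : Ud F 4 ≃ₗ[F] Ud F 4}
    (hc : ∀ q, (ρ : Ud F 4 ≃ₗ[F] Ud F 4) (A q) = A ((ρ : Ud F 4 ≃ₗ[F] Ud F 4) q))
    (hadj : ∀ a b, f (A a) b = f a (A b)) : ∃ p : F, A c₁ = p • c₁ ∧ A c₂ = p • c₂ := by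
  obtain ⟨⟨p, r, hp⟩, -, -⟩ := root_eigen hf h1 h12 heq e1 e2 e3 (A := A) fun q => by rw [hc, hc]
  have h21 : f c₂ c₁ = 0 := by rw [hf.symm]; exact h12
  have h3 : A c₂ = (-r) • c₁ + p • c₂ := by
    have := hc c₁
    rw [hp, e1, map_neg, map_add, map_smul, map_smul, e1, e2] at this
    linear_combination (norm := module) this
  have h4 := hadj c₁ c₂
  simp [hp, h3, h12, h21, heq] at h4
  have hr : r = 0 := (mul_eq_zero.1 (show (2 : F) * r = 0 from
    mul_right_cancel₀ h1 (by rw [zero_mul]; linear_combination h4))).resolve_left hf.two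
  exact ⟨p, by simp [hp, hr], by simp [h3, hr]⟩

/-- A plane involution inverting a vector and commuting with a self-adjoint map with a nonsquare square. -/
theorem exotic_plane (hf : SymForm f) {α : Ud F 4 ≃ₗ[F] Ud F 4} {m : F} (hns : ¬ IsSquare m)
    (hsq : ∀ a, α (α a) = m • a) (hadj : ∀ a b, f (α a) b = f a (α b))
    (hsim : ∀ a b, f (α a) (α b) = m * f a b) {u : Ud F 4} (hu : f u u ≠ 0) :
    ∃ R : OQ (qU f), IsPlane R ∧ (R : Ud F 4 ≃ₗ[F] Ud F 4) u = -u ∧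
      ∀ q, (R : Ud F 4 ≃ₗ[F] Ud F 4) (α q) = α ((R : Ud F 4 ≃ₗ[F] Ud F 4) q) := by
  set s := f u (α u) / f u u with hs
  set w := α u - s • u with hw
  have huw : f u w = 0 := by simp [hw, hs, div_mul_cancel₀ _ hu]
  have hww : f w w ≠ 0 := fun h => hns ⟨s, by
    have e1 : f (α u) (α u) = m * f u u := hsim u u
    have e2 : f (α u) u = f u (α u) := hadj u u
    simp only [hw, map_sub, map_smul, LinearMap.sub_apply, LinearMap.smul_apply, smul_eq_mul, e1, e2] at h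
    have e3 : s * f u u = f u (α u) := div_mul_cancel₀ _ hu
    refine mul_right_cancel₀ hu ?_
    clear_value s
    linear_combination h - 2 * s * e3⟩
  set R := rfU hf hu * rfU hf hww
  have hwu : f w u = 0 := by rw [hf.symm]; exact huw
  have hRu : (R : Ud F 4 ≃ₗ[F] Ud F 4) u = -u := by
    rw [Subgroup.coe_mul, LinearEquiv.mul_apply, rfU_perp hf hww hwu, rfU_self hf hu]
  have hRw : (R : Ud F 4 ≃ₗ[F] Ud F 4) w = -w := by
    rw [Subgroup.coe_mul, LinearEquiv.mul_apply, rfU_self hf hww, map_neg, rfU_perp hf hu huw]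
  have hαu : α u = s • u + w := by rw [hw]; abel
  have hαw : α w = (m - s * s) • u - s • w := by
    rw [hw, map_sub, map_smul, hsq]
    module
  have hRα : ∀ q, (R : Ud F 4 ≃ₗ[F] Ud F 4) (α q) = α ((R : Ud F 4 ≃ₗ[F] Ud F 4) q) := fun q => by
    set a := f u q / f u u
    set b := f w q / f w w
    obtain ⟨q₀, hq, h1, h2⟩ : ∃ q₀, q = q₀ + (a • u + b • w) ∧ f u q₀ = 0 ∧ f w q₀ = 0 :=
      ⟨q - (a • u + b • w), by abel, by simp [huw, a, div_mul_cancel₀ _ hu],
        by simp [hwu, b, div_mul_cancel₀ _ hww]⟩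
    have h3 : f u (α q₀) = 0 := by rw [← hadj, hαu]; simp [h1, h2]
    have h4 : f w (α q₀) = 0 := by rw [← hadj, hαw]; simp [h1, h2]
    have hfix : ∀ x, f u x = 0 → f w x = 0 → (R : Ud F 4 ≃ₗ[F] Ud F 4) x = x := fun x a b => by
      rw [Subgroup.coe_mul, LinearEquiv.mul_apply, rfU_perp hf hww b, rfU_perp hf hu a]
    rw [hq]
    simp only [map_add, map_smul, hfix _ h1 h2, hfix _ h3 h4, hαu, hαw, hRu, hRw, map_neg, map_sub]
    module
  exact ⟨R, isPlane_rr hf hu hww huw, hRu, hRα⟩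

namespace EvenCtx

variable {X : Subgroup (OQ (qT f (1 + 1)))} (C : EvenCtx hf X) (L1 : PlaneStd hf X)
include C L1

omit L1 in
theorem slot_root_mem {ρ : OQ (qU f)} (hρ : Root hf ρ) (l : Fin (1 + 1)) : slot hf l ρ ∈ X := by
  obtain ⟨⟨a, b, ha, hb, rfl⟩, -⟩ := hρ
  exact C.slot_rr_X l ha hb

/-- Elements commuting with the image of an involution fix or invert the image of its root. -/
theorem image_root {g : OQ (qT f (1 + 1))} (hg : g ∈ X) {i : Fin (1 + 1)} {ρ : OQ (qU f)} (hρ : Root hf ρ)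
    {b : OQ (qT f (1 + 1))} (hb : b ∈ X) (h : Commute b (g * slot hf i (ρ * ρ) * g⁻¹)) :
    b * (g * slot hf i ρ * g⁻¹) * b⁻¹ = g * slot hf i ρ * g⁻¹ ∨
      b * (g * slot hf i ρ * g⁻¹) * b⁻¹ = (g * slot hf i ρ * g⁻¹)⁻¹ := by
  set b' := g⁻¹ * b * g
  have hb' : Commute b' (slot hf i (ρ * ρ)) := by
    show _ = _
    calc g⁻¹ * b * g * slot hf i (ρ * ρ) = g⁻¹ * (b * (g * slot hf i (ρ * ρ) * g⁻¹)) * g := by group
      _ = g⁻¹ * (g * slot hf i (ρ * ρ) * g⁻¹ * b) * g := by rw [h.eq]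
      _ = _ := by simp only [b']; group
  have hs := plane_centr L1 (X.mul_mem (X.mul_mem (X.inv_mem hg) hb) hg) (root_sq hf hρ).2.2 hb'
  rcases root_conj hf hρ hs (mul_inv_eq_of_eq_mul hb'.eq) with e | e
  · left
    calc _ = g * (b' * slot hf i ρ * b'⁻¹) * g⁻¹ := by simp only [b']; group
      _ = _ := by rw [e]
  · right
    calc _ = g * (b' * slot hf i ρ * b'⁻¹) * g⁻¹ := by simp only [b']; group
      _ = _ := by rw [e]; group

/-- The conjugate of an involution centralising the image of a root is a pair. -/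
theorem pair_of_centr {g : OQ (qT f (1 + 1))} (hg : g ∈ X) {i l : Fin (1 + 1)} {ρ u₀ : OQ (qU f)} (hρ : Root hf ρ)
    (hu : IsPlane u₀) (h : Commute (slot hf l u₀) (g * slot hf i ρ * g⁻¹)) :
    ∃ (j : Fin (1 + 1)) (u w : OQ (qU f)), j ≠ i ∧ u * u = 1 ∧ w * w = 1 ∧ Commute u ρ ∧
      g⁻¹ * slot hf l u₀ * g⁻¹⁻¹ = slot hf i u * slot hf j w := by
  have hbX := C.slot_plane_mem hu l
  have hc : Commute (g⁻¹ * slot hf l u₀ * g⁻¹⁻¹) (slot hf i ρ) := by
    show _ = _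
    calc g⁻¹ * slot hf l u₀ * g⁻¹⁻¹ * slot hf i ρ = g⁻¹ * (slot hf l u₀ * (g * slot hf i ρ * g⁻¹)) * g := by group
      _ = g⁻¹ * (g * slot hf i ρ * g⁻¹ * slot hf l u₀) * g := by rw [h.eq]
      _ = _ := by group
  have hc2 : Commute (g⁻¹ * slot hf l u₀ * g⁻¹⁻¹) (slot hf i (ρ * ρ)) := by rw [map_mul]; exact hc.mul_right hc
  have hs := plane_centr L1 (X.mul_mem (X.mul_mem (X.inv_mem hg) hbX) (X.inv_mem (X.inv_mem hg)))
    (root_sq hf hρ).2.2 hc2
  set b' := g⁻¹ * slot hf l u₀ * g⁻¹⁻¹ with hb'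
  have hbb : b' * b' = 1 := by
    calc b' * b' = g⁻¹ * (slot hf l u₀ * slot hf l u₀) * g := by simp only [hb']; group
      _ = 1 := by rw [← map_mul, hu.1, map_one, mul_one, inv_mul_cancel]
  have hdd : dd (lm b') = 0 := by rw [hb', dd_conj, dd_slot hf hu.1, hu.2, zero_mul]
  rcases invol_cases hf (C.toCore.thin rfl) hs hbb hdd with ⟨w₀, w₁, h0, h1, e⟩ | ⟨gs, m, e, hm0, hsim, hl⟩
  · obtain ⟨j, u, w, hji, hor, e'⟩ := pair_at hf w₀ w₁ i
    have huw : u * u = 1 ∧ w * w = 1 := by rcases hor with ⟨rfl, rfl⟩ | ⟨rfl, rfl⟩ <;> exact ⟨by assumption, by assumption⟩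
    refine ⟨j, u, w, hji, huw.1, huw.2, ?_, e.trans e'⟩
    refine slot_injective hf (by norm_num) i ?_
    have h3 : Commute (slot hf i u * slot hf j w) (slot hf i ρ) := (e.trans e') ▸ hc
    have h4 := h3.mul_left (slot_comm hf hji w ρ).inv_left
    rw [mul_inv_cancel_right] at h4
    rw [map_mul, map_mul]
    exact h4.eq
  · exfalso
    obtain ⟨hns, hsq, hadj⟩ := hl i
    obtain ⟨v, hv, ev⟩ := conj_slot_sim hf e hm0 hsim i ρ
    rw [mul_inv_eq_of_eq_mul hc.eq] at ev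
    simp only [Equiv.Perm.one_apply] at ev hv
    obtain rfl : v = ρ := slot_injective hf (by norm_num) i ev.symm
    obtain ⟨-, c₁, c₂, h1, h12, heq, e1, e2, e3⟩ := hρ
    obtain ⟨p, hp, -⟩ := root_adjoint hf h1 h12 heq e1 e2 e3 (A := gs i) hv hadj
    refine hns ⟨p, smul_left_injective F (fun h => h1 (by simp [h]) : c₁ ≠ 0) ?_⟩
    show m i • c₁ = (p * p) • c₁
    rw [← hsq, hp, map_smul, hp, smul_smul]

/-- The image of a root is no involution. -/
theorem image_root_sq {g : OQ (qT f (1 + 1))} {i : Fin (1 + 1)} {ρ : OQ (qU f)} (hρ : Root hf ρ) :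
    g * slot hf i ρ * g⁻¹ * (g * slot hf i ρ * g⁻¹) ≠ 1 := fun h => (root_sq hf hρ).1 (by
  refine slot_injective hf (by norm_num) i ?_
  rw [map_mul, map_one]
  calc _ = g⁻¹ * (g * slot hf i ρ * g⁻¹ * (g * slot hf i ρ * g⁻¹)) * g := by group
    _ = 1 := by rw [h]; group)

/-- An element carrying the square of a root to a pair of plane involutions. -/
theorem std_of_square_root {g : OQ (qT f (1 + 1))} (hg : g ∈ X) {i : Fin (1 + 1)} {ρ u₀ u₁ : OQ (qU f)}
    (hρ : Root hf ρ) (h0 : u₀ * u₀ = 1) (h1 : u₁ * u₁ = 1)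
    (h : g * slot hf i (ρ * ρ) * g⁻¹ = slot hf 0 u₀ * slot hf 1 u₁) : IsStd g := by
  have hR := (root_sq hf hρ).2.2
  rcases plane_or_three hf h0 with hu₀ | ⟨e, he, h3⟩
  swap
  · exact C.std_of_three L1 hg (by decide) hR h0 he h3 h
  rcases plane_or_three hf h1 with hu₁ | ⟨e, he, h3⟩
  swap
  · exact C.std_of_three L1 hg (by decide : (1 : Fin (1 + 1)) ≠ 0) hR h1 he h3
      (h.trans (slot_comm hf (by decide) _ _).eq)
  set b := slot hf (0 : Fin (1 + 1)) u₀
  set Y := g * slot hf i ρ * g⁻¹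
  have hbY : Commute b Y := by
    obtain ⟨τ, ε, hε, hτ, eτ⟩ := exists_root hf (C.toCore.thin rfl) hu₀
    have hsc : Commute τ (scU hf hε) := qU_ext hf fun q => by
      simp only [Subgroup.coe_mul, LinearEquiv.mul_apply, scU_apply, map_smul]
    have hτu : Commute τ u₀ := eτ ▸ hsc.mul_right ((Commute.refl τ).mul_right (Commute.refl τ))
    have ht : Commute (slot hf 0 τ) (g * slot hf i (ρ * ρ) * g⁻¹) := by
      rw [h]
      exact (hτu.map (slot hf 0)).mul_right (slot_comm hf (by decide) _ _)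
    have htt : Commute (slot hf 0 τ * slot hf 0 τ) Y := by
      set s := slot hf (0 : Fin (1 + 1)) τ
      refine mul_inv_eq_iff_eq_mul.1 (?_ : s * s * Y * (s * s)⁻¹ = Y)
      rw [show s * s * Y * (s * s)⁻¹ = s * (s * Y * s⁻¹) * s⁻¹ by group]
      rcases C.image_root L1 hg hρ (C.slot_root_mem hτ 0) ht with e | e
      · rw [e, e]
      · rw [e, show s * Y⁻¹ * s⁻¹ = (s * Y * s⁻¹)⁻¹ by group, e, inv_inv]
    rw [show b = slot hf 0 (scU hf hε) * (slot hf 0 τ * slot hf 0 τ) by rw [← map_mul, ← map_mul, ← eτ]]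
    exact ((slot_scU_central hf hε 0 Y).symm).mul_left htt
  obtain ⟨j, u, w, hji, huu, hww, huρ, e⟩ := C.pair_of_centr L1 hg hρ hu₀ hbY
  have hρ' := hρ
  obtain ⟨-, c₁, c₂, hc1, h12, heq, e1, e2, e3⟩ := hρ'
  have huv : ∀ q, (u : Ud F 4 ≃ₗ[F] Ud F 4) ((u : Ud F 4 ≃ₗ[F] Ud F 4) q) = q := invol_apply hf huu
  obtain ⟨p, hp1, hp2⟩ := root_adjoint hf hc1 h12 heq e1 e2 e3 (A := (u : Ud F 4 ≃ₗ[F] Ud F 4))
    (fun q => by
      have := congrArg (fun x : OQ (qU f) => (x : Ud F 4 ≃ₗ[F] Ud F 4) q) huρ.eq.symm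
      simpa using this)
    fun a b => by
      have := map_f hf u a ((u : Ud F 4 ≃ₗ[F] Ud F 4) b)
      rwa [huv] at this
  have hc0 : c₁ ≠ 0 := fun h => hc1 (by simp [h])
  have hpp : p * p = 1 := by
    have := huv c₁
    rw [hp1, map_smul, hp1, smul_smul] at this
    exact smul_left_injective F hc0 (this.trans (one_smul F c₁).symm)
  by_cases hq : ∀ q, f c₁ q = 0 → f c₂ q = 0 → (u : Ud F 4 ≃ₗ[F] Ud F 4) q = -(p • q)
  swap
  · push Not at hq
    obtain ⟨q, hq1, hq2, hq⟩ := hq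
    set q' := (u : Ud F 4 ≃ₗ[F] Ud F 4) q + p • q
    have hq'0 : q' ≠ 0 := fun h => hq (eq_neg_of_add_eq_zero_left h)
    have hperp : ∀ c, (u : Ud F 4 ≃ₗ[F] Ud F 4) c = p • c → f c q = 0 → f c q' = 0 := fun c hc hcq => by
      have h4 := map_f hf u c q
      rw [hc, map_smul, LinearMap.smul_apply, smul_eq_mul, hcq] at h4
      simp only [q', map_add, map_smul, smul_eq_mul, hcq, mul_zero, add_zero]
      linear_combination p * h4 - f c ((u : Ud F 4 ≃ₗ[F] Ud F 4) q) * hpp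
    have hli : LinearIndependent F ![c₁, c₂, q'] := by
      rw [Fintype.linearIndependent_iff]
      intro s hs
      have h21 : f c₂ c₁ = 0 := by rw [hf.symm]; exact h12
      have a1 := congrArg (f c₁) hs
      have a2 := congrArg (f c₂) hs
      simp [Fin.sum_univ_three, h12, h21, heq, hc1, hperp c₁ hp1 hq1, hperp c₂ hp2 hq2] at a1 a2
      simp [Fin.sum_univ_three, a1, a2, hq'0] at hs
      intro x
      fin_cases x <;> assumption
    have h3 : 3 ≤ finrank F (fixS (p • lm u)) := by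
      calc 3 = finrank F (Submodule.span F (Set.range ![c₁, c₂, q'])) := by
            rw [finrank_span_eq_card hli, Fintype.card_fin]
        _ ≤ _ := Submodule.finrank_mono (Submodule.span_le.2 (by
            rintro _ ⟨x, rfl⟩
            rw [SetLike.mem_coe, mem_fixS, LinearMap.smul_apply]
            show p • (u : Ud F 4 ≃ₗ[F] Ud F 4) _ = _
            fin_cases x
            · simp [hp1, smul_smul, hpp]
            · simp [hp2, smul_smul, hpp]
            · simp [q', huv, smul_smul, hpp, smul_add, add_comm]))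
    have h4 := C.toCore.isStd_inv (C.std_of_three L1 (X.inv_mem hg) (Ne.symm hji) hu₀ huu hpp h3 e)
    rwa [inv_inv] at h4
  have hε : -p * -p = 1 := by rw [neg_mul_neg, hpp]
  have huR : u * (ρ * ρ) = scU hf hε := by
    obtain ⟨c, d, hc', hd', ho⟩ := exists_quad hf hc1 (by rw [heq]; exact hc1) h12
    obtain ⟨-, ⟨-, k2, k3, k4, k5, -⟩, -⟩ := quad_entries ho
    refine ho.ext hf rfl fun x => ?_
    rw [scU_apply]
    fin_cases x
    · simp [e1, e2, hp1]
    · simp [e1, e2, hp2]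
    · simp [e3 c k2 k4, hq c k2 k4]
    · simp [e3 d k3 k5, hq d k3 k5]
  have hkey : g * slot hf j (scU hf hε * w) * g⁻¹ = slot hf 1 u₁ := by
    have h5 : slot hf j (scU hf hε * w) = g⁻¹ * b * g⁻¹⁻¹ * slot hf i (ρ * ρ) := by
      rw [e, mul_assoc, (slot_comm hf hji w (ρ * ρ)).eq, ← mul_assoc, ← map_mul, huR, map_mul,
        slot_scU_eq hf hε i j]
    rw [h5]
    calc _ = b * (g * slot hf i (ρ * ρ) * g⁻¹) := by group
      _ = slot hf 1 u₁ := by rw [h, ← mul_assoc, ← map_mul, h0, map_one, one_mul]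
  have hwp : IsPlane (scU hf hε * w) := by
    have hsq : scU hf hε * w * (scU hf hε * w) = 1 := qU_ext hf fun q => by
      simp only [Subgroup.coe_mul, LinearEquiv.mul_apply, scU_apply, map_smul, invol_apply hf hww, smul_smul, hε,
        one_smul]
      rfl
    refine ⟨hsq, ?_⟩
    have h6 := congrArg (fun x => dd (lm x)) hkey
    simp only [dd_conj, dd_slot hf hsq, dd_slot hf h1, hu₁.2, zero_mul] at h6
    simpa using h6
  exact L1 hg hwp hkey

/-- An element carrying a plane involution to a pair of involutions. -/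
theorem std_of_square {g : OQ (qT f (1 + 1))} (hg : g ∈ X) {i : Fin (1 + 1)} {v u₀ u₁ : OQ (qU f)} (hv : IsPlane v)
    (h0 : u₀ * u₀ = 1) (h1 : u₁ * u₁ = 1) (h : g * slot hf i v * g⁻¹ = slot hf 0 u₀ * slot hf 1 u₁) : IsStd g := by
  obtain ⟨ρ, ε, hε, hρ, rfl⟩ := exists_root hf (C.toCore.thin rfl) hv
  refine C.std_of_square_root L1 hg hρ (u₀ := scU hf hε * u₀) ?_ h1 (i := i) ?_
  · refine qU_ext hf fun q => ?_
    simp only [Subgroup.coe_mul, LinearEquiv.mul_apply, scU_apply, map_smul, invol_apply hf h0, smul_smul, hε,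
      one_smul]
    rfl
  · set Z := slot hf i (scU hf hε)
    have hZ : Z * Z = 1 := by
      rw [← map_mul, show scU hf hε * scU hf hε = 1 from qU_ext hf fun q => by
        simp only [Subgroup.coe_mul, LinearEquiv.mul_apply, scU_apply, smul_smul, hε, one_smul]; rfl, map_one]
    rw [map_mul (slot hf (0 : Fin (1 + 1))), mul_assoc (slot hf (0 : Fin (1 + 1)) (scU hf hε)), ← h, map_mul (slot hf i) (scU hf hε),
      slot_scU_eq hf hε 0 i]
    calc g * slot hf i (ρ * ρ) * g⁻¹ = Z * Z * (g * slot hf i (ρ * ρ) * g⁻¹) := by rw [hZ, one_mul]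
      _ = Z * (Z * g) * slot hf i (ρ * ρ) * g⁻¹ := by group
      _ = Z * (g * Z) * slot hf i (ρ * ρ) * g⁻¹ := by rw [(slot_scU_central hf hε i g).eq]
      _ = _ := by simp only [Z]; group

/-- **An element with a standard conjugate of a plane involution of one factor is standard.** -/
theorem plane_fusion {g : OQ (qT f (1 + 1))} (hg : g ∈ X) {i : Fin (1 + 1)} {v : OQ (qU f)} (hv : IsPlane v)
    (hy : IsStd (g * slot hf i v * g⁻¹)) : IsStd g := by
  classical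
  have thin := C.toCore.thin rfl
  obtain ⟨ρ, ε, hε, hρ, rfl⟩ := exists_root hf thin hv
  set y := g * slot hf i (ρ * ρ) * g⁻¹ with hy'
  have hys : IsStd y := by
    have e : y = slot hf i (scU hf hε) * (g * slot hf i (scU hf hε * (ρ * ρ)) * g⁻¹) := by
      have hZ : slot hf i (scU hf hε) * slot hf i (scU hf hε) = 1 := by
        rw [← map_mul, show scU hf hε * scU hf hε = 1 from qU_ext hf fun q => by
          simp only [Subgroup.coe_mul, LinearEquiv.mul_apply, scU_apply, smul_smul, hε, one_smul]; rfl, map_one]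
      rw [hy', map_mul (slot hf i) (scU hf hε)]
      set Z := slot hf i (scU hf hε)
      calc g * slot hf i (ρ * ρ) * g⁻¹ = Z * Z * (g * slot hf i (ρ * ρ) * g⁻¹) := by rw [hZ, one_mul]
        _ = Z * (Z * g) * slot hf i (ρ * ρ) * g⁻¹ := by group
        _ = Z * (g * Z) * slot hf i (ρ * ρ) * g⁻¹ := by rw [(slot_scU_central hf hε i g).eq]
        _ = _ := by group
    rw [e]
    exact (isStd_slot hf i _).mul hy
  have hR := (root_sq hf hρ).2.2
  have hyy : y * y = 1 := by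
    calc y * y = g * (slot hf i (ρ * ρ) * slot hf i (ρ * ρ)) * g⁻¹ := by rw [hy']; group
      _ = 1 := by rw [← map_mul, hR.1, map_one, mul_one, mul_inv_cancel]
  rcases invol_cases hf thin hys hyy (by rw [hy', dd_conj, dd_slot hf hR.1, hR.2, zero_mul]) with
    ⟨u₀, u₁, h0, h1, e⟩ | ⟨gs, m, e, hm0, hsim, hl⟩
  · exact C.std_of_square_root L1 hg hρ h0 h1 e
  by_contra hgs
  set Y := g * slot hf i ρ * g⁻¹ with hY
  set A : Module.End F (Vt F 4 (1 + 1)) := lm Y - lm Y⁻¹ with hA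
  -- the two planes through an anisotropic vector
  have hinv : ∀ (l : Fin (1 + 1)) (u : Ud F 4), f u u ≠ 0 → ∀ ξ η : Fin (1 + 1) → Ud F 4, ξ l = u → η l = u →
      frm f (1 + 1) (A (pvec ξ)) (pvec η) = 0 := by
    intro l u hu ξ η hξ hη
    obtain ⟨hns, hsq, hadj⟩ := hl l
    obtain ⟨R, hplane, hRu, hRα⟩ := exotic_plane hf hns hsq hadj (hsim l) hu
    set α := gs l
    set b := slot hf l R
    have hby : Commute b y := el_ext fun ζ => by
      have e' : ∀ ζ, (y : Vt F 4 (1 + 1) ≃ₗ[F] Vt F 4 (1 + 1)) (pvec ζ) = pvec fun l' => gs l' (ζ l') := fun ζ => by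
        have := e ζ
        simp only [inv_one, Equiv.Perm.one_apply] at this
        exact this
      simp only [Subgroup.coe_mul, LinearEquiv.mul_apply, b, slot_pvec, e']
      congr 1
      funext l'
      by_cases hl' : l' = l
      · subst hl'; simp [hRα, α]
      · simp [Function.update_of_ne hl']
    rcases C.image_root L1 hg hρ (C.slot_plane_mem hplane l) hby with h | h
    · exfalso
      obtain ⟨j, p, q, hji, hpp, hqq, -, e'⟩ := C.pair_of_centr L1 hg hρ hplane (l := l) (mul_inv_eq_iff_eq_mul.1 h)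
      refine hgs ?_
      have h4 : IsStd g⁻¹ := by
        rcases fin_two_cases i with rfl | rfl <;> rcases fin_two_cases j with rfl | rfl
        · exact absurd rfl hji
        · exact C.std_of_square L1 (X.inv_mem hg) hplane hpp hqq e'
        · exact C.std_of_square L1 (X.inv_mem hg) hplane hqq hpp (e'.trans (slot_comm hf (by decide) _ _).eq)
        · exact absurd rfl hji
      have := C.toCore.isStd_inv h4
      rwa [inv_inv] at this
    · have hbA : lm b * A = -(A * lm b) := by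
        have e1 : b * Y = Y⁻¹ * b := mul_inv_eq_iff_eq_mul.1 h
        have e2 : b * Y⁻¹ = Y * b := by
          calc b * Y⁻¹ = (b * Y * b⁻¹)⁻¹ * b := by group
            _ = Y * b := by rw [h, inv_inv]
        rw [hA, mul_sub, sub_mul, ← lm_mul, ← lm_mul, ← lm_mul, ← lm_mul, e1, e2]
        abel
      have hneg : ∀ ζ : Fin (1 + 1) → Ud F 4, ζ l = u → lm b (pvec ζ) = -pvec ζ := fun ζ hζ => by
        show (b : Vt F 4 (1 + 1) ≃ₗ[F] Vt F 4 (1 + 1)) (pvec ζ) = _
        rw [slot_pvec, hζ, hRu, ← neg_one_smul F u, pvec_update_smul, neg_one_smul, ← hζ, Function.update_eq_self]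
      have h5 : lm b (A (pvec ξ)) = A (pvec ξ) := by
        rw [← Module.End.mul_apply, hbA, LinearMap.neg_apply, Module.End.mul_apply, hneg ξ hξ, map_neg, neg_neg]
      have h6 := map_frm hf b (A (pvec ξ)) (pvec η)
      rw [show (b : Vt F 4 (1 + 1) ≃ₗ[F] Vt F 4 (1 + 1)) (A (pvec ξ)) = A (pvec ξ) from h5,
        show (b : Vt F 4 (1 + 1) ≃ₗ[F] Vt F 4 (1 + 1)) (pvec η) = -pvec η from hneg η hη, map_neg] at h6
      exact (mul_eq_zero.1 (show (2 : F) * frm f (1 + 1) (A (pvec ξ)) (pvec η) = 0 by linear_combination -h6)).resolve_left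
        hf.two
  -- every vector
  set T : Ud F 4 → Ud F 4 → Ud F 4 → Ud F 4 → F := fun a b c d =>
    frm f (1 + 1) (A (pvec ![a, b])) (pvec ![c, d]) with hT
  have ext2 : ∀ (B : Ud F 4 → Ud F 4 → F), (∀ x x' y, B (x + x') y = B x y + B x' y) →
      (∀ x x' y, B (x - x') y = B x y - B x' y) → (∀ x y y', B x (y + y') = B x y + B x y') →
      (∀ x y y', B x (y - y') = B x y - B x y') → (∀ u, f u u ≠ 0 → B u u = 0) → ∀ x y, B x y = -B y x := by
    intro B a1 a2 a3 a4 h0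
    have hall : ∀ x, B x x = 0 := fun x => by
      by_cases hx : f x x = 0
      · by_cases hx0 : x = 0
        · have := a1 0 0 0
          rw [add_zero] at this
          rw [hx0]; linear_combination -this
        obtain ⟨z, hz, hzz⟩ := exists_perp_aniso hf (by norm_num) hx0 hx
        have hxz : f z x = 0 := by rw [hf.symm]; exact hz
        have e1 := h0 (x + z) (by simp [hx, hz, hxz, hzz])
        have e2 := h0 (x - z) (by simp [hx, hz, hxz, hzz])
        simp only [a1, a3] at e1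
        simp only [a2, a4] at e2
        have e3 := h0 z hzz
        exact (mul_eq_zero.1 (show (2 : F) * B x x = 0 by linear_combination e1 + e2 - 2 * e3)).resolve_left hf.two
      · exact h0 x hx
    intro x y
    have := hall (x + y)
    simp only [a1, a3, hall] at this
    linear_combination this
  have t1 : ∀ a b c d, T a b c d = -T c b a d := fun a b c d =>
    ext2 (fun x y => T x b y d) (fun _ _ _ => by simp [T, pv2_add_left]) (fun _ _ _ => by simp [T, pv2_sub_left])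
      (fun _ _ _ => by simp [T, pv2_add_left]) (fun _ _ _ => by simp [T, pv2_sub_left])
      (fun u hu => hinv 0 u hu _ _ rfl rfl) a c
  have t2 : ∀ a b c d, T a b c d = -T a d c b := fun a b c d =>
    ext2 (fun x y => T a x c y) (fun _ _ _ => by simp [T, pv2_add_right]) (fun _ _ _ => by simp [T, pv2_sub_right])
      (fun _ _ _ => by simp [T, pv2_add_right]) (fun _ _ _ => by simp [T, pv2_sub_right])
      (fun u hu => hinv 1 u hu _ _ rfl rfl) b d
  have hskew : ∀ v w, frm f (1 + 1) (A v) w = -frm f (1 + 1) (A w) v := fun v w => by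
    have e1 := map_frm hf Y v (lm Y⁻¹ w)
    have e2 := map_frm hf Y (lm Y⁻¹ v) w
    have hYY : ∀ x, (Y : Vt F 4 (1 + 1) ≃ₗ[F] Vt F 4 (1 + 1)) (lm Y⁻¹ x) = x := fun x =>
      LinearMap.congr_fun (lm_mul_inv Y) x
    rw [hYY] at e1 e2
    simp only [hA, LinearMap.sub_apply, map_sub]
    change frm f (1 + 1) (lm Y v) w = _ at e1
    change frm f (1 + 1) v (lm Y w) = _ at e2
    rw [e1, ← e2, frm_symm hf (lm Y⁻¹ w) v, frm_symm hf (lm Y w) v]
    ring
  have hA0 : A = 0 := pvec_ext fun ξ => (frm_nondeg hf).1 _ fun v => by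
    refine LinearMap.congr_fun (?_ : frm f (1 + 1) (A (pvec ξ)) = 0) v
    refine pvec_ext fun η => ?_
    rw [LinearMap.zero_apply, pv2_eta ξ, pv2_eta η]
    have h7 : T (ξ 0) (ξ 1) (η 0) (η 1) = -T (η 0) (η 1) (ξ 0) (ξ 1) := hskew _ _
    have h8 : (2 : F) * T (ξ 0) (ξ 1) (η 0) (η 1) = 0 := by
      linear_combination h7 + t1 (ξ 0) (ξ 1) (η 0) (η 1) - t2 (η 0) (ξ 1) (ξ 0) (η 1)
    exact (mul_eq_zero.1 h8).resolve_left hf.two
  refine image_root_sq (g := g) (i := i) C L1 hρ ?_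
  rw [← hY]
  have hYY : Y = Y⁻¹ := Subtype.ext (LinearEquiv.ext fun v => sub_eq_zero.1 (LinearMap.congr_fun hA0 v))
  nth_rw 1 [hYY]
  exact inv_mul_cancel Y

end EvenCtx

end CfsgLib.Geo.OrthWreath
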