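/-
Two factors of dimension four: a proper overgroup consists of standard elements, if the elements carrying plane
involutions of one factor into one factor do.
-/
import Cfsg.Agent.Lib.Geo.OrthWreath.Four.Fusion

set_option autoImplicit false
set_option linter.unusedSectionVars false

namespace CfsgLib.Geo.OrthWreath

open CfsgLib.Classical CfsgLib.Classical.Quad Module
open CfsgLib.Geo.MixTensor (SymForm)
open CfsgLib.Geo.TensorWreath (pvec)
open LinearMap (BilinForm)

variable {F : Type*} [Field F] [Finite F] {f : BilinForm F (Ud F 4)} {hf : SymForm f}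

/-- The negative of a plane involution. -/
theorem neg_plane (hf : SymForm f) (thin : OrthTensorFour.Thin f) {v : OQ (qU f)} (hv : IsPlane v) :
    ∃ v' : OQ (qU f), IsPlane v' ∧ ∀ q, (v' : Ud F 4 ≃ₗ[F] Ud F 4) q = -(v : Ud F 4 ≃ₗ[F] Ud F 4) q := by
  have h1 : (-1 : F) * -1 = 1 := by norm_num
  refine ⟨scU hf h1 * v, ⟨qU_ext hf fun q => ?_, ?_⟩, fun q => ?_⟩
  · simp only [Subgroup.coe_mul, LinearEquiv.mul_apply, scU_apply, map_smul, invol_apply hf hv.1, smul_smul, h1,
      one_smul]
    rfl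
  · have e : lm (scU hf h1 * v) = -lm v := LinearMap.ext fun q => by
      show ((scU hf h1 * v : OQ (qU f)) : Ud F 4 ≃ₗ[F] Ud F 4) q = _
      rw [Subgroup.coe_mul, LinearEquiv.mul_apply, scU_apply, neg_one_smul]
      rfl
    have := hv.2
    rw [e]
    rw [dd] at this ⊢
    rw [show (- -lm v) = lm v from neg_neg _]
    omega
  · rw [Subgroup.coe_mul, LinearEquiv.mul_apply, scU_apply, neg_one_smul]

/-- A plane involution inverting an isotropic vector commuting with what a plane involution commutes with. -/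
theorem plane_hyp_comm (hf : SymForm f) (thin : OrthTensorFour.Thin f) {v : OQ (qU f)} (hv : IsPlane v) :
    ∃ v', PlaneHyp f v' ∧ ∀ A : Ud F 4 ≃ₗ[F] Ud F 4,
      (∀ q, (v : Ud F 4 ≃ₗ[F] Ud F 4) (A q) = A ((v : Ud F 4 ≃ₗ[F] Ud F 4) q)) →
      ∀ q, (v' : Ud F 4 ≃ₗ[F] Ud F 4) (A q) = A ((v' : Ud F 4 ≃ₗ[F] Ud F 4) q) := by
  obtain ⟨v', hv', hneg⟩ := neg_plane hf thin hv
  rcases plane_hyp_or hf thin hv hv' hneg with h | h
  · exact ⟨v, h, fun A hA => hA⟩
  · exact ⟨v', h, fun A hA q => by rw [hneg, hneg, hA, map_neg]⟩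

/-- A plane involution or its negative inverts an isotropic vector. -/
theorem plane_hyp_sign (hf : SymForm f) (thin : OrthTensorFour.Thin f) {v : OQ (qU f)} (hv : IsPlane v) :
    ∃ v', PlaneHyp f v' ∧ ((∀ q, (v' : Ud F 4 ≃ₗ[F] Ud F 4) q = (v : Ud F 4 ≃ₗ[F] Ud F 4) q) ∨
      ∀ q, (v' : Ud F 4 ≃ₗ[F] Ud F 4) q = -(v : Ud F 4 ≃ₗ[F] Ud F 4) q) := by
  obtain ⟨v', hv', hneg⟩ := neg_plane hf thin hv
  rcases plane_hyp_or hf thin hv hv' hneg with h | h
  · exact ⟨v, h, Or.inl fun q => rfl⟩
  · exact ⟨v', h, Or.inr hneg⟩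

/-- **The test class for two factors of dimension four.** -/
theorem test_four {X : Subgroup (OQ (qT f (1 + 1)))} (C : EvenCtx hf X) (L1 : PlaneStd hf X) :
    Test hf X (PlaneHyp f) := by
  have thin := C.toCore.thin rfl
  refine { C with
    sq := fun hv => hv.1.1, mem := fun hv l => C.slot_plane_mem hv.1 l, one := ?_, other := ?_, eq_of := ?_,
    not_scalar := ?_, of_slot := fun hx _ _ _ _ hv e => L1 hx hv.1 e, conj := ?_, centr := ?_, finder := ?_ }
  · obtain ⟨a, ha, -⟩ := (orth_nil (f := f)).exists_aniso hf (by norm_num)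
    obtain ⟨b, hb, g⟩ := (orth_one (f := f) ha).exists_aniso hf (by norm_num)
    obtain ⟨v, hv, -⟩ := plane_hyp_comm hf thin (isPlane_rr hf ha hb (by simpa using g 0))
    exact ⟨v, hv⟩
  · rintro v ⟨hv, -⟩
    obtain ⟨a, b, ha, hb, hab, rfl⟩ := eq_rr_of_dd hf hv.1 (by rw [hv.2]; norm_num)
    obtain ⟨c, e, hc, he, h⟩ := exists_quad hf ha hb hab
    obtain ⟨-, ⟨h1, h2, h3, h4, h5, h6⟩, ⟨g1, g2, g3, g4, g5, g6⟩⟩ := quad_entries h
    obtain ⟨v', hv', hcom⟩ := plane_hyp_sign hf thin (isPlane_rr hf ha hc h2)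
    have hvc : Commute (rfU hf ha * rfU hf hc) (rfU hf ha * rfU hf hb) :=
      ((Commute.refl _).mul_right (rfU_comm hf ha hb hab)).mul_left
        ((rfU_comm hf hc ha g2).mul_right (rfU_comm hf hc hb g4))
    have hneg : ∀ {x : Ud F 4}, f x x ≠ 0 → x ≠ -x := fun {x} hx e => hx (by
      have e0 : (2 : F) • x = 0 := by rw [two_smul]; nth_rw 1 [e]; exact neg_add_cancel x
      rw [(smul_eq_zero.1 e0).resolve_left hf.two]; simp)
    refine ⟨v', hv', qU_ext hf fun q => ?_, fun e0 => ?_⟩
    · have := congrArg (fun x : OQ (qU f) => (x : Ud F 4 ≃ₗ[F] Ud F 4) q) hvc.eq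
      simp only [Subgroup.coe_mul, LinearEquiv.mul_apply] at this ⊢
      rcases hcom with hcom | hcom
      · simp only [hcom, Subgroup.coe_mul, LinearEquiv.mul_apply]
        exact this.symm
      · simp only [hcom, map_neg, Subgroup.coe_mul, LinearEquiv.mul_apply]
        rw [this]
    · subst e0
      rcases hcom with hcom | hcom
      · have k := hcom b
        simp only [Subgroup.coe_mul, LinearEquiv.mul_apply, rfU_self hf hb, map_neg, rfU_perp hf ha hab,
          rfU_perp hf hc g4] at k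
        exact hneg hb k.symm
      · have k := hcom a
        simp only [Subgroup.coe_mul, LinearEquiv.mul_apply, rfU_perp hf hb g1, rfU_self hf ha, rfU_perp hf hc g2,
          neg_neg] at k
        exact hneg ha k.symm
  · rintro p v hp hv (h | h)
    · exact qU_ext hf fun q => LinearMap.congr_fun h q
    · exfalso
      obtain ⟨d, hd0, hd, hpd⟩ := hp.2
      obtain ⟨e, he0, he, hve⟩ := hv.2
      have hve' : (p : Ud F 4 ≃ₗ[F] Ud F 4) e = e := by
        have := LinearMap.congr_fun h e
        rw [LinearMap.neg_apply, show lm v e = -e from hve, neg_neg] at this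
        exact this
      have hde : f e d = 0 := eigen_orth hf (v := p) (e := 1) (one_mul 1) (by rw [one_smul, hve'])
        (by rw [neg_one_smul, hpd])
      obtain ⟨r, hr⟩ := Submodule.mem_span_singleton.1 (thin e d he he0 hde hd)
      rw [← hr, map_smul, hve', hr] at hpd
      have e0 : (2 : F) • d = 0 := by rw [two_smul]; nth_rw 1 [hpd]; exact neg_add_cancel d
      exact hd0 ((smul_eq_zero.1 e0).resolve_left hf.two)
  · rintro v hv c hc
    obtain ⟨a, b, ha, hb, hab, rfl⟩ := eq_rr_of_dd hf hv.1.1 (by rw [hv.1.2]; norm_num)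
    obtain ⟨a', e, ha', he, h⟩ := exists_quad hf ha hb hab
    obtain ⟨-, ⟨h1, h2, h3, h4, h5, h6⟩, -⟩ := quad_entries h
    have a1 := hc a
    have a2 := hc a'
    rw [Subgroup.coe_mul, LinearEquiv.mul_apply, rfU_perp hf hb (by rw [hf.symm]; exact h1), rfU_self hf ha] at a1
    rw [Subgroup.coe_mul, LinearEquiv.mul_apply, rfU_perp hf hb h4, rfU_perp hf ha h2] at a2
    have q1 : c = -1 := smul_left_injective F (fun h => ha (by simp [h]) : a ≠ 0)
      (a1.symm.trans (neg_one_smul F a).symm)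
    have q2 : c = 1 := smul_left_injective F (fun h => ha' (by simp [h]) : a' ≠ 0)
      (a2.symm.trans (one_smul F a').symm)
    exact hf.two (by linear_combination q1 - q2)
  · intro x hx i v hv hy
    obtain ⟨π, gs, m, e, hm0, -, hsim⟩ := (C.plane_fusion L1 hx hv.1 hy).acts hf (by norm_num)
    obtain ⟨v', hv', e'⟩ := conj_slot_sim hf e hm0 hsim i v
    obtain ⟨d, hd0, hd, hvd⟩ := hv.2
    have hsq : v' * v' = 1 := slot_injective hf (by norm_num) (π i) (by
      rw [map_mul, map_one, ← e']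
      calc _ = x * (slot hf i v * slot hf i v) * x⁻¹ := by group
        _ = 1 := by rw [← map_mul, hv.1.1, map_one, mul_one, mul_inv_cancel])
    refine ⟨π i, v', ⟨⟨hsq, ?_⟩, gs (π i) d, by simpa using hd0, by rw [hsim, hd, mul_zero], by rw [hv', hvd, map_neg]⟩, e'⟩
    have h6 := congrArg (fun g => dd (lm g)) e'
    simp only [dd_conj, dd_slot hf hv.1.1, dd_slot hf hsq, hv.1.2, zero_mul] at h6
    simpa using h6.symm
  · intro x hx i v hv h1 h1' h
    rcases plane_or_three hf hv with hp | ⟨e, he, h3⟩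
    · exact EvenCtx.plane_centr L1 hx hp h
    · refine C.std_of_eigen' C.fix_slot_four hx hv he h3 ?_ (mul_inv_eq_of_eq_mul h.eq)
      rcases mul_self_eq_one_iff.1 he with rfl | rfl
      · simpa using h1
      · simpa using h1'
  · intro x hx i j hij p q hp hq hy
    set y := x * (slot hf i p * slot hf j q) * x⁻¹ with hydef
    have hyy : y * y = 1 := by
      calc y * y = x * (slot hf i p * slot hf j q * (slot hf i p * slot hf j q)) * x⁻¹ := by rw [hydef]; group
        _ = 1 := by
          rw [← pow_two, (slot_comm hf hij p q).mul_pow, pow_two, pow_two, ← map_mul, ← map_mul, hp.1.1, hq.1.1,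
            map_one, map_one, one_mul, mul_one, mul_inv_cancel]
    have hdd : dd (lm y) = 0 := by
      have := dd_slot_pair hf hij hp.1.1 hq.1.1
      rw [hp.1.2, hq.1.2] at this
      rw [hydef, dd_conj]
      simpa using this
    rcases invol_cases hf thin hy hyy hdd with ⟨u₀, u₁, h0, h1, e⟩ | ⟨gs, m, e, hm0, hsim, hl⟩
    · obtain ⟨w, hw, hwc⟩ := exists_typ_comm (t := 1) hf (le_refl 4) h0
      have hwp : IsPlane w := ⟨hw.1, by simpa using hw.2⟩
      obtain ⟨w', hw', hcom⟩ := plane_hyp_comm hf thin hwp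
      refine ⟨0, w', hw', ?_⟩
      have hc' : Commute u₀ w' := qU_ext hf fun r => by
        simp only [Subgroup.coe_mul, LinearEquiv.mul_apply]
        exact (hcom (u₀ : Ud F 4 ≃ₗ[F] Ud F 4) (fun q => by
          have := congrArg (fun x : OQ (qU f) => (x : Ud F 4 ≃ₗ[F] Ud F 4) q) hwc.eq.symm
          simpa using this) r).symm
      rw [e]
      exact (hc'.map (slot hf 0)).mul_left (slot_comm hf (by decide) _ _)
    · obtain ⟨a, ha, -⟩ := (orth_nil (f := f)).exists_aniso hf (by norm_num)
      obtain ⟨hns, hsq, hadj⟩ := hl 0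
      obtain ⟨R, hR, -, hRα⟩ := exotic_plane hf hns hsq hadj (hsim 0) ha
      obtain ⟨w', hw', hcom⟩ := plane_hyp_comm hf thin hR
      refine ⟨0, w', hw', el_ext fun ζ => ?_⟩
      have e' : ∀ ζ, (y : Vt F 4 (1 + 1) ≃ₗ[F] Vt F 4 (1 + 1)) (pvec ζ) = pvec fun l' => gs l' (ζ l') := fun ζ => by
        have := e ζ
        simp only [inv_one, Equiv.Perm.one_apply] at this
        exact this
      simp only [Subgroup.coe_mul, LinearEquiv.mul_apply, slot_pvec, e']
      congr 1
      funext l'
      by_cases hl' : l' = 0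
      · subst hl'; simp [hcom _ hRα]
      · simp [Function.update_of_ne hl']

/-- **A proper overgroup consists of standard elements.** -/
theorem all_std_four {X : Subgroup (OQ (qT f (1 + 1)))} (C : EvenCtx hf X) (L1 : PlaneStd hf X)
    {g : OQ (qT f (1 + 1))} (hg : g ∈ X) : IsStd g :=
  (test_four C L1).all_std hg

end CfsgLib.Geo.OrthWreath
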