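/-
Arithmetic of four coordinates over three scalars: a transvection of an isotropic point which is no pair of
dependent vectors, composed with a real one, keeps some of the dependent pairs and not all.
-/
set_option autoImplicit false

namespace CfsgLib.Geo.OrthWreath.M3

/-- Three scalars. -/
inductive T
  | z | o | t

namespace T

def add : T → T → T
  | .z, b => b
  | a, .z => a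
  | .o, .o => .t
  | .t, .t => .o
  | _, _ => .z

def mul : T → T → T
  | .z, _ => .z
  | _, .z => .z
  | .o, b => b
  | .t, .o => .t
  | .t, .t => .o

def neg : T → T
  | .z => .z
  | .o => .t
  | .t => .o

def eq : T → T → Bool
  | .z, .z => true
  | .o, .o => true
  | .t, .t => true
  | _, _ => false

/-- All of the three. -/
def all (p : T → Bool) : Bool := p .z && p .o && p .t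

theorem all_eq {p : T → Bool} (h : all p = true) (a : T) : p a = true := by
  simp only [all, Bool.and_eq_true] at h
  cases a
  · exact h.1.1
  · exact h.1.2
  · exact h.2

end T

/-- Four coordinates, of norms one, one, one and minus one. -/
structure Q where
  a : T
  b : T
  c : T
  d : T

namespace Q

def zero : Q := ⟨.z, .z, .z, .z⟩
def add (u v : Q) : Q := ⟨u.a.add v.a, u.b.add v.b, u.c.add v.c, u.d.add v.d⟩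
def smul (r : T) (u : Q) : Q := ⟨r.mul u.a, r.mul u.b, r.mul u.c, r.mul u.d⟩
def dot (u v : Q) : T := ((u.a.mul v.a).add (u.b.mul v.b)).add ((u.c.mul v.c).add (u.d.mul v.d).neg)
def eq (u v : Q) : Bool := u.a.eq v.a && u.b.eq v.b && u.c.eq v.c && u.d.eq v.d

/-- All coordinates. -/
def all (p : Q → Bool) : Bool := T.all fun a => T.all fun b => T.all fun c => T.all fun d => p ⟨a, b, c, d⟩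

theorem all_eq {p : Q → Bool} (h : all p = true) (u : Q) : p u = true :=
  T.all_eq (T.all_eq (T.all_eq (T.all_eq h u.a) u.b) u.c) u.d

/-- A Siegel map. -/
def sig (d z u : Q) : Q :=
  ((u.add (smul (d.dot u) z)).add (smul (z.dot u).neg d)).add (smul ((z.dot z).mul (d.dot u)) d)

end Q

/-- A pair. -/
structure P where
  u : Q
  v : Q

namespace P

def add (x y : P) : P := ⟨x.u.add y.u, x.v.add y.v⟩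
def smul (r : T) (x : P) : P := ⟨x.u.smul r, x.v.smul r⟩
def dot (x y : P) : T := (x.u.dot y.u).add (x.v.dot y.v)
def turn (x : P) : P := ⟨x.v, x.u.smul .t⟩
def sig (d z : Q) (x : P) : P := ⟨Q.sig d z x.u, Q.sig d z x.v⟩

/-- A unitary transvection. -/
def tv (p w x : P) : P :=
  ((((x.add (smul (p.dot x) w)).add (smul (p.turn.dot x) w.turn)).add (smul (w.dot x).neg p)).add
    (smul (w.turn.dot x).neg p.turn)).add ((smul ((w.dot w).mul (p.dot x)) p).add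
      (smul ((w.dot w).mul (p.turn.dot x)) p.turn))

/-- Dependent coordinates. -/
def dep (x : P) : Bool :=
  x.u.eq Q.zero || x.v.eq Q.zero || x.v.eq x.u || x.v.eq (x.u.smul .t)

end P

/-- A word in a transvection and a Siegel map, a point with a dependent and a point with an independent image. -/
structure Cand where
  inv : Bool
  d : Q
  z : Q
  a : Q
  b : Q

/-- The map of a word. -/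
def Cand.map (c : Cand) (p w x : P) : P :=
  P.tv p (bif c.inv then w.smul .t else w) (P.sig c.d c.z (P.tv p w x))

/-- A word keeps the first point and moves the second. -/
def Cand.good (c : Cand) (p w : P) : Bool :=
  (c.d.dot c.d).eq .z && (c.d.dot c.z).eq .z && (c.a.dot c.a).eq .z && (c.b.dot c.b).eq .z &&
    !c.a.eq Q.zero && !c.b.eq Q.zero &&
      (c.map p w ⟨c.a, Q.zero⟩).dep && !(c.map p w ⟨c.b, Q.zero⟩).dep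

/-- The admissible second vectors. -/
def adm (p w : P) : Bool := (p.dot w).eq .z && (p.turn.dot w).eq .z && (w.dot w).eq .o

/-- All second vectors have a good word. -/
def covered (p : P) (l : List Cand) : Bool :=
  Q.all fun a => Q.all fun b => !adm p ⟨a, b⟩ || l.any fun c => c.good p ⟨a, b⟩

theorem covered_eq {p : P} {l : List Cand} (h : covered p l = true) (w : P) (hw : adm p w = true) :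
    ∃ c : Cand, c.good p w = true := by
  have h1 := Q.all_eq (Q.all_eq h w.u) w.v
  simp only [hw, Bool.not_true, Bool.false_or, List.any_eq_true] at h1
  obtain ⟨c, -, hc⟩ := h1
  exact ⟨c, hc⟩

/-- The pair of norms zero and product one. -/
def p01 : P := ⟨⟨.o, .z, .z, .o⟩, ⟨.t, .z, .z, .o⟩⟩
/-- The pair of norms one and minus one, orthogonal. -/
def p10 : P := ⟨⟨.o, .z, .z, .z⟩, ⟨.z, .z, .z, .o⟩⟩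
/-- The pair of norms one and minus one, product one. -/
def p11 : P := ⟨⟨.o, .z, .z, .z⟩, ⟨.o, .o, .z, .z⟩⟩

def c01 : List Cand :=
  [⟨false, ⟨.o, .o, .o, .z⟩, ⟨.z, .z, .z, .o⟩, ⟨.o, .t, .t, .z⟩, ⟨.z, .z, .o, .o⟩⟩,
    ⟨false, ⟨.o, .t, .t, .z⟩, ⟨.z, .z, .z, .o⟩, ⟨.o, .o, .o, .z⟩, ⟨.z, .z, .o, .o⟩⟩,
    ⟨false, ⟨.o, .o, .o, .z⟩, ⟨.z, .z, .z, .o⟩, ⟨.o, .z, .z, .t⟩, ⟨.z, .z, .o, .o⟩⟩,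
    ⟨false, ⟨.z, .o, .z, .o⟩, ⟨.o, .z, .z, .z⟩, ⟨.o, .z, .z, .t⟩, ⟨.z, .z, .o, .o⟩⟩,
    ⟨false, ⟨.z, .o, .z, .t⟩, ⟨.t, .z, .z, .z⟩, ⟨.o, .z, .z, .t⟩, ⟨.z, .z, .o, .o⟩⟩,
    ⟨false, ⟨.o, .z, .z, .t⟩, ⟨.z, .o, .t, .z⟩, ⟨.o, .t, .o, .z⟩, ⟨.z, .z, .o, .o⟩⟩,
    ⟨true, ⟨.o, .t, .o, .z⟩, ⟨.z, .z, .z, .t⟩, ⟨.o, .z, .z, .o⟩, ⟨.z, .z, .o, .o⟩⟩,
    ⟨false, ⟨.z, .o, .z, .o⟩, ⟨.o, .z, .z, .z⟩, ⟨.z, .o, .z, .t⟩, ⟨.z, .o, .z, .o⟩⟩,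
    ⟨false, ⟨.o, .t, .t, .z⟩, ⟨.z, .z, .z, .o⟩, ⟨.o, .z, .z, .t⟩, ⟨.z, .z, .o, .t⟩⟩,
    ⟨false, ⟨.z, .o, .z, .o⟩, ⟨.o, .z, .o, .z⟩, ⟨.o, .z, .z, .t⟩, ⟨.z, .z, .o, .t⟩⟩,
    ⟨false, ⟨.z, .z, .o, .t⟩, ⟨.o, .o, .z, .z⟩, ⟨.z, .z, .o, .o⟩, ⟨.z, .o, .z, .o⟩⟩,
    ⟨false, ⟨.z, .z, .o, .o⟩, ⟨.t, .o, .z, .z⟩, ⟨.o, .z, .z, .t⟩, ⟨.z, .z, .o, .o⟩⟩,
    ⟨false, ⟨.z, .z, .o, .t⟩, ⟨.o, .o, .z, .z⟩, ⟨.o, .z, .z, .t⟩, ⟨.z, .z, .o, .o⟩⟩,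
    ⟨true, ⟨.z, .z, .o, .o⟩, ⟨.z, .o, .z, .z⟩, ⟨.o, .z, .z, .t⟩, ⟨.z, .z, .o, .o⟩⟩]

def c10 : List Cand :=
  [⟨false, ⟨.z, .z, .o, .o⟩, ⟨.t, .z, .z, .z⟩, ⟨.z, .z, .o, .t⟩, ⟨.z, .o, .z, .o⟩⟩,
    ⟨false, ⟨.z, .z, .o, .t⟩, ⟨.t, .z, .z, .z⟩, ⟨.z, .z, .o, .o⟩, ⟨.z, .o, .z, .o⟩⟩,
    ⟨false, ⟨.o, .o, .o, .z⟩, ⟨.z, .z, .z, .o⟩, ⟨.o, .z, .z, .o⟩, ⟨.z, .z, .o, .o⟩⟩,
    ⟨false, ⟨.z, .o, .z, .t⟩, ⟨.t, .z, .z, .z⟩, ⟨.z, .o, .z, .o⟩, ⟨.z, .z, .o, .o⟩⟩,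
    ⟨false, ⟨.z, .o, .z, .o⟩, ⟨.o, .z, .z, .z⟩, ⟨.o, .z, .z, .o⟩, ⟨.z, .z, .o, .o⟩⟩,
    ⟨false, ⟨.o, .o, .o, .z⟩, ⟨.z, .z, .z, .t⟩, ⟨.o, .t, .t, .z⟩, ⟨.z, .z, .o, .t⟩⟩,
    ⟨false, ⟨.o, .z, .z, .t⟩, ⟨.z, .z, .o, .z⟩, ⟨.z, .z, .o, .t⟩, ⟨.z, .o, .z, .o⟩⟩,
    ⟨false, ⟨.z, .o, .z, .o⟩, ⟨.o, .z, .z, .z⟩, ⟨.z, .o, .z, .t⟩, ⟨.z, .z, .o, .o⟩⟩,
    ⟨false, ⟨.o, .o, .t, .z⟩, ⟨.z, .z, .z, .t⟩, ⟨.o, .t, .o, .z⟩, ⟨.z, .z, .o, .o⟩⟩,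
    ⟨true, ⟨.o, .z, .z, .o⟩, ⟨.z, .z, .t, .z⟩, ⟨.o, .z, .z, .t⟩, ⟨.z, .z, .o, .t⟩⟩,
    ⟨false, ⟨.o, .t, .o, .z⟩, ⟨.z, .z, .z, .t⟩, ⟨.z, .o, .z, .t⟩, ⟨.z, .z, .o, .o⟩⟩,
    ⟨true, ⟨.z, .o, .z, .t⟩, ⟨.o, .z, .z, .z⟩, ⟨.z, .o, .z, .o⟩, ⟨.z, .z, .o, .o⟩⟩,
    ⟨true, ⟨.z, .o, .z, .t⟩, ⟨.t, .z, .z, .z⟩, ⟨.o, .o, .o, .z⟩, ⟨.z, .z, .o, .o⟩⟩,
    ⟨false, ⟨.z, .z, .o, .o⟩, ⟨.o, .z, .z, .z⟩, ⟨.o, .z, .z, .o⟩, ⟨.z, .z, .o, .o⟩⟩]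

def c11 : List Cand :=
  [⟨false, ⟨.o, .o, .t, .z⟩, ⟨.z, .t, .t, .z⟩, ⟨.o, .o, .o, .z⟩, ⟨.z, .o, .z, .o⟩⟩,
    ⟨false, ⟨.z, .o, .z, .t⟩, ⟨.t, .z, .z, .z⟩, ⟨.z, .o, .z, .o⟩, ⟨.z, .o, .z, .t⟩⟩,
    ⟨false, ⟨.o, .o, .o, .z⟩, ⟨.z, .t, .o, .z⟩, ⟨.o, .o, .t, .z⟩, ⟨.z, .o, .z, .o⟩⟩,
    ⟨false, ⟨.z, .o, .z, .o⟩, ⟨.t, .z, .z, .z⟩, ⟨.z, .o, .z, .t⟩, ⟨.z, .o, .z, .o⟩⟩,
    ⟨true, ⟨.z, .o, .z, .o⟩, ⟨.t, .z, .z, .z⟩, ⟨.z, .o, .z, .o⟩, ⟨.z, .z, .o, .o⟩⟩,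
    ⟨true, ⟨.o, .o, .t, .z⟩, ⟨.z, .o, .o, .z⟩, ⟨.o, .t, .o, .z⟩, ⟨.z, .z, .o, .o⟩⟩,
    ⟨true, ⟨.o, .o, .o, .z⟩, ⟨.z, .o, .t, .z⟩, ⟨.o, .t, .t, .z⟩, ⟨.z, .z, .o, .o⟩⟩,
    ⟨true, ⟨.z, .o, .z, .t⟩, ⟨.o, .z, .z, .z⟩, ⟨.o, .z, .z, .t⟩, ⟨.z, .z, .o, .o⟩⟩,
    ⟨false, ⟨.o, .o, .t, .z⟩, ⟨.z, .z, .z, .o⟩, ⟨.z, .z, .o, .o⟩, ⟨.z, .z, .o, .t⟩⟩,
    ⟨true, ⟨.o, .z, .z, .t⟩, ⟨.z, .z, .o, .z⟩, ⟨.z, .z, .o, .t⟩, ⟨.z, .z, .o, .o⟩⟩,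
    ⟨false, ⟨.o, .z, .z, .o⟩, ⟨.z, .z, .t, .z⟩, ⟨.o, .o, .t, .z⟩, ⟨.z, .z, .o, .o⟩⟩,
    ⟨false, ⟨.o, .z, .z, .t⟩, ⟨.z, .z, .t, .z⟩, ⟨.o, .o, .t, .z⟩, ⟨.z, .z, .o, .o⟩⟩,
    ⟨false, ⟨.z, .o, .z, .o⟩, ⟨.o, .z, .t, .z⟩, ⟨.z, .o, .z, .t⟩, ⟨.z, .z, .o, .o⟩⟩,
    ⟨false, ⟨.z, .z, .o, .o⟩, ⟨.o, .z, .z, .z⟩, ⟨.z, .o, .z, .o⟩, ⟨.z, .z, .o, .o⟩⟩,
    ⟨false, ⟨.z, .z, .o, .o⟩, ⟨.o, .t, .z, .z⟩, ⟨.z, .z, .o, .o⟩, ⟨.z, .z, .o, .t⟩⟩,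
    ⟨false, ⟨.z, .o, .z, .o⟩, ⟨.t, .z, .t, .z⟩, ⟨.z, .z, .o, .o⟩, ⟨.z, .z, .o, .t⟩⟩,
    ⟨false, ⟨.z, .z, .o, .o⟩, ⟨.z, .t, .z, .z⟩, ⟨.o, .z, .z, .t⟩, ⟨.z, .z, .o, .o⟩⟩,
    ⟨false, ⟨.o, .z, .z, .o⟩, ⟨.z, .o, .o, .z⟩, ⟨.z, .z, .o, .t⟩, ⟨.z, .z, .o, .o⟩⟩]

theorem covered_01 : covered p01 c01 = true := by decide +kernel

theorem covered_10 : covered p10 c10 = true := by decide +kernel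

theorem covered_11 : covered p11 c11 = true := by decide +kernel

end CfsgLib.Geo.OrthWreath.M3
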