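/-
Two factors of dimension four over three scalars: quarter turns of a plane, and the pairs of vectors they turn.
-/
import Cfsg.Agent.Lib.Geo.OrthWreath.Four.Planes

set_option autoImplicit false
set_option linter.unusedSectionVars false

namespace CfsgLib.Geo.OrthWreath

open CfsgLib.Classical CfsgLib.Classical.Quad Module
open CfsgLib.Geo.MixTensor (SymForm)
open CfsgLib.Geo.TensorWreath (pvec)
open LinearMap (BilinForm)

variable {F : Type*} [Field F] [Finite F] {f : BilinForm F (Ud F 4)} {hf : SymForm f}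

/-- The scalars. -/
theorem three_cases (h3 : Nat.card F = 3) (r : F) : r = 0 ∨ r = 1 ∨ r = -1 := by
  classical
  have := Fintype.ofFinite F
  rw [Nat.card_eq_fintype_card] at h3
  have h := FiniteField.pow_card r
  rw [h3] at h
  by_cases hr : r = 0
  · exact Or.inl hr
  · right
    exact mul_self_eq_one_iff.1 (mul_right_cancel₀ hr (by linear_combination h))

theorem char_three (h3 : Nat.card F = 3) : CharP F 3 := by
  have := Fintype.ofFinite F
  rw [Nat.card_eq_fintype_card] at h3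
  refine (CharP.charP_iff_prime_eq_zero Nat.prime_three).2 ?_
  rw [← h3]
  exact Nat.cast_card_eq_zero F

theorem three_zero (h3 : Nat.card F = 3) : (3 : F) = 0 := by
  haveI := char_three h3
  exact_mod_cast CharP.cast_eq_zero F 3

theorem sq_add_sq_ne (h3 : Nat.card F = 3) {r s : F} (h : ¬ (r = 0 ∧ s = 0)) : r * r + s * s ≠ 0 := by
  have h30 := three_zero h3
  intro e
  rcases three_cases h3 r with rfl | rfl | rfl <;> rcases three_cases h3 s with rfl | rfl | rfl <;>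
    first
      | exact h ⟨rfl, rfl⟩
      | exact one_ne_zero (α := F) (by linear_combination e)
      | exact one_ne_zero (α := F) (by linear_combination h30 - e)

/-- A quarter turn in the plane of two orthogonal vectors of norm one. -/
structure Turn (f : BilinForm F (Ud F 4)) (c₁ c₂ : Ud F 4) (ρ : OQ (qU f)) : Prop where
  n1 : f c₁ c₁ = 1
  n2 : f c₂ c₂ = 1
  o : f c₁ c₂ = 0
  e1 : (ρ : Ud F 4 ≃ₗ[F] Ud F 4) c₁ = -c₂
  e2 : (ρ : Ud F 4 ≃ₗ[F] Ud F 4) c₂ = c₁
  e3 : ∀ q, f c₁ q = 0 → f c₂ q = 0 → (ρ : Ud F 4 ≃ₗ[F] Ud F 4) q = q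

namespace Turn

variable {c₁ c₂ : Ud F 4} {ρ : OQ (qU f)}

theorem o' (hf : SymForm f) (T : Turn f c₁ c₂ ρ) : f c₂ c₁ = 0 := by rw [hf.symm]; exact T.o

theorem ne1 (T : Turn f c₁ c₂ ρ) : c₁ ≠ 0 := fun e => by simpa [e] using T.n1

theorem ne2 (T : Turn f c₁ c₂ ρ) : c₂ ≠ 0 := fun e => by simpa [e] using T.n2

theorem apply (hf : SymForm f) (T : Turn f c₁ c₂ ρ) (q : Ud F 4) :
    (ρ : Ud F 4 ≃ₗ[F] Ud F 4) q = q - f c₁ q • (c₁ + c₂) + f c₂ q • (c₁ - c₂) := by
  have hq : (ρ : Ud F 4 ≃ₗ[F] Ud F 4) (q - f c₁ q • c₁ - f c₂ q • c₂) = q - f c₁ q • c₁ - f c₂ q • c₂ :=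
    T.e3 _ (by simp [T.n1, T.o]) (by simp [T.n2, T.o' hf])
  conv_lhs => rw [show q = q - f c₁ q • c₁ - f c₂ q • c₂ + f c₁ q • c₁ + f c₂ q • c₂ by abel]
  simp only [map_add, map_smul, hq, T.e1, T.e2]
  module

theorem sq (hf : SymForm f) (T : Turn f c₁ c₂ ρ) (q : Ud F 4) :
    ((ρ * ρ : OQ (qU f)) : Ud F 4 ≃ₗ[F] Ud F 4) q = q - (2 : F) • (f c₁ q • c₁ + f c₂ q • c₂) := by
  rw [Subgroup.coe_mul, LinearEquiv.mul_apply, T.apply hf q]
  simp only [map_add, map_sub, map_smul, T.apply hf q, T.e1, T.e2]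
  module

theorem rot (T : Turn f c₁ c₂ ρ) (hf : SymForm f) : Turn f c₂ (-c₁) ρ where
  n1 := T.n2
  n2 := by simp [T.n1]
  o := by simp [T.o' hf]
  e1 := by rw [neg_neg, T.e2]
  e2 := by rw [map_neg, T.e1, neg_neg]
  e3 q h1 h2 := T.e3 q (by simpa using h2) h1

theorem swap (T : Turn f c₁ c₂ ρ) (hf : SymForm f) : Turn f c₂ c₁ ρ⁻¹ where
  n1 := T.n2
  n2 := T.n1
  o := T.o' hf
  e1 := by
    rw [Subgroup.coe_inv, LinearEquiv.coe_inv, LinearEquiv.symm_apply_eq, map_neg, T.e1, neg_neg]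
  e2 := by
    rw [Subgroup.coe_inv, LinearEquiv.coe_inv, LinearEquiv.symm_apply_eq, T.e2]
  e3 q h1 h2 := by
    rw [Subgroup.coe_inv, LinearEquiv.coe_inv, LinearEquiv.symm_apply_eq]
    exact (T.e3 q h2 h1).symm

/-- An element of order three commuting with a quarter turn is trivial. -/
theorem three_eq_one (hf : SymForm f) (thin : OrthTensorFour.Thin f) (h3 : Nat.card F = 3)
    (T : Turn f c₁ c₂ ρ) {a : OQ (qU f)}
    (ha : a ^ 3 = 1) (hc : Commute a ρ) : a = 1 := by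
  haveI := char_three h3
  haveI : Fact (Nat.Prime 3) := ⟨Nat.prime_three⟩
  have hpow : ∀ n : ℕ, lm (a ^ n) = lm a ^ n := fun n => by
    induction n with
    | zero => rfl
    | succ n ih => rw [pow_succ, pow_succ, lm_mul, ih]
  rcases OrthTensorFour.one_or_sv hf thin (p := 3) (A := lm a) (fun x y => map_f hf a x y)
    (by rw [← hpow, ha, lm_one]) with h | ⟨d, z, hd0, hd, hdz, hz, hA⟩
  · exact qU_ext hf fun q => LinearMap.congr_fun h q
  exfalso
  have hA' : ∀ q, (a : Ud F 4 ≃ₗ[F] Ud F 4) q = (sU hf hd hdz : Ud F 4 ≃ₗ[F] Ud F 4) q := hA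
  have hcq : ∀ q, (sU hf hd hdz : Ud F 4 ≃ₗ[F] Ud F 4) ((ρ : Ud F 4 ≃ₗ[F] Ud F 4) q) =
      (ρ : Ud F 4 ≃ₗ[F] Ud F 4) ((sU hf hd hdz : Ud F 4 ≃ₗ[F] Ud F 4) q) := fun q => by
    have h1 := congrArg (fun u : OQ (qU f) => (u : Ud F 4 ≃ₗ[F] Ud F 4) q) hc.eq
    simp only [Subgroup.coe_mul, LinearEquiv.mul_apply] at h1
    rw [← hA', ← hA', h1]
  have h2 := hf.two
  have hzd : f z d = 0 := by rw [hf.symm]; exact hdz
  obtain ⟨e, -, hde⟩ := CfsgLib.Geo.OrthTensor.exists_iso_partner hf hd hd0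
  -- the line of the unipotent element
  set m := f d ((ρ : Ud F 4 ≃ₗ[F] Ud F 4) e)
  have hρd : (ρ : Ud F 4 ≃ₗ[F] Ud F 4) d = m • d := by
    have h1 := hcq ((sU hf hd hdz : Ud F 4 ≃ₗ[F] Ud F 4) e)
    have h0 := hcq e
    rw [← h0] at h1
    simp only [sU_apply, map_add, map_sub, map_smul, smul_eq_mul, hd, hdz, hzd, hde, mul_zero, zero_smul, sub_zero,
      add_zero, one_smul, mul_one] at h1 h0
    have h3 : (f z z) • ((ρ : Ud F 4 ≃ₗ[F] Ud F 4) d) = (f z z) • (m • d) := by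
      simp only [m]
      linear_combination (norm := (match_scalars <;> field_simp <;> ring)) h1 - (2 : F) • h0
    exact smul_right_injective _ hz h3
  have hc1 := congrArg (f c₁) hρd
  have hc2 := congrArg (f c₂) hρd
  rw [T.apply hf d] at hc1 hc2
  simp [T.n1, T.n2, T.o, T.o' hf] at hc1 hc2
  -- in the plane the turn has no eigenvalue
  have hk : ∀ r : F, r * r + 1 ≠ 0 := by
    intro r hr
    exact sq_add_sq_ne h3 (r := r) (s := 1) (fun h => one_ne_zero h.2) (by rw [one_mul, hr])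
  have p0 : f c₁ d = 0 := (mul_eq_zero.1 (show (m * m + 1) * f c₁ d = 0 by
    linear_combination -m * hc1 - hc2)).resolve_left (hk m)
  have r0 : f c₂ d = 0 := by linear_combination hc1 + m * p0
  have hρd' : (ρ : Ud F 4 ≃ₗ[F] Ud F 4) d = d := T.e3 d p0 r0
  have hm : m = 1 := smul_left_injective F hd0 (hρd.symm.trans (hρd'.trans (one_smul F d).symm))
  have hz' := hcq e
  simp only [sU_apply, map_add, map_sub, map_smul, hρd', hde, one_smul, mul_one] at hz'
  rw [show f d ((ρ : Ud F 4 ≃ₗ[F] Ud F 4) e) = 1 from hm] at hz'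
  simp only [one_smul, mul_one] at hz'
  have hz1 := congrArg (f c₁) hz'
  have hz2 := congrArg (f c₂) hz'
  rw [T.apply hf z] at hz1 hz2
  simp [p0, r0, T.n1, T.n2, T.o, T.o' hf] at hz1 hz2
  have z1 : f c₁ z = 0 := (mul_eq_zero.1 (show (2 : F) * f c₁ z = 0 by linear_combination hz1 + hz2)).resolve_left h2
  have z2 : f c₂ z = 0 := by linear_combination z1 - hz1
  -- the orthogonal complement of the three vectors
  have ha1 : f c₁ c₁ ≠ 0 := by rw [T.n1]; exact one_ne_zero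
  have ha2 : f c₂ c₂ ≠ 0 := by rw [T.n2]; exact one_ne_zero
  have o3 := (orth_two hf ha1 ha2 T.o).cons hf hz (fun l => by fin_cases l <;> simp [z1, z2])
  obtain ⟨g, hg, gg⟩ := o3.exists_aniso hf (by norm_num)
  have o4 : Orth f ![g, z, c₁, c₂] := o3.cons hf hg gg
  have hdd := quad_decomp hf o4 d
  rw [hzd, p0, r0] at hdd
  simp only [zero_div, zero_smul, add_zero] at hdd
  rw [hdd] at hd
  simp [hg] at hd
  exact hd0 (by rw [hdd, hd]; simp)

end Turn

end CfsgLib.Geo.OrthWreath
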