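/-
A space of dimension four without totally singular planes over three scalars, in coordinates.
-/
import Cfsg.Agent.Lib.Geo.OrthWreath.Four.Turn
import Cfsg.Agent.Lib.Geo.OrthWreath.Four.Model

set_option autoImplicit false
set_option linter.unusedSectionVars false

namespace CfsgLib.Geo.OrthWreath

open CfsgLib.Classical CfsgLib.Classical.Quad Module
open CfsgLib.Geo.MixTensor (SymForm)
open LinearMap (BilinForm)

variable {F : Type*} [Field F] [Finite F] {f : BilinForm F (Ud F 4)}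

/-- The scalar of a letter. -/
def tval : M3.T → F
  | .z => 0
  | .o => 1
  | .t => -1

theorem tval_add (h30 : (3 : F) = 0) (a b : M3.T) : (tval (a.add b) : F) = tval a + tval b := by
  cases a <;> cases b <;> simp [M3.T.add, tval] <;>
    first
      | linear_combination h30
      | linear_combination -h30

theorem tval_mul (a b : M3.T) : (tval (a.mul b) : F) = tval a * tval b := by
  cases a <;> cases b <;> simp [M3.T.mul, tval]

theorem tval_neg (a : M3.T) : (tval a.neg : F) = -tval a := by cases a <;> simp [M3.T.neg, tval]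

theorem tval_surj (h3 : Nat.card F = 3) (r : F) : ∃ a, tval a = r := by
  rcases three_cases h3 r with rfl | rfl | rfl
  · exact ⟨.z, rfl⟩
  · exact ⟨.o, rfl⟩
  · exact ⟨.t, rfl⟩

theorem T_eq_iff (a b : M3.T) : a.eq b = true ↔ a = b := by cases a <;> cases b <;> simp [M3.T.eq]

theorem tval_inj (h2 : (2 : F) ≠ 0) {a b : M3.T} (h : (tval a : F) = tval b) : a = b := by
  cases a <;> cases b <;> simp only [tval] at h <;>
    first
      | rfl
      | exact absurd h one_ne_zero
      | exact absurd h.symm one_ne_zero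
      | exact absurd h (neg_ne_zero.2 one_ne_zero)
      | exact absurd h.symm (neg_ne_zero.2 one_ne_zero)
      | exact absurd (show (2 : F) = 0 by linear_combination h) h2
      | exact absurd (show (2 : F) = 0 by linear_combination -h) h2

theorem Q_eq_iff (u v : M3.Q) : u.eq v = true ↔ u = v := by
  cases u; cases v
  simp [M3.Q.eq, T_eq_iff, and_assoc]

/-- A basis of norms one, one, one and minus one. -/
structure Basis4 (f : BilinForm F (Ud F 4)) where
  e₁ : Ud F 4
  e₂ : Ud F 4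
  e₃ : Ud F 4
  e₄ : Ud F 4
  orth : Orth f ![e₁, e₂, e₃, e₄]
  n1 : f e₁ e₁ = 1
  n2 : f e₂ e₂ = 1
  n3 : f e₃ e₃ = 1
  n4 : f e₄ e₄ = -1

namespace Basis4

variable (E : Basis4 f)

/-- The vector of four coordinates. -/
def vec (u : M3.Q) : Ud F 4 :=
  (tval u.a : F) • E.e₁ + (tval u.b : F) • E.e₂ + (tval u.c : F) • E.e₃ + (tval u.d : F) • E.e₄

/-- The pair of eight coordinates. -/
def pair (x : M3.P) : Ud F 4 × Ud F 4 := (E.vec x.u, E.vec x.v)

theorem vec_zero : E.vec M3.Q.zero = 0 := by simp [vec, M3.Q.zero, tval]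

theorem vec_add (h30 : (3 : F) = 0) (u v : M3.Q) : E.vec (u.add v) = E.vec u + E.vec v := by
  simp only [vec, M3.Q.add, tval_add h30, add_smul]
  abel

theorem vec_smul (r : M3.T) (u : M3.Q) : E.vec (M3.Q.smul r u) = (tval r : F) • E.vec u := by
  simp only [vec, M3.Q.smul, tval_mul, smul_add, smul_smul]

theorem vec_dot (h30 : (3 : F) = 0) (u v : M3.Q) : f (E.vec u) (E.vec v) = tval (u.dot v) := by
  obtain ⟨-, ⟨h1, h2, h3, h4, h5, h6⟩, ⟨g1, g2, g3, g4, g5, g6⟩⟩ := quad_entries E.orth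
  simp only [M3.Q.dot, tval_add h30, tval_mul, tval_neg]
  simp [vec, h1, h2, h3, h4, h5, h6, g1, g2, g3, g4, g5, g6, E.n1, E.n2, E.n3, E.n4]
  ring

theorem vec_inj (hf : SymForm f) {u v : M3.Q} (h : E.vec u = E.vec v) : u = v := by
  obtain ⟨-, ⟨h1, h2, h3, h4, h5, h6⟩, ⟨g1, g2, g3, g4, g5, g6⟩⟩ := quad_entries E.orth
  have e1 := congrArg (f E.e₁) h
  have e2 := congrArg (f E.e₂) h
  have e3 := congrArg (f E.e₃) h
  have e4 := congrArg (f E.e₄) h
  simp [vec, h1, h2, h3, h4, h5, h6, g1, g2, g3, g4, g5, g6, E.n1, E.n2, E.n3, E.n4] at e1 e2 e3 e4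
  have := And.intro (tval_inj hf.two e1) (And.intro (tval_inj hf.two e2) (And.intro (tval_inj hf.two e3) (tval_inj hf.two e4)))
  cases u; cases v
  simp_all

theorem vec_surj (hf : SymForm f) (h3 : Nat.card F = 3) (q : Ud F 4) : ∃ u, E.vec u = q := by
  obtain ⟨a, ha⟩ := tval_surj h3 (f E.e₁ q / f E.e₁ E.e₁)
  obtain ⟨b, hb⟩ := tval_surj h3 (f E.e₂ q / f E.e₂ E.e₂)
  obtain ⟨c, hc⟩ := tval_surj h3 (f E.e₃ q / f E.e₃ E.e₃)
  obtain ⟨d, hd⟩ := tval_surj h3 (f E.e₄ q / f E.e₄ E.e₄)
  exact ⟨⟨a, b, c, d⟩, by rw [vec, ha, hb, hc, hd]; exact (quad_decomp hf E.orth q).symm⟩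

theorem vec_sig (hf : SymForm f) (h30 : (3 : F) = 0) {d z : M3.Q} (hd : f (E.vec d) (E.vec d) = 0)
    (hz : f (E.vec d) (E.vec z) = 0) (u : M3.Q) :
    (sU hf hd hz : Ud F 4 ≃ₗ[F] Ud F 4) (E.vec u) = E.vec (M3.Q.sig d z u) := by
  have h2 := hf.two
  rw [sU_apply, M3.Q.sig, E.vec_add h30, E.vec_add h30, E.vec_add h30, E.vec_smul, E.vec_smul, E.vec_smul,
    tval_neg, tval_mul, ← E.vec_dot h30, ← E.vec_dot h30, ← E.vec_dot h30]
  have hh : -(f (E.vec z) (E.vec z) / 2 * f (E.vec d) (E.vec u)) = f (E.vec z) (E.vec z) * f (E.vec d) (E.vec u) := by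
    field_simp
    linear_combination -(f (E.vec z) (E.vec z) * f (E.vec d) (E.vec u)) * h30
  rw [← hh]
  module

theorem pair_dep (x : M3.P) (h : x.dep = true) :
    ∃ (r s : F) (w : Ud F 4), E.pair x = (r • w, s • w) := by
  simp only [M3.P.dep, Bool.or_eq_true, Q_eq_iff] at h
  rcases h with ((h | h) | h) | h
  · exact ⟨0, 1, E.vec x.v, by rw [pair, h, E.vec_zero]; simp⟩
  · exact ⟨1, 0, E.vec x.u, by rw [pair, h, E.vec_zero]; simp⟩
  · exact ⟨1, 1, E.vec x.u, by rw [pair, h]; simp⟩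
  · exact ⟨1, -1, E.vec x.u, by rw [pair, h, E.vec_smul]; simp [tval]⟩

theorem dep_of_pair (hf : SymForm f) (h3 : Nat.card F = 3) (x : M3.P) {r s : F} {w : Ud F 4}
    (h : E.pair x = (r • w, s • w)) : x.dep = true := by
  simp only [M3.P.dep, Bool.or_eq_true, Q_eq_iff]
  obtain ⟨hu, hv⟩ := Prod.ext_iff.1 h
  simp only [pair] at hu hv
  by_cases hr : r = 0
  · exact Or.inl (Or.inl (Or.inl (E.vec_inj hf (by rw [hu, hr, zero_smul, E.vec_zero]))))
  have e : E.vec x.v = (s / r) • E.vec x.u := by rw [hu, hv, smul_smul, div_mul_cancel₀ _ hr]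
  rcases three_cases h3 (s / r) with h1 | h1 | h1
  · exact Or.inl (Or.inl (Or.inr (E.vec_inj hf (by rw [e, h1, zero_smul, E.vec_zero]))))
  · exact Or.inl (Or.inr (E.vec_inj hf (by rw [e, h1, one_smul])))
  · exact Or.inr (E.vec_inj hf (by rw [e, h1, E.vec_smul]; rfl))

end Basis4

/-- Two orthogonal vectors of norms one extend to a basis. -/
theorem exists_basis_two (hf : SymForm f) (thin : OrthTensorFour.Thin f) (h3 : Nat.card F = 3) {a b : Ud F 4}
    (ha : f a a = 1) (hb : f b b = 1) (hab : f a b = 0) : ∃ E : Basis4 f, E.e₁ = a ∧ E.e₂ = b := by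
  have ha0 : f a a ≠ 0 := by rw [ha]; exact one_ne_zero
  have hb0 : f b b ≠ 0 := by rw [hb]; exact one_ne_zero
  obtain ⟨c, hc, gc⟩ := (orth_two hf ha0 hb0 hab).exists_norm hf (by norm_num) (one_ne_zero (α := F))
  have hac : f a c = 0 := by simpa using gc 0
  have hbc : f b c = 0 := by simpa using gc 1
  have hca : f c a = 0 := by rw [hf.symm]; exact hac
  have hcb : f c b = 0 := by rw [hf.symm]; exact hbc
  obtain ⟨e, he, ge⟩ := ((orth_two hf ha0 hb0 hab).cons hf (by rw [hc]; exact one_ne_zero) gc).exists_aniso hf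
    (by norm_num)
  have hce : f c e = 0 := by simpa using ge 0
  have hae : f a e = 0 := by simpa using ge 1
  have hbe : f b e = 0 := by simpa using ge 2
  have hba : f b a = 0 := by rw [hf.symm]; exact hab
  have hea : f e a = 0 := by rw [hf.symm]; exact hae
  have heb : f e b = 0 := by rw [hf.symm]; exact hbe
  have hec : f e c = 0 := by rw [hf.symm]; exact hce
  have ho : Orth f ![a, b, c, e] := by
    refine ⟨fun i => ?_, fun i l hil => ?_⟩
    · fin_cases i <;> simp [ha, hb, hc, he]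
    · fin_cases i <;> fin_cases l <;>
        simp [hab, hba, hac, hca, hbc, hcb, hae, hea, hbe, heb, hce, hec] at hil ⊢
  have nd := disc_nsq hf thin ho
  refine ⟨⟨a, b, c, e, ho, ha, hb, hc, ?_⟩, rfl, rfl⟩
  rcases three_cases h3 (f e e) with h | h | h
  · exact absurd h he
  · exact absurd ⟨1, by rw [ha, hb, hc, h]; ring⟩ nd
  · exact h

/-- Two orthogonal vectors of norms one and minus one extend to a basis. -/
theorem exists_basis_mixed (hf : SymForm f) (thin : OrthTensorFour.Thin f) (h3 : Nat.card F = 3) {a b : Ud F 4}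
    (ha : f a a = 1) (hb : f b b = -1) (hab : f a b = 0) : ∃ E : Basis4 f, E.e₁ = a ∧ E.e₄ = b := by
  have ha0 : f a a ≠ 0 := by rw [ha]; exact one_ne_zero
  have hb0 : f b b ≠ 0 := by rw [hb]; exact neg_ne_zero.2 one_ne_zero
  obtain ⟨c, hc, gc⟩ := (orth_two hf ha0 hb0 hab).exists_norm hf (by norm_num) (one_ne_zero (α := F))
  have hac : f a c = 0 := by simpa using gc 0
  have hbc : f b c = 0 := by simpa using gc 1
  have hca : f c a = 0 := by rw [hf.symm]; exact hac
  have hcb : f c b = 0 := by rw [hf.symm]; exact hbc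
  obtain ⟨e, he, ge⟩ := ((orth_two hf ha0 hb0 hab).cons hf (by rw [hc]; exact one_ne_zero) gc).exists_aniso hf
    (by norm_num)
  have hce : f c e = 0 := by simpa using ge 0
  have hae : f a e = 0 := by simpa using ge 1
  have hbe : f b e = 0 := by simpa using ge 2
  have hba : f b a = 0 := by rw [hf.symm]; exact hab
  have hea : f e a = 0 := by rw [hf.symm]; exact hae
  have heb : f e b = 0 := by rw [hf.symm]; exact hbe
  have hec : f e c = 0 := by rw [hf.symm]; exact hce
  have ho : Orth f ![a, c, e, b] := by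
    refine ⟨fun i => ?_, fun i l hil => ?_⟩
    · fin_cases i <;> simp [ha, hb, hc, he]
    · fin_cases i <;> fin_cases l <;>
        simp [hab, hba, hac, hca, hbc, hcb, hae, hea, hbe, heb, hce, hec] at hil ⊢
  have nd := disc_nsq hf thin ho
  refine ⟨⟨a, c, e, b, ho, ha, hc, ?_, hb⟩, rfl, rfl⟩
  rcases three_cases h3 (f e e) with h | h | h
  · exact absurd h he
  · exact h
  · exact absurd ⟨1, by rw [ha, hb, hc, h]; ring⟩ nd

end CfsgLib.Geo.OrthWreath
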