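/-
Two factors of dimension four: the tensors over the plane of a quarter turn of one factor, as pairs of vectors of
the other.
-/
import Cfsg.Agent.Lib.Geo.OrthWreath.Four.Turn

set_option autoImplicit false
set_option linter.unusedSectionVars false

namespace CfsgLib.Geo.OrthWreath

open CfsgLib.Classical CfsgLib.Classical.Quad Module
open CfsgLib.Geo.MixTensor (SymForm)
open CfsgLib.Geo.TensorWreath (pvec)
open LinearMap (BilinForm)

variable {F : Type*} [Field F] [Finite F] {f : BilinForm F (Ud F 4)} {hf : SymForm f}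

/-- A vector as a single tensor. -/
def eta : Ud F 4 →ₗ[F] Vt F 4 1 := LinearMap.funLeft F F fun a : Fin 1 → Fin 4 => a 0

/-- A single tensor as a vector. -/
def kap : Vt F 4 1 →ₗ[F] Ud F 4 := LinearMap.funLeft F F fun (a : Fin 4) (_ : Fin 1) => a

theorem eta_pvec (a : Ud F 4) : eta a = pvec (F := F) fun _ : Fin 1 => a :=
  funext fun b => by simp [eta, pvec, LinearMap.funLeft_apply]

theorem eta_kap (w : Vt F 4 1) : eta (kap w) = w := funext fun b => by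
  simp only [eta, kap, LinearMap.funLeft_apply]
  exact congrArg w (funext fun j => by rw [Fin.fin_one_eq_zero j])

theorem frm_eta (a b : Ud F 4) : frm f 1 (eta a) (eta b) = f a b := by simp [eta_pvec, frm_pvec]

theorem slot_eta (hf : SymForm f) (u : OQ (qU f)) (a : Ud F 4) :
    (slot hf (0 : Fin 1) u : Vt F 4 1 ≃ₗ[F] Vt F 4 1) (eta a) = eta ((u : Ud F 4 ≃ₗ[F] Ud F 4) a) := by
  rw [eta_pvec, slot_pvec, eta_pvec]
  congr 1
  funext l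
  rw [Fin.fin_one_eq_zero l, Function.update_self]

/-- The tensors over a plane of one factor. -/
def tw (i : Fin (1 + 1)) (c₁ c₂ : Ud F 4) : Ud F 4 × Ud F 4 →ₗ[F] Vt F 4 (1 + 1) :=
  (Tm i c₁ ∘ₗ eta).coprod (Tm i c₂ ∘ₗ eta)

theorem tw_apply (i : Fin (1 + 1)) (c₁ c₂ : Ud F 4) (a : Ud F 4 × Ud F 4) :
    tw i c₁ c₂ a = Tm i c₁ (eta a.1) + Tm i c₂ (eta a.2) := rfl

theorem slot_other_tw (hf : SymForm f) {i i' : Fin (1 + 1)} (hi : i' ≠ i) (u : OQ (qU f)) (c₁ c₂ : Ud F 4)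
    (a : Ud F 4 × Ud F 4) :
    (slot hf i' u : Vt F 4 (1 + 1) ≃ₗ[F] Vt F 4 (1 + 1)) (tw i c₁ c₂ a) =
      tw i c₁ c₂ ((u : Ud F 4 ≃ₗ[F] Ud F 4) a.1, (u : Ud F 4 ≃ₗ[F] Ud F 4) a.2) := by
  obtain rfl : i' = i.succAbove 0 := by
    rcases Fin.eq_self_or_eq_succAbove i i' with h | ⟨m, h⟩
    · exact absurd h hi
    · rw [h, Fin.fin_one_eq_zero m]
  simp only [tw_apply, map_add, slot_Tm_succAbove, slot_eta hf]

namespace Turn

variable {c₁ c₂ : Ud F 4} {ρ : OQ (qU f)}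

theorem tw_turn (hf : SymForm f) (T : Turn f c₁ c₂ ρ) (i : Fin (1 + 1)) (a : Ud F 4 × Ud F 4) :
    (slot hf i ρ : Vt F 4 (1 + 1) ≃ₗ[F] Vt F 4 (1 + 1)) (tw i c₁ c₂ a) = tw i c₁ c₂ (a.2, -a.1) := by
  simp only [tw_apply, map_add, slot_Tm_self, T.e1, T.e2, map_neg, LinearMap.neg_apply]
  abel

theorem frm_tw (hf : SymForm f) (T : Turn f c₁ c₂ ρ) (i : Fin (1 + 1)) (a b : Ud F 4 × Ud F 4) :
    frm f (1 + 1) (tw i c₁ c₂ a) (tw i c₁ c₂ b) = f a.1 b.1 + f a.2 b.2 := by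
  simp [tw_apply, frm_Tm hf, frm_eta, T.n1, T.n2, T.o, T.o' hf]

theorem tw_inj (hf : SymForm f) (T : Turn f c₁ c₂ ρ) (i : Fin (1 + 1)) {a b : Ud F 4 × Ud F 4}
    (h : tw i c₁ c₂ a = tw i c₁ c₂ b) : a = b := by
  have key : ∀ z : Ud F 4 × Ud F 4, f a.1 z.1 + f a.2 z.2 = f b.1 z.1 + f b.2 z.2 := fun z => by
    rw [← T.frm_tw hf i, ← T.frm_tw hf i, h]
  refine Prod.ext (sub_eq_zero.1 (hf.nd.1 _ fun q => ?_)) (sub_eq_zero.1 (hf.nd.1 _ fun q => ?_))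
  · have h1 := key (q, 0)
    simp at h1
    simp [h1]
  · have h1 := key (0, q)
    simp at h1
    simp [h1]

/-- The tensors inverted by the square of the turn. -/
theorem exists_tw (hf : SymForm f) (T : Turn f c₁ c₂ ρ) (i : Fin (1 + 1)) {v : Vt F 4 (1 + 1)}
    (h : (slot hf i (ρ * ρ) : Vt F 4 (1 + 1) ≃ₗ[F] Vt F 4 (1 + 1)) v = -v) : ∃ a, tw i c₁ c₂ a = v := by
  set D := tensor hf i
  let L : Vt F 4 (1 + 1) →ₗ[F] Ud F 4 × Ud F 4 := (kap ∘ₗ D.flip.C c₁).prod (kap ∘ₗ D.flip.C c₂)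
  have e : (2 : F) • (tw i c₁ c₂ ∘ₗ L) = 1 - lm (slot hf i (ρ * ρ)) := D.hom_ext fun q w => by
    have hC : ∀ c, D.flip.C c (Tm i q w) = f c q • w := fun c => D.flip.C_T c w q
    show (2 : F) • tw i c₁ c₂ (kap (D.flip.C c₁ (Tm i q w)), kap (D.flip.C c₂ (Tm i q w))) =
      Tm i q w - (slot hf i (ρ * ρ) : Vt F 4 (1 + 1) ≃ₗ[F] Vt F 4 (1 + 1)) (Tm i q w)
    rw [slot_Tm_self, T.sq hf, hC, hC, tw_apply]
    simp only [map_smul, eta_kap, map_sub, map_add, LinearMap.sub_apply, LinearMap.add_apply, LinearMap.smul_apply]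
    abel
  refine ⟨L v, smul_right_injective _ hf.two ?_⟩
  have h1 := LinearMap.congr_fun e v
  simp only [LinearMap.smul_apply, LinearMap.comp_apply, LinearMap.sub_apply, Module.End.one_apply] at h1
  rw [show lm (slot hf i (ρ * ρ)) v = -v from h, sub_neg_eq_add] at h1
  show (2 : F) • tw i c₁ c₂ (L v) = (2 : F) • v
  exact h1.trans (two_smul F v).symm

theorem sq_tw (hf : SymForm f) (T : Turn f c₁ c₂ ρ) (i : Fin (1 + 1)) (a : Ud F 4 × Ud F 4) :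
    (slot hf i (ρ * ρ) : Vt F 4 (1 + 1) ≃ₗ[F] Vt F 4 (1 + 1)) (tw i c₁ c₂ a) = -tw i c₁ c₂ a := by
  rw [map_mul, Subgroup.coe_mul, LinearEquiv.mul_apply, T.tw_turn hf, T.tw_turn hf, ← map_neg]
  rfl

variable {c₁' c₂' : Ud F 4} {ρ' : OQ (qU f)}

/-- An element carrying one turn to another carries the tensors over the plane to those over the other. -/
theorem image (hf : SymForm f) (T : Turn f c₁ c₂ ρ) (T' : Turn f c₁' c₂' ρ') {x : OQ (qT f (1 + 1))}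
    {i j : Fin (1 + 1)} (h : x * slot hf i ρ * x⁻¹ = slot hf j ρ') (a : Ud F 4 × Ud F 4) :
    ∃ b, (x : Vt F 4 (1 + 1) ≃ₗ[F] Vt F 4 (1 + 1)) (tw i c₁ c₂ a) = tw j c₁' c₂' b ∧
      (x : Vt F 4 (1 + 1) ≃ₗ[F] Vt F 4 (1 + 1)) (tw i c₁ c₂ (a.2, -a.1)) = tw j c₁' c₂' (b.2, -b.1) := by
  have h1 : x * slot hf i ρ = slot hf j ρ' * x := mul_inv_eq_iff_eq_mul.1 h
  have happ : ∀ v, (x : Vt F 4 (1 + 1) ≃ₗ[F] Vt F 4 (1 + 1))
      ((slot hf i ρ : Vt F 4 (1 + 1) ≃ₗ[F] Vt F 4 (1 + 1)) v) =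
      (slot hf j ρ' : Vt F 4 (1 + 1) ≃ₗ[F] Vt F 4 (1 + 1)) ((x : Vt F 4 (1 + 1) ≃ₗ[F] Vt F 4 (1 + 1)) v) :=
    fun v => congrArg (fun g : OQ (qT f (1 + 1)) => (g : Vt F 4 (1 + 1) ≃ₗ[F] Vt F 4 (1 + 1)) v) h1
  obtain ⟨b, hb⟩ := T'.exists_tw hf j (v := (x : Vt F 4 (1 + 1) ≃ₗ[F] Vt F 4 (1 + 1)) (tw i c₁ c₂ a)) (by
    have h2 := T.sq_tw hf i a
    rw [map_mul, Subgroup.coe_mul, LinearEquiv.mul_apply] at h2
    rw [map_mul, Subgroup.coe_mul, LinearEquiv.mul_apply, ← happ, ← happ, h2, map_neg])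
  exact ⟨b, hb.symm, by rw [← T.tw_turn hf, happ, ← hb, T'.tw_turn hf]⟩

theorem comm_conj_eq (hf : SymForm f) {g : OQ (qT f (1 + 1))} {j : Fin (1 + 1)}
    (h : Commute g (slot hf j ρ)) : g * slot hf j ρ * g⁻¹ = slot hf j ρ := mul_inv_eq_of_eq_mul h.eq

/-- A standard element maps a pure tensor over the plane to a pair of dependent vectors. -/
theorem std_dep (hf : SymForm f) (T : Turn f c₁ c₂ ρ) {g : OQ (qT f (1 + 1))} (hg : IsStd g) {j : Fin (1 + 1)}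
    {d u v : Ud F 4} (h : (g : Vt F 4 (1 + 1) ≃ₗ[F] Vt F 4 (1 + 1)) (tw j c₁ c₂ (d, 0)) = tw j c₁ c₂ (u, v)) :
    ∃ (r s : F) (w : Ud F 4), u = r • w ∧ v = s • w := by
  obtain ⟨π, gs, e⟩ := hg
  rw [show tw j c₁ c₂ (d, 0) = pvec (j.insertNth c₁ fun _ => d) by
    rw [tw_apply, map_zero, map_zero, add_zero, eta_pvec, Tm_pvec], e] at h
  generalize (fun l => gs l ((j.insertNth c₁ fun _ => d : Fin (1 + 1) → Ud F 4) (π⁻¹ l))) = ξ at h
  rw [pvec_eq_Tm j] at h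
  refine ⟨f (ξ j) c₁, f (ξ j) c₂, kap (pvec fun m => ξ (j.succAbove m)), ?_, ?_⟩
  · refine sub_eq_zero.1 (hf.nd.1 _ fun q => ?_)
    have h1 := congrArg (fun v => frm f (1 + 1) v (Tm j c₁ (eta q))) h
    rw [← eta_kap (pvec fun m => ξ (j.succAbove m))] at h1
    simp [tw_apply, frm_Tm hf, frm_eta, T.n1, T.o' hf] at h1
    simp [h1]
  · refine sub_eq_zero.1 (hf.nd.1 _ fun q => ?_)
    have h1 := congrArg (fun v => frm f (1 + 1) v (Tm j c₂ (eta q))) h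
    rw [← eta_kap (pvec fun m => ξ (j.succAbove m))] at h1
    simp [tw_apply, frm_Tm hf, frm_eta, T.n2, T.o] at h1
    simp [h1]

end Turn

end CfsgLib.Geo.OrthWreath
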