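/-
Two factors of dimension four over three scalars: an element carrying an isotropic point of the pairs over the
plane of a quarter turn to a pair of dependent vectors is standard.
-/
import Cfsg.Agent.Lib.Geo.OrthWreath.Four.Pairs
import Cfsg.Agent.Lib.Geo.OrthWreath.Four.Class
import Mathlib.GroupTheory.Sylow

set_option autoImplicit false
set_option linter.unusedSectionVars false

namespace CfsgLib.Geo.OrthWreath

open CfsgLib.Classical CfsgLib.Classical.Quad Module
open CfsgLib.Geo.MixTensor (SymForm)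
open CfsgLib.Geo.TensorWreath (pvec)
open LinearMap (BilinForm)

variable {F : Type*} [Field F] [Finite F] {f : BilinForm F (Ud F 4)} {hf : SymForm f}

/-- The radical of an isotropic point of the pairs: the elements commuting with the turn which fix the pairs over
the point and move the pairs orthogonal to it only along it. -/
def radGrp (hf : SymForm f) (X : Subgroup (OQ (qT f (1 + 1)))) (j : Fin (1 + 1)) (c₁ c₂ : Ud F 4) (ρ : OQ (qU f))
    (d : Ud F 4) : Subgroup (OQ (qT f (1 + 1))) where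
  carrier := {g | g ∈ X ∧ Commute g (slot hf j ρ) ∧
    (∀ r s : F, (g : Vt F 4 (1 + 1) ≃ₗ[F] Vt F 4 (1 + 1)) (tw j c₁ c₂ (r • d, s • d)) = tw j c₁ c₂ (r • d, s • d)) ∧
    ∀ a : Ud F 4 × Ud F 4, f d a.1 = 0 → f d a.2 = 0 → ∃ r s : F,
      (g : Vt F 4 (1 + 1) ≃ₗ[F] Vt F 4 (1 + 1)) (tw j c₁ c₂ a) = tw j c₁ c₂ a + tw j c₁ c₂ (r • d, s • d)}
  one_mem' := ⟨X.one_mem, Commute.one_left _, fun r s => rfl, fun a _ _ => ⟨0, 0, by
    rw [zero_smul, show ((0 : Ud F 4), (0 : Ud F 4)) = 0 from rfl, map_zero, add_zero]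
    rfl⟩⟩
  mul_mem' := by
    rintro g h ⟨hg, gc, gf, gs⟩ ⟨hh, hc, hfix, hs⟩
    refine ⟨X.mul_mem hg hh, gc.mul_left hc, fun r s => ?_, fun a a1 a2 => ?_⟩
    · rw [Subgroup.coe_mul, LinearEquiv.mul_apply, hfix, gf]
    · obtain ⟨r, s, e⟩ := hs a a1 a2
      obtain ⟨r', s', e'⟩ := gs a a1 a2
      refine ⟨r' + r, s' + s, ?_⟩
      rw [Subgroup.coe_mul, LinearEquiv.mul_apply, e, map_add, gf, e', add_assoc, ← map_add, add_smul, add_smul]
      rfl
  inv_mem' := by
    rintro g ⟨hg, gc, gf, gs⟩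
    refine ⟨X.inv_mem hg, gc.inv_left, fun r s => ?_, fun a a1 a2 => ?_⟩
    · rw [Subgroup.coe_inv, LinearEquiv.coe_inv, LinearEquiv.symm_apply_eq, gf]
    · obtain ⟨r, s, e⟩ := gs a a1 a2
      refine ⟨-r, -s, ?_⟩
      rw [Subgroup.coe_inv, LinearEquiv.coe_inv, LinearEquiv.symm_apply_eq, map_add, gf, e, add_assoc, ← map_add]
      simp [show ((0 : Ud F 4), (0 : Ud F 4)) = 0 from rfl]

namespace EvenCtx

variable {X : Subgroup (OQ (qT f (1 + 1)))} (C : EvenCtx hf X)
include C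

variable {c₁ c₂ : Ud F 4} {ρ : OQ (qU f)} {j : Fin (1 + 1)} {d : Ud F 4}

/-- The elements of the group fixing every pair belong to one factor. -/
theorem pairs_fix (T : Turn f c₁ c₂ ρ) {g : OQ (qT f (1 + 1))} (hg : g ∈ X)
    (h : ∀ a, (g : Vt F 4 (1 + 1) ≃ₗ[F] Vt F 4 (1 + 1)) (tw j c₁ c₂ a) = tw j c₁ c₂ a) :
    ∃ u, g = slot hf j u := by
  obtain ⟨u, hu, -⟩ := C.fix_slot_four (i := j) (c := c₁) (by rw [T.n1]; exact one_ne_zero) hg fun w => by
    have h1 := h (kap w, 0)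
    simpa [tw_apply, eta_kap] using h1
  exact ⟨u, hu⟩

/-- **The radical of an isotropic point consists of standard elements.** -/
theorem radGrp_std (h3 : Nat.card F = 3) (T : Turn f c₁ c₂ ρ) (hd0 : d ≠ 0) (hd : f d d = 0)
    {g : OQ (qT f (1 + 1))} (hg : g ∈ radGrp hf X j c₁ c₂ ρ d) : IsStd g := by
  classical
  haveI := char_three h3
  haveI : Fact (Nat.Prime 3) := ⟨Nat.prime_three⟩
  haveI := finite_el hf (t := 1 + 1)
  have h30 := three_zero h3
  have thin := C.toCore.thin rfl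
  set R := radGrp hf X j c₁ c₂ ρ d
  obtain ⟨j', hj'⟩ : ∃ j' : Fin (1 + 1), j' ≠ j := exists_ne j
  -- every pair
  have hall : ∀ g ∈ R, ∀ a, ∃ b, f d b.1 = 0 ∧ f d b.2 = 0 ∧
      (g : Vt F 4 (1 + 1) ≃ₗ[F] Vt F 4 (1 + 1)) (tw j c₁ c₂ a) = tw j c₁ c₂ a + tw j c₁ c₂ b := by
    rintro g ⟨hgX, gc, gf, gs⟩ a
    obtain ⟨b, hb, -⟩ := T.image hf T (x := g) (i := j) (j := j) (Turn.comm_conj_eq hf gc) a
    refine ⟨b - a, ?_, ?_, by rw [hb, map_sub, add_sub_cancel]⟩
    · have h1 := map_frm hf g (tw j c₁ c₂ (((1 : F) • d, (0 : F) • d))) (tw j c₁ c₂ a)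
      rw [gf, hb, T.frm_tw hf, T.frm_tw hf] at h1
      simp at h1
      simp [h1]
    · have h1 := map_frm hf g (tw j c₁ c₂ (((0 : F) • d, (1 : F) • d))) (tw j c₁ c₂ a)
      rw [gf, hb, T.frm_tw hf, T.frm_tw hf] at h1
      simp at h1
      simp [h1]
  -- the elements fixing every pair
  let K : Subgroup R :=
    { carrier := {g : R | ∀ a, ((g : OQ (qT f (1 + 1))) : Vt F 4 (1 + 1) ≃ₗ[F] Vt F 4 (1 + 1)) (tw j c₁ c₂ a) = tw j c₁ c₂ a}
      one_mem' := fun a => rfl
      mul_mem' := fun {g h} hg hh a => by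
        rw [Subgroup.coe_mul, Subgroup.coe_mul, LinearEquiv.mul_apply, hh, hg]
      inv_mem' := fun {g} hg a => by
        rw [Subgroup.coe_inv, Subgroup.coe_inv, LinearEquiv.coe_inv, LinearEquiv.symm_apply_eq, hg] }
  haveI hK : K.Normal := ⟨fun k hk g a => by
    obtain ⟨b, -, -, hb⟩ := hall _ (g⁻¹).2 a
    rw [← map_add] at hb
    rw [Subgroup.coe_mul, Subgroup.coe_mul, Subgroup.coe_mul, Subgroup.coe_mul, LinearEquiv.mul_apply,
      LinearEquiv.mul_apply, hb, hk, ← hb, ← LinearEquiv.mul_apply, ← Subgroup.coe_mul, ← Subgroup.coe_mul,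
      mul_inv_cancel]
    rfl⟩
  have hcube : ∀ g : R, g ^ 3 ∈ K := fun g a => by
    obtain ⟨b, b1, b2, e1⟩ := hall g g.2 a
    obtain ⟨r, s, e2⟩ := g.2.2.2.2 b b1 b2
    have e3 := g.2.2.2.1 r s
    rw [pow_succ, pow_succ, pow_one]
    simp only [Subgroup.coe_mul, LinearEquiv.mul_apply, e1, e2, e3, map_add]
    have h4 : tw j c₁ c₂ b + tw j c₁ c₂ b + tw j c₁ c₂ b = 0 := by
      rw [show tw j c₁ c₂ b + tw j c₁ c₂ b + tw j c₁ c₂ b = (3 : F) • tw j c₁ c₂ b by module, h30, zero_smul]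
    have h5 : tw j c₁ c₂ (r • d, s • d) + tw j c₁ c₂ (r • d, s • d) + tw j c₁ c₂ (r • d, s • d) = 0 := by
      rw [show tw j c₁ c₂ (r • d, s • d) + tw j c₁ c₂ (r • d, s • d) + tw j c₁ c₂ (r • d, s • d) =
        (3 : F) • tw j c₁ c₂ (r • d, s • d) by module, h30, zero_smul]
    linear_combination (norm := abel) h4 + h5
  have hKstd : ∀ g ∈ K, IsStd (g : OQ (qT f (1 + 1))) := fun g hg => by
    obtain ⟨u, hu⟩ := C.pairs_fix T g.2.1 hg
    rw [hu]
    exact isStd_slot hf j u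
  -- the Siegel elements of the point
  let U : Subgroup R :=
    { carrier := {g : R | ∃ (z : Ud F 4) (hz : f d z = 0), (g : OQ (qT f (1 + 1))) = slot hf j' (sU hf hd hz)}
      one_mem' := ⟨0, map_zero _, by rw [sU_zero hf hd, map_one]; rfl⟩
      mul_mem' := by
        rintro g h ⟨z, hz, eg⟩ ⟨z', hz', eh⟩
        exact ⟨z + z', by rw [map_add, hz, hz', add_zero], by rw [Subgroup.coe_mul, eg, eh, ← map_mul, sU_add]⟩
      inv_mem' := by
        rintro g ⟨z, hz, eg⟩
        exact ⟨-z, by rw [map_neg, hz, neg_zero], by rw [Subgroup.coe_inv, eg, ← map_inv, sU_inv]⟩ }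
  have hUstd : ∀ g ∈ U, IsStd (g : OQ (qT f (1 + 1))) := by
    rintro g ⟨z, hz, e⟩
    rw [e]
    exact isStd_slot hf j' _
  have hσR : ∀ {z : Ud F 4} (hz : f d z = 0), slot hf j' (sU hf hd hz) ∈ R := fun {z} hz => by
    refine ⟨C.slot_sU_X j' hd hz, slot_comm hf hj' _ _, fun r s => ?_, fun a a1 a2 => ⟨-f z a.1, -f z a.2, ?_⟩⟩
    · rw [slot_other_tw hf hj', map_smul, map_smul, sU_self]
    · rw [slot_other_tw hf hj', ← map_add]
      refine congrArg _ (Prod.ext ?_ ?_) <;> simp [sU_apply, a1, a2, sub_eq_add_neg]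
  have hUp : IsPGroup 3 U := by
    rintro ⟨g, z, hz, e⟩
    refine ⟨1, Subtype.ext (Subtype.ext ?_)⟩
    simp only [pow_one, SubmonoidClass.coe_pow, OneMemClass.coe_one, e]
    rw [← map_pow, sU_pow, ← map_one (slot hf j')]
    congr 1
    rw [← sU_zero hf hd]
    exact qU_ext hf fun q => by simp [sU_apply, h30]
  obtain ⟨S, hUS⟩ := hUp.exists_le_sylow
  have hSU : (S : Subgroup R) = U := by
    by_contra hne
    haveI : Group.IsNilpotent (S : Subgroup R) := S.isPGroup'.isNilpotent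
    have hlt : U.subgroupOf S < ⊤ := lt_top_iff_ne_top.2 fun e => hne (le_antisymm (Subgroup.subgroupOf_eq_top.1 e) hUS)
    obtain ⟨n, hn, hnU⟩ := SetLike.exists_of_lt (normalizerCondition_of_isNilpotent _ hlt)
    refine hnU (Subgroup.mem_subgroupOf.2 ?_)
    obtain ⟨z, z', hdz, -, haniso⟩ : ∃ z z', f d z = 0 ∧ f z z' = 0 ∧ f z z ≠ 0 := by
      obtain ⟨w, hw, hww⟩ := exists_perp_aniso hf (by norm_num) hd0 hd
      exact ⟨w, 0, hw, map_zero _, hww⟩
    let σ : R := ⟨slot hf j' (sU hf hd hdz), hσR hdz⟩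
    have hσS : σ ∈ (S : Subgroup R) := hUS ⟨z, hdz, rfl⟩
    obtain ⟨z₁, hz₁, e₁⟩ : (n : R) * σ * (n : R)⁻¹ ∈ U := by
      have := (Subgroup.mem_normalizer_iff.1 hn ⟨σ, hσS⟩).1 (Subgroup.mem_subgroupOf.2 ⟨z, hdz, rfl⟩)
      simpa [Subgroup.mem_subgroupOf] using this
    obtain ⟨hnX, hnc, hnf, -⟩ := (n : R).2
    set m : OQ (qT f (1 + 1)) := ((n : R) : OQ (qT f (1 + 1)))
    have hms : IsStd m := C.conj_std hnX hd0 hd hdz haniso (j := j') (v := sU hf hd hz₁) (by
      have := e₁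
      simpa [σ] using this)
    -- the cube
    obtain ⟨k, hk⟩ := S.isPGroup' n
    obtain ⟨u, hu⟩ := C.pairs_fix T (X.pow_mem hnX 3) (fun a => by
      have := hcube (n : R) a
      simpa using this)
    have huc : Commute u ρ := slot_injective hf (by norm_num) j (by
      rw [map_mul, map_mul, ← hu]; exact (hnc.pow_left 3).eq)
    have hu1 : u = 1 := by
      have hk' : u ^ 3 ^ k = 1 := slot_injective hf (by norm_num) j (by
        rw [map_pow, map_one, ← hu, ← pow_mul, mul_comm, pow_mul]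
        have h1 := congrArg (fun q : (S : Subgroup R) => ((q : R) : OQ (qT f (1 + 1)))) hk
        simp only [SubmonoidClass.coe_pow, OneMemClass.coe_one] at h1
        rw [h1, one_pow])
      have aux : ∀ (k : ℕ) (a : OQ (qU f)), a ^ 3 ^ k = 1 → Commute a ρ → a = 1 := by
        intro k
        induction k with
        | zero => intro a ha _; simpa using ha
        | succ k ih =>
          intro a ha hac
          exact T.three_eq_one hf thin h3 (ih (a ^ 3) (by rw [← pow_mul, ← pow_succ', ha]) (hac.pow_left 3)) hac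
      exact aux k u hk' huc
    rw [hu1, map_one] at hu
    obtain ⟨w, hw, hwp⟩ := std_normal_p hf hms hu
    obtain ⟨l, a, b, hl, hab, e⟩ := pair_at hf (w 0) (w 1) j
    have hl' : l = j' := by
      rcases fin_two_cases l with rfl | rfl <;> rcases fin_two_cases j' with rfl | rfl <;>
        rcases fin_two_cases j with rfl | rfl <;> first | rfl | exact absurd rfl hl | exact absurd rfl hj'
    subst hl'
    have hap : a ^ 3 = 1 ∧ b ^ 3 = 1 := by
      rcases hab with ⟨rfl, rfl⟩ | ⟨rfl, rfl⟩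
      · exact ⟨hwp 0, hwp 1⟩
      · exact ⟨hwp 1, hwp 0⟩
    have hac : Commute a ρ := slot_injective hf (by norm_num) j (by
      rw [map_mul, map_mul]
      have h1 : Commute (slot hf j a * slot hf l b) (slot hf j ρ) := (hw.trans e) ▸ hnc
      have h2 := h1.mul_left (slot_comm hf hl b ρ).inv_left
      rw [mul_inv_cancel_right] at h2
      exact h2.eq)
    have ha1 := T.three_eq_one hf thin h3 hap.1 hac
    have hme : m = slot hf l b := by rw [hw, e, ha1, map_one, one_mul]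
    rcases OrthTensorFour.one_or_sv hf thin (p := 3) (A := lm b) (fun x y => map_f hf b x y)
      (by
        have hpow : ∀ i : ℕ, lm (b ^ i) = lm b ^ i := fun i => by
          induction i with
          | zero => rfl
          | succ i ih => rw [pow_succ, pow_succ, lm_mul, ih]
        rw [← hpow, hap.2, lm_one]) with hb | ⟨d₂, z₂, hd₂0, hd₂, hdz₂, hz₂, hA⟩
    · refine ⟨0, map_zero _, ?_⟩
      rw [sU_zero hf hd, map_one]
      show m = 1
      rw [hme, show b = 1 from qU_ext hf fun q => LinearMap.congr_fun hb q, map_one]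
    · have hb : b = sU hf hd₂ hdz₂ := qU_ext hf hA
      have hbd : (b : Ud F 4 ≃ₗ[F] Ud F 4) d = d := by
        have h1 := hnf 1 0
        rw [hme, slot_other_tw hf hl] at h1
        simpa using congrArg Prod.fst (T.tw_inj hf j h1)
      obtain ⟨q1, q2⟩ := (OrthTensorFour.sv_fix_iff hf hd₂ hd₂0 hdz₂ hz₂ d).1 (by
        rw [hb] at hbd; rwa [sU_apply, ← OrthTensor.sv_apply] at hbd)
      obtain ⟨r, hr⟩ := Submodule.mem_span_singleton.1 (thin d₂ d hd₂ hd₂0 q1 hd)
      have hr0 : r ≠ 0 := fun h => hd0 (by rw [← hr, h, zero_smul])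
      refine ⟨r⁻¹ • z₂, by rw [← hr, map_smul, map_smul, LinearMap.smul_apply, hdz₂]; simp, ?_⟩
      show m = _
      rw [hme, hb]
      congr 1
      refine qU_ext hf fun q => ?_
      simp only [sU_apply, ← hr, map_smul, LinearMap.smul_apply, smul_eq_mul, smul_smul]
      match_scalars <;> field_simp
  have hQ : U ⊔ K = ⊤ := by
    rw [← Subgroup.index_eq_one]
    have h1 : (U ⊔ K).index ∣ U.index := Subgroup.index_dvd_of_le le_sup_left
    have h2 : (U ⊔ K).index ∣ K.index := Subgroup.index_dvd_of_le le_sup_right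
    have hp : IsPGroup 3 (R ⧸ K) := fun q => by
      obtain ⟨g, rfl⟩ := QuotientGroup.mk'_surjective K q
      exact ⟨1, by rw [pow_one, ← map_pow]; exact (QuotientGroup.eq_one_iff _).2 (hcube g)⟩
    obtain ⟨k, hk⟩ := IsPGroup.iff_card.1 hp
    rw [Subgroup.index_eq_card K, hk] at h2
    obtain ⟨l, -, hl⟩ := (Nat.dvd_prime_pow Nat.prime_three).1 h2
    rcases l with _ | l
    · simpa using hl
    · exfalso
      have h5 := S.not_dvd_index
      rw [hSU] at h5
      exact h5 ((dvd_pow_self 3 l.succ_ne_zero).trans (hl ▸ h1))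
  have hle : U ⊔ K ≤ C.toCore.stdIn.comap R.subtype :=
    sup_le (fun g hg => ⟨g.2.1, hUstd g hg⟩) fun g hg => ⟨g.2.1, hKstd g hg⟩
  exact (hle (hQ ▸ Subgroup.mem_top (⟨g, hg⟩ : R))).2

/-- **An element carrying an isotropic point of one turn to a pair of dependent vectors is standard.** -/
theorem std_of_dep (h3 : Nat.card F = 3) {x : OQ (qT f (1 + 1))} (hx : x ∈ X) {i : Fin (1 + 1)} {c₁' c₂' : Ud F 4}
    {ρ' : OQ (qU f)} (T : Turn f c₁ c₂ ρ) (T' : Turn f c₁' c₂' ρ') (h : x * slot hf i ρ * x⁻¹ = slot hf j ρ')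
    (hd0 : d ≠ 0) (hd : f d d = 0) {r s : F} {w : Ud F 4}
    (he : (x : Vt F 4 (1 + 1) ≃ₗ[F] Vt F 4 (1 + 1)) (tw i c₁ c₂ (d, 0)) = tw j c₁' c₂' (r • w, s • w)) :
    IsStd x := by
  obtain ⟨i', hi'⟩ : ∃ i' : Fin (1 + 1), i' ≠ i := exists_ne i
  set X' := (x : Vt F 4 (1 + 1) ≃ₗ[F] Vt F 4 (1 + 1))
  obtain ⟨b, hb, hb'⟩ := T.image hf T' h (d, 0)
  rw [he] at hb
  obtain rfl := T'.tw_inj hf j hb
  simp only at hb'
  have hne : ¬ (r = 0 ∧ s = 0) ∧ w ≠ 0 := by
    constructor <;> intro e0 <;>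
    · refine hd0 (congrArg Prod.fst (T.tw_inj hf i (a := (d, 0)) (b := 0) ?_))
      refine X'.injective ?_
      rw [map_zero, map_zero, he]
      first
        | (rw [e0.1, e0.2, zero_smul]; exact map_zero _)
        | (rw [e0, smul_zero, smul_zero]; exact map_zero _)
  have hn := sq_add_sq_ne h3 hne.1
  have hw : f w w = 0 := by
    have h1 := map_frm hf x (tw i c₁ c₂ (d, 0)) (tw i c₁ c₂ (d, 0))
    rw [he, T'.frm_tw hf, T.frm_tw hf] at h1
    simp [hd] at h1
    exact (mul_eq_zero.1 (show (r * r + s * s) * f w w = 0 by linear_combination h1)).resolve_left hn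
  set n := r * r + s * s
  -- the images of the pairs over the point
  have him : ∀ p q : F, X' (tw i c₁ c₂ (p • d, q • d)) = tw j c₁' c₂' ((p * r - q * s) • w, (p * s + q * r) • w) := by
    intro p q
    have e : ((p • d, q • d) : Ud F 4 × Ud F 4) = p • (d, (0 : Ud F 4)) - q • ((0 : Ud F 4), -d) := by simp
    rw [e, map_sub, map_smul, map_smul, map_sub, map_smul, map_smul, he, hb', ← map_smul, ← map_smul, ← map_sub]
    congr 1
    simp [smul_smul, sub_smul, add_smul]
  obtain ⟨z, hdz, hzz⟩ := exists_perp_aniso hf (by norm_num) hd0 hd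
  set σ := slot hf i' (sU hf hd hdz)
  refine C.std_of_siegel_conj (i := i') hx hd0 hd hdz hzz (C.radGrp_std (j := j) h3 T' hne.2 hw ?_)
  have hconj : ∀ v, ((x * σ * x⁻¹ : OQ (qT f (1 + 1))) : Vt F 4 (1 + 1) ≃ₗ[F] Vt F 4 (1 + 1)) (X' v) =
      X' ((σ : Vt F 4 (1 + 1) ≃ₗ[F] Vt F 4 (1 + 1)) v) := fun v => by
    simp only [Subgroup.coe_mul, LinearEquiv.mul_apply, Subgroup.coe_inv, LinearEquiv.coe_inv, X']
    rw [LinearEquiv.symm_apply_apply]
  refine ⟨X.mul_mem (X.mul_mem hx (C.slot_sU_X i' hd hdz)) (X.inv_mem hx), ?_, fun p q => ?_, fun a a1 a2 => ?_⟩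
  · rw [← h]
    exact by
      show _ = _
      calc x * σ * x⁻¹ * (x * slot hf i ρ * x⁻¹) = x * (σ * slot hf i ρ) * x⁻¹ := by group
        _ = x * (slot hf i ρ * σ) * x⁻¹ := by rw [(slot_comm hf hi' _ _).eq]
        _ = _ := by simp only [σ]; group
  · have e : tw j c₁' c₂' (p • w, q • w) =
        X' (tw i c₁ c₂ (((p * r + q * s) / n) • d, ((q * r - p * s) / n) • d)) := by
      rw [him]
      congr 1
      refine Prod.ext ?_ ?_ <;>
      · show _ • w = _ • w
        congr 1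
        field_simp
        simp only [n]
        ring
    rw [e, hconj, slot_other_tw hf hi']
    congr 2
    simp [map_smul, sU_self]
  · obtain ⟨b, hb, -⟩ := T'.image hf T (x := x⁻¹) (i := j) (j := i) (by rw [← h]; group) a
    have hab : X' (tw i c₁ c₂ b) = tw j c₁' c₂' a := by
      rw [← hb, Subgroup.coe_inv, LinearEquiv.coe_inv]
      exact X'.apply_symm_apply _
    have hpair : ∀ p q : F, p * f d b.1 + q * f d b.2 = (p * r - q * s) * f w a.1 + (p * s + q * r) * f w a.2 := by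
      intro p q
      have h1 := map_frm hf x (tw i c₁ c₂ (p • d, q • d)) (tw i c₁ c₂ b)
      rw [him, hab, T'.frm_tw hf, T.frm_tw hf] at h1
      simp at h1
      exact h1.symm
    have b1 : f d b.1 = 0 := by simpa [a1, a2] using hpair 1 0
    have b2 : f d b.2 = 0 := by simpa [a1, a2] using hpair 0 1
    refine ⟨(-f z b.1) * r - (-f z b.2) * s, (-f z b.1) * s + (-f z b.2) * r, ?_⟩
    rw [← hab, hconj, slot_other_tw hf hi', ← him, ← map_add, ← map_add]
    congr 2
    refine Prod.ext ?_ ?_ <;> simp [sU_apply, b1, b2, sub_eq_add_neg]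

end EvenCtx

end CfsgLib.Geo.OrthWreath
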