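/-
Two factors of dimension four over three scalars: the elements carrying a quarter turn of one factor to one of
one factor are standard.
-/
import Cfsg.Agent.Lib.Geo.OrthWreath.Four.Rad
import Cfsg.Agent.Lib.Geo.OrthWreath.Four.Coord

set_option autoImplicit false
set_option linter.unusedSectionVars false

namespace CfsgLib.Geo.OrthWreath

open CfsgLib.Classical CfsgLib.Classical.Quad Module
open CfsgLib.Geo.MixTensor (SymForm)
open CfsgLib.Geo.TensorWreath (pvec)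
open LinearMap (BilinForm)

variable {F : Type*} [Field F] [Finite F] {f : BilinForm F (Ud F 4)} {hf : SymForm f}

/-- The conjugate of a Siegel element of the other factor, on the pairs. -/
theorem conj_tw {c₁ c₂ c₁' c₂' : Ud F 4} {ρ ρ' : OQ (qU f)} (hf : SymForm f) (T : Turn f c₁ c₂ ρ)
    (T' : Turn f c₁' c₂' ρ') {x : OQ (qT f (1 + 1))} {i i' j : Fin (1 + 1)} (hi' : i' ≠ i)
    (h : x * slot hf i ρ * x⁻¹ = slot hf j ρ') {d c : Ud F 4} (hd : f d d = 0) (hdc : f d c = 0)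
    {p w : Ud F 4 × Ud F 4}
    (hp : (x : Vt F 4 (1 + 1) ≃ₗ[F] Vt F 4 (1 + 1)) (tw i c₁ c₂ (d, 0)) = tw j c₁' c₂' p)
    (hw : (x : Vt F 4 (1 + 1) ≃ₗ[F] Vt F 4 (1 + 1)) (tw i c₁ c₂ (c, 0)) = tw j c₁' c₂' w) (a : Ud F 4 × Ud F 4) :
    ((x * slot hf i' (sU hf hd hdc) * x⁻¹ : OQ (qT f (1 + 1))) : Vt F 4 (1 + 1) ≃ₗ[F] Vt F 4 (1 + 1))
      (tw j c₁' c₂' a) =
    tw j c₁' c₂' (a + (f p.1 a.1 + f p.2 a.2) • w + (f p.2 a.1 - f p.1 a.2) • (w.2, -w.1)
      - (f w.1 a.1 + f w.2 a.2) • p - (f w.2 a.1 - f w.1 a.2) • (p.2, -p.1)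
      - ((f c c / 2) * (f p.1 a.1 + f p.2 a.2)) • p
      - ((f c c / 2) * (f p.2 a.1 - f p.1 a.2)) • (p.2, -p.1)) := by
  set X' := (x : Vt F 4 (1 + 1) ≃ₗ[F] Vt F 4 (1 + 1))
  obtain ⟨b, hb, -⟩ := T'.image hf T (x := x⁻¹) (i := j) (j := i) (by rw [← h]; group) a
  have hab : X' (tw i c₁ c₂ b) = tw j c₁' c₂' a := by
    rw [← hb, Subgroup.coe_inv, LinearEquiv.coe_inv]
    exact X'.apply_symm_apply _
  have hJ : ∀ {q : Ud F 4} {r : Ud F 4 × Ud F 4}, X' (tw i c₁ c₂ (q, 0)) = tw j c₁' c₂' r →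
      X' (tw i c₁ c₂ (0, -q)) = tw j c₁' c₂' (r.2, -r.1) := fun {q r} hq => by
    obtain ⟨r', h1, h2⟩ := T.image hf T' h (q, 0)
    rw [show (x : Vt F 4 (1 + 1) ≃ₗ[F] Vt F 4 (1 + 1)) (tw i c₁ c₂ (q, 0)) = _ from hq] at h1
    obtain rfl := T'.tw_inj hf j h1
    exact h2
  have hpair : ∀ {q : Ud F 4} {r : Ud F 4 × Ud F 4}, X' (tw i c₁ c₂ (q, 0)) = tw j c₁' c₂' r →
      f q b.1 = f r.1 a.1 + f r.2 a.2 ∧ f q b.2 = -(f r.2 a.1 - f r.1 a.2) := fun {q r} hq => by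
    have e1 := map_frm hf x (tw i c₁ c₂ (q, 0)) (tw i c₁ c₂ b)
    rw [show (x : Vt F 4 (1 + 1) ≃ₗ[F] Vt F 4 (1 + 1)) (tw i c₁ c₂ (q, 0)) = _ from hq, hab, T'.frm_tw hf,
      T.frm_tw hf] at e1
    have e2 := map_frm hf x (tw i c₁ c₂ (0, -q)) (tw i c₁ c₂ b)
    rw [show (x : Vt F 4 (1 + 1) ≃ₗ[F] Vt F 4 (1 + 1)) (tw i c₁ c₂ (0, -q)) = _ from hJ hq, hab, T'.frm_tw hf,
      T.frm_tw hf] at e2
    simp at e1 e2
    exact ⟨e1.symm, by linear_combination e2⟩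
  obtain ⟨p1, p2⟩ := hpair hp
  obtain ⟨w1, w2⟩ := hpair hw
  have e : ((sU hf hd hdc : Ud F 4 ≃ₗ[F] Ud F 4) b.1, (sU hf hd hdc : Ud F 4 ≃ₗ[F] Ud F 4) b.2) =
      b + f d b.1 • (c, (0 : Ud F 4)) - f d b.2 • ((0 : Ud F 4), -c)
        - f c b.1 • (d, (0 : Ud F 4)) + f c b.2 • ((0 : Ud F 4), -d)
        - (f c c / 2 * f d b.1) • (d, (0 : Ud F 4)) + (f c c / 2 * f d b.2) • ((0 : Ud F 4), -d) := by
    refine Prod.ext ?_ ?_ <;> simp [sU_apply] <;> abel
  conv_lhs => rw [← hab]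
  simp only [Subgroup.coe_mul, LinearEquiv.mul_apply, Subgroup.coe_inv, LinearEquiv.coe_inv, X']
  rw [LinearEquiv.symm_apply_apply, slot_other_tw hf hi', e]
  simp only [map_add, map_sub, map_smul]
  change X' _ + _ • X' _ - _ • X' _ - _ • X' _ + _ • X' _ - _ • X' _ + _ • X' _ = _
  rw [hab, hp, hw, hJ hp, hJ hw, p1, p2, w1, w2]
  module

namespace EvenCtx

variable {X : Subgroup (OQ (qT f (1 + 1)))} (C : EvenCtx hf X)
include C

variable {c₁ c₂ c₁' c₂' : Ud F 4} {ρ ρ' : OQ (qU f)} {i j : Fin (1 + 1)} {x : OQ (qT f (1 + 1))} {d : Ud F 4}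

/-- No isotropic point goes to a pair with a covered list. -/
theorem no_covered (h3 : Nat.card F = 3) (hx : x ∈ X) (T : Turn f c₁ c₂ ρ) (T' : Turn f c₁' c₂' ρ')
    (h : x * slot hf i ρ * x⁻¹ = slot hf j ρ') (hd0 : d ≠ 0) (hd : f d d = 0) (E : Basis4 f) {pm : M3.P}
    {l : List M3.Cand} (hl : M3.covered pm l = true)
    (hp : (x : Vt F 4 (1 + 1) ≃ₗ[F] Vt F 4 (1 + 1)) (tw i c₁ c₂ (d, 0)) = tw j c₁' c₂' (E.pair pm)) : False := by
  have h30 := three_zero h3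
  have h2 := hf.two
  obtain ⟨i', hi'⟩ : ∃ i' : Fin (1 + 1), i' ≠ i := exists_ne i
  obtain ⟨j', hj'⟩ : ∃ j' : Fin (1 + 1), j' ≠ j := exists_ne j
  -- a vector of norm one orthogonal to the point
  obtain ⟨c, hc, hdc⟩ : ∃ c, f c c = 1 ∧ f d c = 0 := by
    obtain ⟨e, he, hde⟩ := CfsgLib.Geo.OrthTensor.exists_iso_partner hf hd hd0
    have hed : f e d = 1 := by rw [hf.symm]; exact hde
    have a1 : f (d + e) (d + e) ≠ 0 := by simp [hd, he, hde, hed]; norm_num [h2]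
    have a2 : f (d - e) (d - e) ≠ 0 := by simp [hd, he, hde, hed]; norm_num [h2]
    obtain ⟨c, hc, gc⟩ := (orth_two hf a1 a2 (by simp [hd, he, hde, hed])).exists_norm hf (by norm_num)
      (one_ne_zero (α := F))
    refine ⟨c, hc, (mul_eq_zero.1 (show (2 : F) * f d c = 0 from ?_)).resolve_left h2⟩
    have b1 : f d c + f e c = 0 := by simpa using gc 0
    have b2 : f d c - f e c = 0 := by simpa using gc 1
    linear_combination b1 + b2
  obtain ⟨w, hw, -⟩ := T.image hf T' h (c, 0)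
  obtain ⟨⟨wu, hwu⟩, ⟨wv, hwv⟩⟩ := And.intro (E.vec_surj hf h3 w.1) (E.vec_surj hf h3 w.2)
  set wm : M3.P := ⟨wu, wv⟩
  obtain rfl : E.pair wm = w := Prod.ext hwu hwv
  -- the admissible coordinates
  obtain ⟨p', hp', hpJ⟩ := T.image hf T' h (d, 0)
  rw [hp] at hp'
  obtain rfl := T'.tw_inj hf j hp'
  have hdotP : ∀ a b : M3.P, f (E.pair a).1 (E.pair b).1 + f (E.pair a).2 (E.pair b).2 = tval (a.dot b) := fun a b => by
    simp only [M3.P.dot, tval_add h30, Basis4.pair, E.vec_dot h30]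
  have hturn : ∀ a : M3.P, ((E.pair a).2, -(E.pair a).1) = E.pair a.turn := fun a => by
    simp [Basis4.pair, M3.P.turn, E.vec_smul, tval]
  simp only at hpJ
  rw [hturn] at hpJ
  have hadm : M3.adm pm wm = true := by
    have e1 := map_frm hf x (tw i c₁ c₂ (d, 0)) (tw i c₁ c₂ (c, 0))
    rw [hp, hw, T'.frm_tw hf, T.frm_tw hf, hdotP] at e1
    have e2 := map_frm hf x (tw i c₁ c₂ (0, -d)) (tw i c₁ c₂ (c, 0))
    rw [hpJ, hw, T'.frm_tw hf, T.frm_tw hf, hdotP] at e2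
    have e3 := map_frm hf x (tw i c₁ c₂ (c, 0)) (tw i c₁ c₂ (c, 0))
    rw [hw, T'.frm_tw hf, T.frm_tw hf, hdotP] at e3
    simp [hdc] at e1 e2
    simp [hc] at e3
    simp only [M3.adm, Bool.and_eq_true, T_eq_iff]
    exact ⟨⟨tval_inj h2 e1, tval_inj h2 e2⟩, tval_inj h2 e3⟩
  obtain ⟨cd, hcd⟩ := M3.covered_eq hl wm hadm
  simp only [M3.Cand.good, Bool.and_eq_true, Bool.not_eq_true'] at hcd
  obtain ⟨⟨⟨⟨⟨⟨⟨q1, q2⟩, q3⟩, q4⟩, q5⟩, q6⟩, q7⟩, q8⟩ := hcd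
  rw [T_eq_iff] at q1 q2 q3 q4
  have hne : ∀ {u : M3.Q}, u.eq M3.Q.zero = false → E.vec u ≠ 0 := fun {u} hu e => by
    rw [← E.vec_zero] at e
    rw [E.vec_inj hf e, (Q_eq_iff _ _).2 rfl] at hu
    exact Bool.noConfusion hu
  have hsd : f (E.vec cd.d) (E.vec cd.d) = 0 := by rw [E.vec_dot h30, q1]; rfl
  have hsz : f (E.vec cd.d) (E.vec cd.z) = 0 := by rw [E.vec_dot h30, q2]; rfl
  have hia : f (E.vec cd.a) (E.vec cd.a) = 0 := by rw [E.vec_dot h30, q3]; rfl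
  -- the transvection in coordinates
  have hY : ∀ (c' : Ud F 4) (hdc' : f d c' = 0) (wm' : M3.P), f c' c' = 1 →
      (x : Vt F 4 (1 + 1) ≃ₗ[F] Vt F 4 (1 + 1)) (tw i c₁ c₂ (c', 0)) = tw j c₁' c₂' (E.pair wm') →
      ∀ a : M3.P, ((x * slot hf i' (sU hf hd hdc') * x⁻¹ : OQ (qT f (1 + 1))) : Vt F 4 (1 + 1) ≃ₗ[F] Vt F 4 (1 + 1))
        (tw j c₁' c₂' (E.pair a)) = tw j c₁' c₂' (E.pair (M3.P.tv pm wm' a)) := by
    intro c' hdc' wm' hc' hw' a
    rw [conj_tw hf T T' hi' h hd hdc' hp hw' (E.pair a)]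
    congr 1
    have hnorm : (tval (wm'.dot wm') : F) = 1 := by
      have e3 := map_frm hf x (tw i c₁ c₂ (c', 0)) (tw i c₁ c₂ (c', 0))
      rw [hw', T'.frm_tw hf, T.frm_tw hf, hdotP] at e3
      simpa [hc'] using e3
    have hhalf : ∀ r : F, -(f c' c' / 2 * r) = r := fun r => by
      rw [hc']
      field_simp
      linear_combination -r * h30
    have hsub : ∀ u v : M3.P, f (E.pair u).2 (E.pair v).1 - f (E.pair u).1 (E.pair v).2 = tval (u.turn.dot v) :=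
      fun u v => by
        rw [← hdotP, ← hturn, map_neg, LinearMap.neg_apply, sub_eq_add_neg]
    have hPadd : ∀ u v : M3.P, E.pair (u.add v) = E.pair u + E.pair v := fun u v => by
      simp [Basis4.pair, M3.P.add, E.vec_add h30]
    have hPsmul : ∀ (r : M3.T) (u : M3.P), E.pair (M3.P.smul r u) = (tval r : F) • E.pair u := fun r u => by
      simp [Basis4.pair, M3.P.smul, E.vec_smul]
    simp only [M3.P.tv, hPadd, hPsmul, tval_neg, tval_mul, hnorm, one_mul, hdotP, hsub, hturn]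
    have k1 := hhalf (tval (pm.dot a))
    have k2 := hhalf (tval (pm.turn.dot a))
    rw [neg_eq_iff_eq_neg] at k1 k2
    rw [k1, k2]
    module
  set s := slot hf j' (sU hf hsd hsz)
  have hs : ∀ a : M3.P, (s : Vt F 4 (1 + 1) ≃ₗ[F] Vt F 4 (1 + 1)) (tw j c₁' c₂' (E.pair a)) =
      tw j c₁' c₂' (E.pair (M3.P.sig cd.d cd.z a)) := fun a => by
    rw [slot_other_tw hf hj']
    simp [Basis4.pair, M3.P.sig, E.vec_sig hf h30 hsd hsz]
  -- the word
  obtain ⟨cc, hdcc, hcc, hwcc⟩ : ∃ (cc : Ud F 4) (_ : f d cc = 0), f cc cc = 1 ∧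
      (x : Vt F 4 (1 + 1) ≃ₗ[F] Vt F 4 (1 + 1)) (tw i c₁ c₂ (cc, 0)) =
        tw j c₁' c₂' (E.pair (bif cd.inv then M3.P.smul .t wm else wm)) := by
    cases cd.inv
    · exact ⟨c, hdc, hc, hw⟩
    · refine ⟨-c, by simp [hdc], by simp [hc], ?_⟩
      have e : E.pair (M3.P.smul .t wm) = -E.pair wm := by simp [Basis4.pair, M3.P.smul, E.vec_smul, tval]
      rw [cond_true, e, show ((-c, (0 : Ud F 4)) : Ud F 4 × Ud F 4) = -(c, (0 : Ud F 4)) by simp, map_neg, map_neg,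
        hw, map_neg]
  set y := x * slot hf i' (sU hf hd hdc) * x⁻¹
  set y₂ := x * slot hf i' (sU hf hd hdcc) * x⁻¹
  set g := y₂ * s * y
  have hgv : ∀ a : M3.P, (g : Vt F 4 (1 + 1) ≃ₗ[F] Vt F 4 (1 + 1)) (tw j c₁' c₂' (E.pair a)) =
      tw j c₁' c₂' (E.pair (cd.map pm wm a)) := fun a => by
    simp only [g, y, y₂, Subgroup.coe_mul, LinearEquiv.mul_apply]
    have e1 := hY c hdc wm hc hw a
    have e2 := hY cc hdcc _ hcc hwcc (M3.P.sig cd.d cd.z (M3.P.tv pm wm a))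
    simp only [Subgroup.coe_mul, LinearEquiv.mul_apply] at e1 e2
    rw [e1, hs, e2]
    rfl
  have hgX : g ∈ X := X.mul_mem (X.mul_mem (X.mul_mem (X.mul_mem hx (C.slot_sU_X i' hd hdcc)) (X.inv_mem hx))
    (C.slot_sU_X j' hsd hsz)) (X.mul_mem (X.mul_mem hx (C.slot_sU_X i' hd hdc)) (X.inv_mem hx))
  have hgc : Commute g (slot hf j ρ') := by
    have key : ∀ u, Commute (x * slot hf i' u * x⁻¹) (slot hf j ρ') := fun u => by
      show _ = _
      rw [← h]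
      calc x * slot hf i' u * x⁻¹ * (x * slot hf i ρ * x⁻¹) = x * (slot hf i' u * slot hf i ρ) * x⁻¹ := by group
        _ = x * (slot hf i ρ * slot hf i' u) * x⁻¹ := by rw [(slot_comm hf hi' _ _).eq]
        _ = _ := by group
    exact ((key _).mul_left (slot_comm hf hj' _ _)).mul_left (key _)
  obtain ⟨r, t, v, hrtv⟩ := E.pair_dep _ q7
  have hstd : IsStd g := C.std_of_dep h3 hgX T' T' (Turn.comm_conj_eq hf hgc) (hne (by simpa using q5)) hia (by
    have e1 := hgv ⟨cd.a, M3.Q.zero⟩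
    rw [hrtv, Basis4.pair, E.vec_zero] at e1
    exact e1)
  have e2 := hgv ⟨cd.b, M3.Q.zero⟩
  rw [Basis4.pair, E.vec_zero] at e2
  obtain ⟨r', t', v', hu, hv⟩ := T'.std_dep hf hstd (d := E.vec cd.b)
    (u := (E.pair (cd.map pm wm ⟨cd.b, M3.Q.zero⟩)).1) (v := (E.pair (cd.map pm wm ⟨cd.b, M3.Q.zero⟩)).2) e2
  rw [E.dep_of_pair hf h3 _ (r := r') (s := t') (w := v') (Prod.ext hu hv)] at q8
  exact Bool.noConfusion q8

/-- No isotropic point goes to independent vectors, in the three normal forms. -/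
theorem no_forms (h3 : Nat.card F = 3) (hx : x ∈ X) (T : Turn f c₁ c₂ ρ) (T' : Turn f c₁' c₂' ρ')
    (h : x * slot hf i ρ * x⁻¹ = slot hf j ρ') (hd0 : d ≠ 0) (hd : f d d = 0) {u v : Ud F 4}
    (hp : (x : Vt F 4 (1 + 1) ≃ₗ[F] Vt F 4 (1 + 1)) (tw i c₁ c₂ (d, 0)) = tw j c₁' c₂' (u, v))
    (hvv : f v v = -f u u) (hab : (f u u = 0 ∧ f u v = 1) ∨ (f u u = 1 ∧ f u v = 0) ∨ (f u u = 1 ∧ f u v = 1)) :
    False := by
  have thin := C.toCore.thin rfl
  have h30 := three_zero h3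
  have hvu : f v u = f u v := hf.symm _ _
  rcases hab with ⟨ha, hb⟩ | ⟨ha, hb⟩ | ⟨ha, hb⟩
  · obtain ⟨E, e1, e4⟩ := exists_basis_mixed hf thin h3 (a := v - u) (b := -(u + v))
      (by simp [ha, hb, hvu, hvv]; linear_combination -h30) (by simp [ha, hb, hvu, hvv]; linear_combination h30)
      (by simp [ha, hb, hvu, hvv])
    refine C.no_covered h3 hx T T' h hd0 hd E M3.covered_01 ?_
    rw [hp]
    congr 1
    refine Prod.ext ?_ ?_ <;> simp [Basis4.pair, Basis4.vec, M3.p01, tval, e1, e4]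
    · linear_combination (norm := module) (congrArg (fun r : F => r • u) h30)
    · linear_combination (norm := module) (congrArg (fun r : F => r • v) h30)
  · obtain ⟨E, e1, e4⟩ := exists_basis_mixed hf thin h3 (a := u) (b := v) ha (by rw [hvv, ha]) hb
    refine C.no_covered h3 hx T T' h hd0 hd E M3.covered_10 ?_
    rw [hp]
    congr 1
    refine Prod.ext ?_ ?_ <;> simp [Basis4.pair, Basis4.vec, M3.p10, tval, e1, e4]
  · obtain ⟨E, e1, e2⟩ := exists_basis_two hf thin h3 (a := u) (b := v - u) ha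
      (by simp [ha, hb, hvu, hvv]; linear_combination -h30) (by simp [ha, hb])
    refine C.no_covered h3 hx T T' h hd0 hd E M3.covered_11 ?_
    rw [hp]
    congr 1
    refine Prod.ext ?_ ?_ <;> simp [Basis4.pair, Basis4.vec, M3.p11, tval, e1, e2]

/-- **An element carrying a quarter turn to one of one factor is standard, for three scalars.** -/
theorem std_of_turn (h3 : Nat.card F = 3) (hx : x ∈ X) (T : Turn f c₁ c₂ ρ) (T' : Turn f c₁' c₂' ρ')
    (h : x * slot hf i ρ * x⁻¹ = slot hf j ρ') : IsStd x := by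
  have thin := C.toCore.thin rfl
  obtain ⟨d, z, z', hd0, hd, -, -, -⟩ := exists_plane_any hf (le_refl 4) C.toCore.thin
  obtain ⟨⟨u, v⟩, hp, -⟩ := T.image hf T' h (d, 0)
  by_cases hdep : ∃ (r s : F) (w : Ud F 4), u = r • w ∧ v = s • w
  · obtain ⟨r, s, w, rfl, rfl⟩ := hdep
    exact C.std_of_dep h3 hx T T' h hd0 hd hp
  exfalso
  have hvv : f v v = -f u u := by
    have e1 := map_frm hf x (tw i c₁ c₂ (d, 0)) (tw i c₁ c₂ (d, 0))
    rw [hp, T'.frm_tw hf, T.frm_tw hf] at e1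
    simp [hd] at e1
    linear_combination e1
  have hne : ¬ (f u u = 0 ∧ f u v = 0) := fun e => by
    by_cases hu : u = 0
    · exact hdep ⟨0, 1, v, by rw [hu, zero_smul], by rw [one_smul]⟩
    · obtain ⟨r, hr⟩ := Submodule.mem_span_singleton.1 (thin u v e.1 hu e.2 (by rw [hvv, e.1, neg_zero]))
      exact hdep ⟨1, r, u, by rw [one_smul], hr.symm⟩
  -- mirror
  have key : ∀ {c₁' c₂' u v : Ud F 4}, Turn f c₁' c₂' ρ' →
      (x : Vt F 4 (1 + 1) ≃ₗ[F] Vt F 4 (1 + 1)) (tw i c₁ c₂ (d, 0)) = tw j c₁' c₂' (u, v) →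
      f v v = -f u u → ¬ (f u u = 0 ∧ f u v = 0) → (f u u = 0 ∨ f u u = 1) → False := by
    intro a₁ a₂ u v T'' hp hvv hne ha
    by_cases hb : f u v = -1
    · have hpJ : (x : Vt F 4 (1 + 1) ≃ₗ[F] Vt F 4 (1 + 1)) (tw i c₁ c₂ (0, -d)) = tw j a₁ a₂ (v, -u) := by
        obtain ⟨r, h1, h2⟩ := T.image hf T'' h (d, 0)
        rw [hp] at h1
        obtain rfl := T''.tw_inj hf j h1
        exact h2
      have hswap : ∀ (l : Fin (1 + 1)) (a b p q : Ud F 4), tw l b a (q, p) = tw l a b (p, q) := fun l a b p q => by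
        simp [tw_apply, add_comm]
      refine C.no_forms h3 hx (T.swap hf) (T''.swap hf) (i := i) (j := j)
        (by rw [map_inv, map_inv, ← h]; group) hd0 hd (u := u) (v := -v) ?_ (by simp [hvv]) ?_
      · rw [hswap i c₁ c₂ 0 d, hswap j a₁ a₂ (-v) u, show ((0 : Ud F 4), d) = -((0 : Ud F 4), -d) by simp, map_neg, map_neg, hpJ, ← map_neg]
        simp
      · rcases ha with ha | ha
        · exact Or.inl ⟨ha, by simp [hb]⟩
        · exact Or.inr (Or.inr ⟨ha, by simp [hb]⟩)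
    · refine C.no_forms h3 hx T T'' h hd0 hd hp hvv ?_
      rcases three_cases h3 (f u v) with hb' | hb' | hb'
      · rcases ha with ha | ha
        · exact absurd ⟨ha, hb'⟩ hne
        · exact Or.inr (Or.inl ⟨ha, hb'⟩)
      · rcases ha with ha | ha
        · exact Or.inl ⟨ha, hb'⟩
        · exact Or.inr (Or.inr ⟨ha, hb'⟩)
      · exact absurd hb' hb
  rcases three_cases h3 (f u u) with ha | ha | ha
  · exact key T' hp hvv hne (Or.inl ha)
  · exact key T' hp hvv hne (Or.inr ha)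
  · refine key (T'.rot hf) (u := v) (v := -u) ?_ (by simp [hvv]) (fun e => ?_) (Or.inr (by rw [hvv, ha, neg_neg]))
    · rw [hp]
      simp [tw_apply]
      abel
    · rw [hvv, ha, neg_neg] at e
      exact one_ne_zero e.1

end EvenCtx

end CfsgLib.Geo.OrthWreath
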