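/-
Two factors of dimension four, more than three scalars: the elements carrying a plane involution of one factor into
one factor are standard.
-/
import Cfsg.Agent.Lib.Geo.OrthWreath.Four.Std

set_option autoImplicit false
set_option linter.unusedSectionVars false

namespace CfsgLib.Geo.OrthWreath

open CfsgLib.Classical CfsgLib.Classical.Quad Module
open CfsgLib.Geo.MixTensor (SymForm)
open LinearMap (BilinForm)

variable {F : Type*} [Field F] [Finite F] {f : BilinForm F (Ud F 4)} {hf : SymForm f}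

/-- The pure tensors with given first vector are the eigenvectors of a factor element with a single eigenline. -/
theorem eigen_line {i : Fin (1 + 1)} (hf : SymForm f) {w : OQ (qU f)} {m : F} {d' : Ud F 4} (hd' : d' ≠ 0)
    (h : ∀ q, (w : Ud F 4 ≃ₗ[F] Ud F 4) q = m • q → q ∈ Submodule.span F {d'}) :
    ∃ A : Vt F 4 (1 + 1) →ₗ[F] Vt F 4 1, ∀ v, (slot hf i w : Vt F 4 (1 + 1) ≃ₗ[F] Vt F 4 (1 + 1)) v = m • v →
      v = Tm i d' (A v) := by
  set D := tensor hf i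
  obtain ⟨e, he⟩ : ∃ e, f e d' = 1 := by
    obtain ⟨z, hz⟩ : ∃ z, f z d' ≠ 0 := by
      by_contra! hc
      exact hd' (hf.nd.2 _ hc)
    exact ⟨(f z d')⁻¹ • z, by simp [hz]⟩
  refine ⟨(D.flip.C e), fun v hv => D.V_ext fun r => ?_⟩
  have hC : D.C r ((slot hf i w : Vt F 4 (1 + 1) ≃ₗ[F] Vt F 4 (1 + 1)) v) =
      (w : Ud F 4 ≃ₗ[F] Ud F 4) (D.C r v) :=
    LinearMap.congr_fun (D.hom_ext (L := D.C r ∘ₗ lm (slot hf i w)) (L' := lm w ∘ₗ D.C r) fun b q => by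
      simp [lm, slot_Tm_self, D.C_T]) v
  obtain ⟨c, hc⟩ := Submodule.mem_span_singleton.1 (h (D.C r v) (by rw [← hC, hv, map_smul]))
  rw [D.C_T, ← hc]
  congr 1
  have h1 : f e (D.C r v) = frm f 1 r (D.flip.C e v) := by
    rw [D.f_C, D.flip.f_C]
    rfl
  rw [← h1, ← hc, map_smul, smul_eq_mul, he, mul_one]

namespace EvenCtx

variable {X : Subgroup (OQ (qT f (1 + 1)))} (C : EvenCtx hf X)
include C

/-- The image of a factor element fixing an eigenspace of a transported involution. -/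
theorem transport_fix {x : OQ (qT f (1 + 1))} (hx : x ∈ X) {i j : Fin (1 + 1)} {v v' τ : OQ (qU f)}
    (h : x * slot hf i v * x⁻¹ = slot hf j v') {c : Ud F 4} (hc : f c c ≠ 0) {l : F}
    (hv' : (v' : Ud F 4 ≃ₗ[F] Ud F 4) c = l • c) (hτ : slot hf i τ ∈ X)
    (hfix : ∀ q, (v : Ud F 4 ≃ₗ[F] Ud F 4) q = l • q → (τ : Ud F 4 ≃ₗ[F] Ud F 4) q = q) :
    ∃ w, x * slot hf i τ * x⁻¹ = slot hf j w ∧ (w : Ud F 4 ≃ₗ[F] Ud F 4) c = c := by
  refine C.fix_slot_four hc (X.mul_mem (X.mul_mem hx hτ) (X.inv_mem hx)) fun a => ?_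
  set X' := (x : Vt F 4 (1 + 1) ≃ₗ[F] Vt F 4 (1 + 1))
  have hsy : ∀ b, X' ((x⁻¹ : OQ (qT f (1 + 1))).1 b) = b := fun b => by
    simp [X', Subgroup.coe_inv]
  have he : (slot hf i v : Vt F 4 (1 + 1) ≃ₗ[F] Vt F 4 (1 + 1)) ((x⁻¹ : OQ (qT f (1 + 1))).1 (Tm j c a)) =
      l • (x⁻¹ : OQ (qT f (1 + 1))).1 (Tm j c a) := by
    refine X'.injective ?_
    have h1 := congrArg (fun g : OQ (qT f (1 + 1)) => (g : Vt F 4 (1 + 1) ≃ₗ[F] Vt F 4 (1 + 1)) (Tm j c a)) h
    simp only [Subgroup.coe_mul, LinearEquiv.mul_apply, slot_Tm_self, hv', map_smul, LinearMap.smul_apply] at h1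
    rw [map_smul, hsy]
    exact h1
  simp only [Subgroup.coe_mul, LinearEquiv.mul_apply]
  rw [slot_fix_of_eigen hf he hfix, hsy]

/-- **Transporters of plane involutions with an isotropic inverted vector, for more than three scalars.** -/
theorem std_of_torus (h5 : 5 ≤ Nat.card F) {x : OQ (qT f (1 + 1))} (hx : x ∈ X) {i j : Fin (1 + 1)}
    {v v' : OQ (qU f)} (hv : PlaneHyp f v) (hv' : IsPlane v') (h : x * slot hf i v * x⁻¹ = slot hf j v') :
    IsStd x := by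
  classical
  have thin := C.toCore.thin rfl
  obtain ⟨⟨hvv, hdv⟩, d, hd0, hd, hvd⟩ := hv
  obtain ⟨a, b, ha, hb, hab, rfl⟩ := eq_rr_of_dd hf hvv (by rw [hdv]; norm_num)
  obtain ⟨s, r, rfl⟩ := rr_neg_mem hf ha hb hab hvd
  have hba : f b a = 0 := by rw [hf.symm]; exact hab
  simp [hab, hba] at hd
  have hs : s ≠ 0 := fun h0 => by
    subst h0
    simp [hb] at hd
    exact hd0 (by simp [hd])
  have h2 := hf.two
  set n := 2 * (s * s * f a a)
  have hn : n ≠ 0 := mul_ne_zero h2 (mul_ne_zero (mul_ne_zero hs hs) ha)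
  let P : Fr f := ⟨s • a + r • b, n⁻¹ • (s • a - r • b), by simp [hab, hba]; linear_combination hd,
    by simp [hab, hba]; right; linear_combination hd,
    by simp [hab, hba]; field_simp; simp only [n]; linear_combination -(1 : F) * hd⟩
  -- a multiplier
  obtain ⟨m, hm0, hmm⟩ : ∃ m : F, m ≠ 0 ∧ m * m ≠ 1 := by
    by_contra! hall
    have := Fintype.ofFinite F
    rw [Nat.card_eq_fintype_card, ← Finset.card_univ] at h5
    have hsub : (Finset.univ : Finset F) ⊆ {0, 1, -1} := fun u _ => by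
      by_cases hu : u = 0
      · simp [hu]
      · rcases mul_self_eq_one_iff.1 (hall u hu) with h | h <;> simp [h]
    have := (Finset.card_le_card hsub).trans Finset.card_le_three
    omega
  have hτ : slot hf i (P.tor hf hm0) ∈ X := by
    rw [Fr.tor, Fr.sw, Fr.sw]
    exact C.slot_rr_X i _ _
  -- a fixed anisotropic vector
  have hne : ∃ q, (v' : Ud F 4 ≃ₗ[F] Ud F 4) q ≠ (-1 : F) • q := by
    by_contra! hall
    have e : dd (lm v') = -4 := by
      have h1 : fixS (-lm v') = ⊤ := eq_top_iff.2 fun q _ => mem_fixS.2 (by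
        rw [LinearMap.neg_apply, show lm v' q = (-1 : F) • q from hall q, neg_one_smul, neg_neg])
      have h3 := fixS_add hf.two (L := lm v') (by rw [← lm_mul, hv'.1, lm_one])
      rw [h1, finrank_top, finrank_fin_fun] at h3
      rw [dd, h1, finrank_top, finrank_fin_fun]
      omega
    rw [hv'.2] at e
    norm_num at e
  obtain ⟨c, hc, hv'c⟩ := exists_eigen_aniso hf hv'.1 (e := -1) (by norm_num) hne
  rw [neg_neg] at hv'c
  obtain ⟨w, hw, -⟩ := C.transport_fix hx h hc hv'c hτ fun q hq => by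
    rw [one_smul] at hq
    have hperp : ∀ u, ((rfU hf ha * rfU hf hb : OQ (qU f)) : Ud F 4 ≃ₗ[F] Ud F 4) u = -u → f u q = 0 := fun u hu => by
      rw [hf.symm]
      exact eigen_orth hf (v := rfU hf ha * rfU hf hb) (e := 1) (one_mul 1) (by rw [hq, one_smul])
        (by rw [hu, neg_one_smul])
    have hra : ((rfU hf ha * rfU hf hb : OQ (qU f)) : Ud F 4 ≃ₗ[F] Ud F 4) a = -a := by
      rw [Subgroup.coe_mul, LinearEquiv.mul_apply, rfU_perp hf hb hba, rfU_self hf ha]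
    have hrb : ((rfU hf ha * rfU hf hb : OQ (qU f)) : Ud F 4 ≃ₗ[F] Ud F 4) b = -b := by
      rw [Subgroup.coe_mul, LinearEquiv.mul_apply, rfU_self hf hb, map_neg, rfU_perp hf ha hab]
    rw [Fr.tor_apply]
    simp [P, hperp a hra, hperp b hrb]
  -- the eigenvectors
  have hwd : ∀ z, (slot hf j w : Vt F 4 (1 + 1) ≃ₗ[F] Vt F 4 (1 + 1))
      ((x : Vt F 4 (1 + 1) ≃ₗ[F] Vt F 4 (1 + 1)) (Tm i P.d z)) =
      m • (x : Vt F 4 (1 + 1) ≃ₗ[F] Vt F 4 (1 + 1)) (Tm i P.d z) := fun z => by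
    rw [← hw]
    simp only [Subgroup.coe_mul, LinearEquiv.mul_apply]
    rw [show (x⁻¹ : OQ (qT f (1 + 1))).1 ((x : Vt F 4 (1 + 1) ≃ₗ[F] Vt F 4 (1 + 1)) (Tm i P.d z)) = Tm i P.d z from
        (x : Vt F 4 (1 + 1) ≃ₗ[F] Vt F 4 (1 + 1)).symm_apply_apply _,
      slot_Tm_self, P.tor_d hf hm0, map_smul, LinearMap.smul_apply, map_smul]
  have hsing : ∀ p q, (w : Ud F 4 ≃ₗ[F] Ud F 4) p = m • p → (w : Ud F 4 ≃ₗ[F] Ud F 4) q = m • q → f p q = 0 :=
    fun p q hp hq => by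
      have h1 := map_f hf w p q
      rw [hp, hq, map_smul, map_smul, LinearMap.smul_apply, smul_eq_mul, smul_eq_mul] at h1
      exact (mul_eq_zero.1 (show (m * m - 1) * f p q = 0 by linear_combination h1)).resolve_left
        (sub_ne_zero.2 hmm)
  set D := tensor hf j
  haveI := C.toCore.nontrivW
  obtain ⟨z₀, hz₀⟩ := exists_ne (0 : Vt F 4 1)
  have hx0 : (x : Vt F 4 (1 + 1) ≃ₗ[F] Vt F 4 (1 + 1)) (Tm i P.d z₀) ≠ 0 := by
    simp only [ne_eq, LinearEquiv.map_eq_zero_iff]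
    exact fun h0 => hz₀ ((tensor hf i).T_eq_zero' P.d_ne h0)
  obtain ⟨r₀, hr₀⟩ : ∃ r, D.C r ((x : Vt F 4 (1 + 1) ≃ₗ[F] Vt F 4 (1 + 1)) (Tm i P.d z₀)) ≠ 0 := by
    by_contra! hall
    exact hx0 (D.V_ext fun r => by rw [hall, map_zero])
  set d' := D.C r₀ ((x : Vt F 4 (1 + 1) ≃ₗ[F] Vt F 4 (1 + 1)) (Tm i P.d z₀))
  have hd'm : (w : Ud F 4 ≃ₗ[F] Ud F 4) d' = m • d' := by
    have h1 := LinearMap.congr_fun (D.hom_ext (L := D.C r₀ ∘ₗ lm (slot hf j w)) (L' := lm w ∘ₗ D.C r₀) fun b q => by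
      simp [lm, slot_Tm_self, D.C_T]) ((x : Vt F 4 (1 + 1) ≃ₗ[F] Vt F 4 (1 + 1)) (Tm i P.d z₀))
    rw [LinearMap.comp_apply, LinearMap.comp_apply,
      show lm (slot hf j w) ((x : Vt F 4 (1 + 1) ≃ₗ[F] Vt F 4 (1 + 1)) (Tm i P.d z₀)) = _ from hwd z₀, map_smul] at h1
    exact h1.symm
  obtain ⟨A, hA⟩ := eigen_line (i := j) hf (w := w) (m := m) hr₀ fun q hq =>
    thin d' q (hsing _ _ hd'm hd'm) hr₀ (hsing _ _ hd'm hq) (hsing _ _ hq hq)
  exact C.line_std hx P.d_ne P.dd (d' := d')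
    (A := A ∘ₗ (x : Vt F 4 (1 + 1) ≃ₗ[F] Vt F 4 (1 + 1)).toLinearMap ∘ₗ Tm i P.d) fun z => hA _ (hwd z)

end EvenCtx

end CfsgLib.Geo.OrthWreath
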