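/-
Two factors of dimension four: the elements carrying a plane involution of one factor into one factor are
standard.
-/
import Cfsg.Agent.Lib.Geo.OrthWreath.Four.Torus
import Cfsg.Agent.Lib.Geo.OrthWreath.Four.Three
import Cfsg.Agent.Lib.Geo.OrthWreath.Level

set_option autoImplicit false
set_option linter.unusedSectionVars false

namespace CfsgLib.Geo.OrthWreath

open CfsgLib.Classical CfsgLib.Classical.Quad Module
open CfsgLib.Geo.MixTensor (SymForm)
open LinearMap (BilinForm)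

variable {F : Type*} [Field F] [Finite F] {f : BilinForm F (Ud F 4)} {hf : SymForm f}

/-- A quarter turn with square the negative of a plane involution inverting an isotropic vector. -/
theorem exists_turn (hf : SymForm f) (thin : OrthTensorFour.Thin f) (h3 : Nat.card F = 3) {v : OQ (qU f)}
    (hv : PlaneHyp f v) :
    ∃ (c₁ c₂ : Ud F 4) (ρ : OQ (qU f)), Turn f c₁ c₂ ρ ∧
      (∃ (a b : Ud F 4) (ha : f a a ≠ 0) (hb : f b b ≠ 0), ρ = rfU hf ha * rfU hf hb) ∧
      (v : Ud F 4 ≃ₗ[F] Ud F 4) c₁ = c₁ ∧ (v : Ud F 4 ≃ₗ[F] Ud F 4) c₂ = c₂ ∧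
      ∀ q, ((ρ * ρ : OQ (qU f)) : Ud F 4 ≃ₗ[F] Ud F 4) q = -(v : Ud F 4 ≃ₗ[F] Ud F 4) q := by
  obtain ⟨⟨hvv, hdv⟩, d, hd0, hd, hvd⟩ := hv
  obtain ⟨a, b, ha, hb, hab, rfl⟩ := eq_rr_of_dd hf hvv (by rw [hdv]; norm_num)
  obtain ⟨s, r, rfl⟩ := rr_neg_mem hf ha hb hab hvd
  obtain ⟨c, e, hc, he, h⟩ := exists_quad hf ha hb hab
  obtain ⟨-, ⟨h1, h2, h3', h4, h5, h6⟩, ⟨g1, g2, g3, g4, g5, g6⟩⟩ := quad_entries h
  have nd := disc_nsq hf thin h
  have h30 := three_zero h3
  simp [hab, g1] at hd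
  have hce : f c c = f e e := by
    rcases three_cases h3 (f c c) with hc' | hc' | hc'
    · exact absurd hc' hc
    all_goals
      rcases three_cases h3 (f e e) with he' | he' | he'
      · exact absurd he' he
      all_goals
        first
          | exact hc'.trans he'.symm
          | exfalso
            rcases three_cases h3 (f a a) with ha' | ha' | ha'
            · exact ha ha'
            all_goals
              rcases three_cases h3 (f b b) with hb' | hb' | hb'
              · exact hb hb'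
              all_goals
                first
                  | exact nd ⟨1, by rw [ha', hb', hc', he']; ring1⟩
                  | (have hn : ¬ (s = 0 ∧ r = 0) := fun e0 => hd0 (by rw [e0.1, e0.2, zero_smul, zero_smul, add_zero])
                     refine sq_add_sq_ne h3 hn ?_
                     rw [ha', hb'] at hd
                     first
                       | linear_combination hd
                       | linear_combination -hd)
  obtain ⟨c₁, c₂, n1, n2, o, hcs⟩ : ∃ c₁ c₂ : Ud F 4, f c₁ c₁ = 1 ∧ f c₂ c₂ = 1 ∧ f c₁ c₂ = 0 ∧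
      ((c₁ = c ∧ c₂ = e) ∨ (c₁ = c + e ∧ c₂ = c - e)) := by
    rcases three_cases h3 (f c c) with hc' | hc' | hc'
    · exact absurd hc' hc
    · exact ⟨c, e, hc', hce ▸ hc', h6, Or.inl ⟨rfl, rfl⟩⟩
    · refine ⟨c + e, c - e, ?_, ?_, ?_, Or.inr ⟨rfl, rfl⟩⟩
      · simp [h6, g6, ← hce, hc']; linear_combination -h30
      · simp [h6, g6, ← hce, hc']; linear_combination -h30
      · simp [h6, g6, ← hce, hc']
  have n1' : f c₁ c₁ ≠ 0 := by rw [n1]; exact one_ne_zero
  have n2' : f c₂ c₂ ≠ 0 := by rw [n2]; exact one_ne_zero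
  obtain ⟨hdd, e1, e2, e3, -⟩ := quarter hf n1' n2' o (n2.trans n1.symm)
  have T : Turn f c₁ c₂ (rfU hf hdd * rfU hf n1') := ⟨n1, n2, o, e1, e2, e3⟩
  have va : ((rfU hf ha * rfU hf hb : OQ (qU f)) : Ud F 4 ≃ₗ[F] Ud F 4) a = -a := by
    rw [Subgroup.coe_mul, LinearEquiv.mul_apply, rfU_perp hf hb g1, rfU_self hf ha]
  have vb : ((rfU hf ha * rfU hf hb : OQ (qU f)) : Ud F 4 ≃ₗ[F] Ud F 4) b = -b := by
    rw [Subgroup.coe_mul, LinearEquiv.mul_apply, rfU_self hf hb, map_neg, rfU_perp hf ha hab]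
  have vc : ((rfU hf ha * rfU hf hb : OQ (qU f)) : Ud F 4 ≃ₗ[F] Ud F 4) c = c := by
    rw [Subgroup.coe_mul, LinearEquiv.mul_apply, rfU_perp hf hb h4, rfU_perp hf ha h2]
  have ve : ((rfU hf ha * rfU hf hb : OQ (qU f)) : Ud F 4 ≃ₗ[F] Ud F 4) e = e := by
    rw [Subgroup.coe_mul, LinearEquiv.mul_apply, rfU_perp hf hb h5, rfU_perp hf ha h3']
  have vadd : ∀ p q, ((rfU hf ha * rfU hf hb : OQ (qU f)) : Ud F 4 ≃ₗ[F] Ud F 4) (p + q) =
      ((rfU hf ha * rfU hf hb : OQ (qU f)) : Ud F 4 ≃ₗ[F] Ud F 4) p +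
      ((rfU hf ha * rfU hf hb : OQ (qU f)) : Ud F 4 ≃ₗ[F] Ud F 4) q := fun p q => map_add _ p q
  refine ⟨c₁, c₂, _, T, ⟨_, _, hdd, n1', rfl⟩, ?_, ?_, fun q => ?_⟩
  · rcases hcs with ⟨rfl, rfl⟩ | ⟨rfl, rfl⟩
    · exact vc
    · rw [map_add, vc, ve]
  · rcases hcs with ⟨rfl, rfl⟩ | ⟨rfl, rfl⟩
    · exact ve
    · rw [map_sub, vc, ve]
  · rw [quad_decomp hf h q]
    simp only [map_add, map_smul, T.sq hf, va, vb, vc, ve, neg_add, ← smul_neg]
    rcases hcs with ⟨rfl, rfl⟩ | ⟨rfl, rfl⟩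
    · simp [g1, g2, g3, g4, g5, g6, h1, h2, h3', h4, h5, h6, n1, n2]
      module
    · simp only [map_add, map_sub, LinearMap.add_apply, LinearMap.sub_apply, g1, g2, g3, g4, g5, g6, h1, h2, h3', h4,
        h5, h6, ← hce, add_zero, zero_add, sub_zero, zero_sub, neg_zero]
      have hcc : f c c = -1 := by
        simp only [map_add, LinearMap.add_apply, h6, g6, ← hce] at n1
        rcases three_cases h3 (f c c) with hc' | hc' | hc'
        · exact absurd hc' hc
        · exfalso; rw [hc'] at n1; exact one_ne_zero (α := F) (by linear_combination n1)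
        · exact hc'
      rw [hcc]
      match_scalars <;>
        first
          | ring1
          | linear_combination (-2 * f c q) * h30
          | linear_combination (-2 * f e q) * h30

namespace EvenCtx

variable {X : Subgroup (OQ (qT f (1 + 1)))} (C : EvenCtx hf X)
include C

/-- Transporters of plane involutions inverting an isotropic vector, for three scalars. -/
theorem std_of_hyp_three (h3 : Nat.card F = 3) {x : OQ (qT f (1 + 1))} (hx : x ∈ X) {i j : Fin (1 + 1)}
    {v v' : OQ (qU f)} (hv : PlaneHyp f v) (hv' : IsPlane v') (h : x * slot hf i v * x⁻¹ = slot hf j v') :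
    IsStd x := by
  have thin := C.toCore.thin rfl
  have h30 := three_zero h3
  obtain ⟨c₁, c₂, ρ, T, ⟨a, b, ha, hb, hρ⟩, vc1, vc2, hsq⟩ := exists_turn hf thin h3 hv
  have hτ : slot hf i ρ ∈ X := hρ ▸ C.slot_rr_X i ha hb
  have hfix : ∀ q, (v : Ud F 4 ≃ₗ[F] Ud F 4) q = (-1 : F) • q → (ρ : Ud F 4 ≃ₗ[F] Ud F 4) q = q := fun q hq =>
    T.e3 q (eigen_orth hf (v := v) (e := 1) (one_mul 1) (by rw [one_smul, vc1]) hq)
      (eigen_orth hf (v := v) (e := 1) (one_mul 1) (by rw [one_smul, vc2]) hq)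
  obtain ⟨a', b', ha', hb', hab', rfl⟩ := eq_rr_of_dd hf hv'.1 (by rw [hv'.2]; norm_num)
  obtain ⟨c, e, hc, he, hq⟩ := exists_quad hf ha' hb' hab'
  obtain ⟨-, ⟨h1, h2, h3', h4, h5, h6⟩, ⟨g1, g2, g3, g4, g5, g6⟩⟩ := quad_entries hq
  set v' := rfU hf ha' * rfU hf hb'
  have va : (v' : Ud F 4 ≃ₗ[F] Ud F 4) a' = -a' := by
    rw [Subgroup.coe_mul, LinearEquiv.mul_apply, rfU_perp hf hb' g1, rfU_self hf ha']
  have vb : (v' : Ud F 4 ≃ₗ[F] Ud F 4) b' = -b' := by
    rw [Subgroup.coe_mul, LinearEquiv.mul_apply, rfU_self hf hb', map_neg, rfU_perp hf ha' hab']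
  have vc : (v' : Ud F 4 ≃ₗ[F] Ud F 4) c = c := by
    rw [Subgroup.coe_mul, LinearEquiv.mul_apply, rfU_perp hf hb' h4, rfU_perp hf ha' h2]
  obtain ⟨w, hw, hwa⟩ := C.transport_fix hx h ha' (l := -1) (by rw [va, neg_one_smul]) hτ hfix
  obtain ⟨w', hw', hwb⟩ := C.transport_fix hx h hb' (l := -1) (by rw [vb, neg_one_smul]) hτ hfix
  obtain rfl : w' = w := slot_injective hf (by norm_num) j (hw'.symm.trans hw)
  have hm : (-1 : F) * -1 = 1 := by norm_num
  have hww : ∀ q, ((w' * w' : OQ (qU f)) : Ud F 4 ≃ₗ[F] Ud F 4) q = -(v' : Ud F 4 ≃ₗ[F] Ud F 4) q := by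
    have e1 : ρ * ρ = scU hf hm * v := qU_ext hf fun q => by
      rw [hsq, Subgroup.coe_mul, LinearEquiv.mul_apply, scU_apply, neg_one_smul]
    have e2 : w' * w' = scU hf hm * v' := slot_injective hf (by norm_num) j (by
      rw [map_mul, map_mul, ← hw, ← h, ← slot_scU_eq hf hm i j]
      calc x * slot hf i ρ * x⁻¹ * (x * slot hf i ρ * x⁻¹) = x * (slot hf i ρ * slot hf i ρ) * x⁻¹ := by group
        _ = x * slot hf i (scU hf hm) * slot hf i v * x⁻¹ := by rw [← map_mul, e1, map_mul]; group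
        _ = slot hf i (scU hf hm) * x * slot hf i v * x⁻¹ := by rw [(slot_scU_central hf hm i x).eq]
        _ = _ := by group)
    intro q
    rw [e2, Subgroup.coe_mul, LinearEquiv.mul_apply, scU_apply, neg_one_smul]
  have hw2 : ∀ q, (w' : Ud F 4 ≃ₗ[F] Ud F 4) ((w' : Ud F 4 ≃ₗ[F] Ud F 4) q) = -(v' : Ud F 4 ≃ₗ[F] Ud F 4) q :=
    fun q => by rw [← hww, Subgroup.coe_mul, LinearEquiv.mul_apply]
  set W := (w' : Ud F 4 ≃ₗ[F] Ud F 4)
  have hcw : f c (W c) = 0 := by
    have e1 := map_f hf w' c (W c)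
    rw [show (w' : Ud F 4 ≃ₗ[F] Ud F 4) (W c) = -c by rw [show (w' : Ud F 4 ≃ₗ[F] Ud F 4) (W c) = _ from hw2 c, vc]] at e1
    simp at e1
    rw [hf.symm c (W c)] at e1
    exact (mul_eq_zero.1 (show (2 : F) * f c (W c) = 0 by linear_combination -e1)).resolve_left hf.two
  have hwc : f (W c) (W c) = f c c := map_f hf w' c c
  obtain ⟨q, hq1, hqa, hqb, hqw⟩ : ∃ q, f q q = 1 ∧ f a' q = 0 ∧ f b' q = 0 ∧ W (W q) = -q := by
    have oa : f a' (W c) = 0 := by
      have e1 := map_f hf w' a' c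
      rw [hwa, h2] at e1
      exact e1
    have ob : f b' (W c) = 0 := by
      have e1 := map_f hf w' b' c
      rw [hwb, h4] at e1
      exact e1
    have ec : W (W c) = -c := by rw [hw2, vc]
    rcases three_cases h3 (f c c) with hc' | hc' | hc'
    · exact absurd hc' hc
    · exact ⟨c, hc', h2, h4, ec⟩
    · refine ⟨c + W c, ?_, by simp [h2, oa], by simp [h4, ob], by rw [map_add, map_add, ec, map_neg, neg_add]⟩
      have hcw' : f (W c) c = 0 := by rw [hf.symm]; exact hcw
      simp [hcw, hcw', hwc, hc']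
      linear_combination -h30
  have hqW : f q (W q) = 0 := by
    have e1 := map_f hf w' q (W q)
    rw [show (w' : Ud F 4 ≃ₗ[F] Ud F 4) (W q) = -q from hqw] at e1
    simp at e1
    rw [hf.symm q (W q)] at e1
    exact (mul_eq_zero.1 (show (2 : F) * f q (W q) = 0 by linear_combination -e1)).resolve_left hf.two
  have hWq : f (W q) (W q) = 1 := (map_f hf w' q q).trans hq1
  have oa : f a' (W q) = 0 := by
    have e1 := map_f hf w' a' q
    rw [hwa, hqa] at e1
    exact e1
  have ob : f b' (W q) = 0 := by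
    have e1 := map_f hf w' b' q
    rw [hwb, hqb] at e1
    exact e1
  have T' : Turn f q (-W q) w' := by
    have n2 : f (-W q) (-W q) = 1 := by simpa using hWq
    have o : f q (-W q) = 0 := by simp [hqW]
    have q0 : f q q ≠ 0 := by rw [hq1]; exact one_ne_zero
    have o4 : Orth f ![-W q, q, a', b'] :=
      ((orth_two hf ha' hb' hab').cons hf q0 (fun l => by fin_cases l <;> simp [hqa, hqb])).cons hf
        (by rw [n2]; exact one_ne_zero) (fun l => by fin_cases l <;> simp [hqW, oa, ob])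
    refine ⟨hq1, n2, o, by rw [neg_neg], by rw [map_neg, show (w' : Ud F 4 ≃ₗ[F] Ud F 4) (W q) = -q from hqw, neg_neg],
      fun p p1 p2 => ?_⟩
    have e1 := quad_decomp hf o4 p
    rw [p1, p2] at e1
    simp only [zero_div, zero_smul, zero_add] at e1
    rw [e1, map_add, map_smul, map_smul, hwa, hwb]
  exact C.std_of_turn h3 hx T T' hw

/-- **The elements carrying a plane involution of one factor into one factor are standard.** -/
theorem plane_std : PlaneStd hf X := by
  intro x hx i j v v' hv h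
  have thin := C.toCore.thin rfl
  have hm : (-1 : F) * -1 = 1 := by norm_num
  obtain ⟨v₁, hv₁, hsign⟩ := plane_hyp_sign hf thin hv
  obtain ⟨v₁', h'⟩ : ∃ v₁', x * slot hf i v₁ * x⁻¹ = slot hf j v₁' := by
    rcases hsign with e | e
    · exact ⟨v', by rw [show v₁ = v from qU_ext hf e]; exact h⟩
    · refine ⟨scU hf hm * v', ?_⟩
      rw [show v₁ = scU hf hm * v from qU_ext hf fun q => by
        rw [e, Subgroup.coe_mul, LinearEquiv.mul_apply, scU_apply, neg_one_smul], map_mul, map_mul, ← h,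
        ← slot_scU_eq hf hm i j, ← mul_assoc x, (slot_scU_central hf hm i x).eq]
      group
  have hsq : v₁' * v₁' = 1 := slot_injective hf (by norm_num) j (by
    rw [map_mul, map_one, ← h']
    calc _ = x * (slot hf i v₁ * slot hf i v₁) * x⁻¹ := by group
      _ = 1 := by rw [← map_mul, hv₁.1.1, map_one, mul_one, mul_inv_cancel])
  have hp : IsPlane v₁' := by
    refine ⟨hsq, ?_⟩
    have h6 := congrArg (fun g => dd (lm g)) h'
    simp only [dd_conj, dd_slot hf hv₁.1.1, dd_slot hf hsq, hv₁.1.2, zero_mul] at h6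
    simpa using h6.symm
  by_cases h5 : 5 ≤ Nat.card F
  · exact C.std_of_torus h5 hx hv₁ hp h'
  · refine C.std_of_hyp_three ?_ hx hv₁ hp h'
    by_contra h3
    exact h5 (five_le_card hf.two h3)

end EvenCtx

end CfsgLib.Geo.OrthWreath
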